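import Cfsg.Agent.J4R.Mod

set_option autoImplicit false

namespace Cfsg.Agent.J4R

open Subgroup Cfsg.Agent.H14 Cfsg.Agent.SGJ4 AG Cfsg.Agent.H80.J4 Cfsg.Agent.H70

namespace AB0

theorem ord_conj {G : Type*} [Group G] (g a : G) : orderOf (g * a * g⁻¹) = orderOf a :=
  (MulAut.conj g).orderOf_eq a

def c3 : ℕ := nat_lit 0xf28b7bf14e222b660702fffa1e24617a0e9fbb8d41b2d27c6b09a445434e45a820

theorem inS_c3 : InS X c3 := (show cw xG [2, 0, 0, 0, 2, 2, 3, 0, 1, 2, 0, 2, 0, 0, 3] = c3 by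
  decide +kernel) ▸ inS_cw inS_xG _

theorem exists_three {y : Vb} (h : u0.m y = y) :
    ∃ e ∈ Hb, orderOf e = 3 ∧ e * (tr y * u0) * e⁻¹ = tr y * u0 := by
  have k : force (cA c3) (fun A => force (cA (nthD gH cone 7)) fun M => all2 64 64 fun y =>
      bimp (Nat.beq (ap M y) y) (anyL [0, 1, 2, 3, 8, 9, 10, 11, 16, 17, 18, 19, 24, 25, 26, 27]
        fun w => Nat.ble w 4095 && Nat.beq (ap A y) (Nat.xor (Nat.xor w (ap M w)) y))) = true := by
    decide +kernel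
  have hu : cd u0 = _ := cd_eH 7
  have ha := inS_c3.cd_ofC
  rw [force_eq, force_eq, ← hu, ← ha] at k
  obtain ⟨w, -, hw⟩ := anyL_iff.1 (bimp_iff.1 (all2_iff.1 k _ y.lt) (beq_iff.2 (by rw [← val_m, h])))
  simp only [Bool.and_eq_true, ble_iff, beq_iff] at hw
  have e1 : (ofC c3).m y = Vb.of w + u0.m (Vb.of w) + y := Vb.ext (by
    rw [val_m, hw.2, Vb.val_add, Vb.val_add, val_m, Vb.val_of_lt (by omega)]; rfl)
  have e2 : ofC c3 * u0 = u0 * ofC c3 := cd_inj.1 (by rw [cd_mul, cd_mul, ha, hu]; decide +kernel)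
  have e3 : orderOf (ofC c3) = 3 := orderOf_eq_prime (cd_inj.1 (by
    rw [cd_pow, ha, cd_one]; decide +kernel)) fun h => absurd (ha.symm.trans (h ▸ cd_one)) (by
      decide +kernel)
  have e4 : Commute (tr (Vb.of w) * ofC c3) (tr y * u0) := by
    change _ * _ = _ * _
    rw [mul_assoc, ← mul_assoc (ofC c3), mul_tr, mul_assoc, e2, mul_assoc, ← mul_assoc u0, mul_tr,
      ← mul_assoc, ← tr_add, mul_assoc (tr _) u0, ← mul_assoc (tr y), ← tr_add, e1,
      add_assoc, Vb.add_add_cancel, add_comm]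
  have e5 : 3 ∣ orderOf (tr (Vb.of w) * ofC c3) := by
    have := orderOf_map_dvd lin (tr (Vb.of w) * ofC c3)
    rwa [lin_tr_mul _ inS_c3.ofC_mem, e3] at this
  exact ⟨_, pow_mem (mul_mem (tr_mem_Hb _) (X_le_Hb inS_c3.ofC_mem)) _,
    orderOf_pow_orderOf_div (orderOf_pos _).ne' e5, mul_inv_eq_iff_eq_mul.2 (e4.pow_left _)⟩

theorem o_xb : orderOf xb = 3 :=
  orderOf_eq_prime xb_cube fun h => absurd (cd_xb'.symm.trans (h ▸ cd_one)) (by decide +kernel)

theorem exists_fix {v : Vb} (h : v ≠ 0) : ∃ e ∈ Hb, orderOf e = 3 ∧ e * tr v * e⁻¹ = tr v := by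
  obtain ⟨n, h1, h2⟩ : ∃ n : ℕ, ty (Vb.of n).val = ty v.val ∧ xb.m (Vb.of n) = Vb.of n := by
    have := ty_lt v.val
    have := mt ty_eq_zero.1 h
    obtain e | e | e : ty v.val = 1 ∨ ty v.val = 2 ∨ ty v.val = 3 := by omega
    · exact ⟨1408, e ▸ by decide +kernel, by rw [m_of, cd_xb']; decide +kernel⟩
    · exact ⟨1843, e ▸ by decide +kernel, by rw [m_of, cd_xb']; decide +kernel⟩
    · exact ⟨444, e ▸ by decide +kernel, by rw [m_of, cd_xb']; decide +kernel⟩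
  obtain ⟨a, ha, -, rfl⟩ := orbit_ty h1
  refine ⟨a * xb * a⁻¹, X_le_Hb (mul_mem (mul_mem ha xb_mem_X) (inv_mem ha)),
    (ord_conj _ _).trans o_xb, ?_⟩
  rw [conj_tr, mul_m, mul_m, inv_m_m, h2]

end AB0

namespace Emb

open AB0

variable {Γ : Type*} [Group Γ] [Finite Γ] (T : Emb Γ)

omit [Finite Γ] in
theorem ord (a : Hb) : orderOf (T.θ a) = orderOf (a : AG) := by
  rw [orderOf_injective _ T.inj, Subgroup.orderOf_coe]

theorem le_of_three {P : Subgroup Γ} (hP : IsPGroup 3 P) {a : Hb} (o : orderOf (a : AG) = 3)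
    (h : T.θ a ∈ P) : P ≤ T.θ.range := by
  refine (eq_of_inf_norm_le hP (X := P ⊓ T.θ.range) inf_le_left fun g hg => ⟨hg.1, ?_⟩).ge.trans
    inf_le_right
  obtain ⟨b, hb⟩ := (conj_mem_of_mem_norm hg.2 (⟨h, a, rfl⟩ : T.θ a ∈ P ⊓ T.θ.range)).2
  exact T.strong g a b ((Subgroup.orderOf_coe a).symm.trans o) hb.symm

theorem over_l2 {g : Γ} {v : Vb} {b : Hb} (h : g * T.θ ⟨tr v, tr_mem_Hb v⟩ * g⁻¹ = T.θ b) :
    (b : AG) ∈ Tr ∨ ¬ Inner (b : AG) := by
  refine or_iff_not_imp_right.2 fun hi => by_contra fun hb => ?_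
  have h2 : (b : AG) * b = 1 := congrArg Subtype.val (T.inj (a₁ := b * b) (a₂ := 1) (by
    rw [map_mul, ← h, conj_mul, ← map_mul, map_one, conj_eq_one_iff]
    exact (congrArg T.θ (Subtype.ext (tr_mul_self v))).trans (map_one _)))
  obtain ⟨x, hx, -, e⟩ := inner_inv_conj (lin_mem_X b.2) (not_not.1 hi) (lin_mul_self h2) hb
  let b' : Hb := ⟨x, X_le_Hb hx⟩ * b * ⟨x, X_le_Hb hx⟩⁻¹
  have e1 : tr (b' : AG).v * u0 = b' := by
    rw [← e, ← lin_of_mem_X hx, ← map_inv, ← map_mul, ← map_mul]; exact tr_mul_lin _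
  have h3 : (b' : AG) * b' = 1 := (conj_mul ..).trans (conj_eq_one_iff.2 h2)
  obtain ⟨e', m1, o1, c1⟩ := exists_three (y := (b' : AG).v) (by
    have := fix_of_mul_self h3
    rwa [← e1, mul_m, tr_m, tr_mul_v _ u0_mem] at this)
  obtain ⟨e, m2, o2, c2⟩ := exists_fix (v := v) (by
    rintro rfl
    rw [show (⟨tr 0, tr_mem_Hb 0⟩ : Hb) = 1 from rfl, map_one, mul_one, mul_inv_cancel, eq_comm,
      map_eq_one_iff _ T.inj] at h
    exact hb (h ▸ one_mem _))
  rw [e1] at c1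
  set t := T.θ ⟨tr v, tr_mem_Hb v⟩ with ht
  let k := T.θ ⟨x, X_le_Hb hx⟩ * g
  have hk : k * t * k⁻¹ = T.θ b' := by
    simp only [k, b', map_mul, map_inv, ← h]; group
  have p3 : ∀ {a : Γ}, orderOf a = 3 → IsPGroup 3 (zpowers a) := fun h =>
    .of_card (n := 1) (by rw [Nat.card_zpowers, h, pow_one])
  obtain ⟨S, hS, h4⟩ := H92.exists_sylIn_ge (Q := zpowers (T.θ ⟨e, m2⟩))
    (H := centralizer {t}) (zpowers_le.2 (mem_centralizer_singleton_iff.2 (by
      rw [ht, ← map_mul, ← map_mul]; exact congrArg _ (Subtype.ext (mul_inv_eq_iff_eq_mul.1 c2)))))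
    (p3 ((T.ord ⟨e, m2⟩).trans o2))
  obtain ⟨n, hn, h5⟩ := sylIn_exists_cj_le hS (R := zpowers (k⁻¹ * T.θ ⟨e', m1⟩ * k⁻¹⁻¹))
    (zpowers_le.2 (mem_centralizer_singleton_iff.2 (by
      have : T.θ ⟨e', m1⟩ * T.θ b' * (T.θ ⟨e', m1⟩)⁻¹ = T.θ b' := by
        rw [← map_inv, ← map_mul, ← map_mul]; exact congrArg _ (Subtype.ext c1)
      rw [← hk] at this
      calc _ = k⁻¹ * (T.θ ⟨e', m1⟩ * (k * t * k⁻¹) * (T.θ ⟨e', m1⟩)⁻¹) * T.θ ⟨e', m1⟩ * k := by group
        _ = _ := by rw [this]; group)))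
    (p3 ((ord_conj _ _).trans ((T.ord _).trans o1)))
  obtain ⟨c, hc⟩ := T.le_of_three hS.pgroup o2 (h4 (mem_zpowers _))
    (h5 (conj_mem_cj n (mem_zpowers _)))
  obtain ⟨d, hd⟩ := T.strong (n * k⁻¹) ⟨e', m1⟩ c ((Subgroup.orderOf_coe _).symm.trans o1)
    (by rw [hc]; group)
  have : d * b' * d⁻¹ = ⟨tr v, tr_mem_Hb v⟩ := T.inj (by
    rw [map_mul, map_mul, map_inv, hd, ← hk, ← ht]
    calc _ = n * t * n⁻¹ := by group
      _ = _ := mul_inv_eq_iff_eq_mul.2 (mem_centralizer_singleton_iff.1 hn))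
  have h6 := congrArg (fun a : Hb => lin (a : AG)) this
  simp only [b', coe_mul, coe_inv, map_mul, map_inv, lin_tr, conj_eq_one_iff] at h6
  exact hb h6

theorem weak {g : Γ} (h : cj g ((Tr.subgroupOf Hb).map T.θ) ≤ T.θ.range) : g ∈ T.θ.range := by
  choose β hβ using fun v => h (conj_mem_cj g
    (mem_map_of_mem T.θ (x := ⟨tr v, tr_mem_Hb v⟩) (tr_mem_Tr v)))
  refine T.norm (mem_normalizer_of_cj_le (cj_le_iff.2 ?_))
  rintro _ ⟨⟨_, h1⟩, h2, rfl⟩
  obtain ⟨v, rfl⟩ := mem_Tr.1 h2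
  refine hβ v ▸ mem_map_of_mem _ (by_contra fun h3 => ?_)
  have add : ∀ v w, β (v + w) = β v * β w := fun v w => T.inj (by
    rw [map_mul, hβ, hβ, hβ, conj_mul, ← map_mul]; rfl)
  have o := fun v => T.over_l2 (hβ v).symm
  have h4 := (o v).resolve_left h3
  have h0 : β 0 = 1 := by simpa using add 0 0
  have h5 := (ncard_fix_outer (lin_mem_X (β v).2) h4 (lin_mul_self (by
    rw [← coe_mul, ← add, Vb.add_self, h0, coe_one]))).1
  have h6 : {w | (β w : AG) ∈ Tr}.ncard ≤ 64 := h5 ▸ Set.ncard_le_ncard_of_injOn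
    (fun w => (β w : AG).v) (fun w hw => tr_inj.1 (by
      rw [lin_m, ← conj_tr, ← lin_eq_one.1 hw, ← coe_mul, ← add, add_comm, add, coe_mul,
        mul_inv_cancel_right])) fun w hw w' hw' e => by
      have : β w = β w' := Subtype.ext (by rw [lin_eq_one.1 hw, lin_eq_one.1 hw']; exact congrArg _ e)
      have := (hβ w).symm.trans (this ▸ hβ w')
      rw [mul_left_inj, mul_right_inj] at this
      exact tr_inj.1 (congrArg Subtype.val (T.inj this))
  have h7 : (Set.univ : Set Vb) ⊆ {w | (β w : AG) ∈ Tr} ∪ (· + v) '' {w | (β w : AG) ∈ Tr} :=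
    fun w _ => (o w).imp_right fun h => ⟨w + v, (o _).resolve_right fun h' => h' (by
      rw [add, coe_mul, inner_mul (β w).2 (β v).2]; tauto),
        (add_assoc ..).trans (by rw [Vb.add_self, add_zero])⟩
  have := (Set.ncard_le_ncard h7).trans ((Set.ncard_union_le _ _).trans
    (add_le_add h6 ((Set.ncard_image_le).trans h6)))
  rw [Set.ncard_univ, Vb.card_eq] at this
  omega

omit [Finite Γ] in
theorem range_le_norm : T.θ.range ≤ normalizer (((Tr.subgroupOf Hb).map T.θ : Subgroup Γ) : Set Γ) :=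
  MonoidHom.range_eq_map T.θ ▸ norm_map _ (norm_of_normal (A := lin.ker.subgroupOf Hb))

theorem le_of_two {P : Subgroup Γ} (hP : IsPGroup 2 P) {g : Γ}
    (h : cj g ((Tr.subgroupOf Hb).map T.θ) ≤ P) : cj g⁻¹ P ≤ T.θ.range :=
  (eq_of_inf_norm_le (isPGroup_cj g⁻¹ hP) (X := cj g⁻¹ P ⊓ T.θ.range) inf_le_left fun _ hg =>
    ⟨hg.1, T.weak ((cj_le_of_mem_norm hg.2 (le_inf (cj_le_iff_le_cj_inv.1 h)
      (map_le_range _ _))).trans inf_le_right)⟩).ge.trans inf_le_right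

theorem two_le {P : Subgroup Γ} (hP : IsPGroup 2 P) : ∃ g, cj g P ≤ T.θ.range := by
  obtain ⟨S, hS, h⟩ := H92.exists_sylIn_ge (p := 2) (H := ⊤) (Q := (Tr.subgroupOf Hb).map T.θ)
    le_top ((isPGroup_subgroupOf (.of_card (n := 12) card_Tr)).map _)
  obtain ⟨g, -, hg⟩ := sylIn_exists_cj_le hS le_top hP
  have := T.le_of_two hS.pgroup (g := 1) (by rwa [cj_one])
  exact ⟨g, hg.trans (by rwa [inv_one, cj_one] at this)⟩

theorem three_le {P : Subgroup Γ} (hP : IsPGroup 3 P) : ∃ g, cj g P ≤ T.θ.range := by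
  obtain ⟨S, hS, h⟩ := H92.exists_sylIn_ge (p := 3) (H := ⊤)
    (Q := zpowers (T.θ ⟨om, X_le_Hb om_mem⟩)) le_top
    (.of_card (n := 1) (by rw [Nat.card_zpowers, T.ord, orderOf_om, pow_one]))
  obtain ⟨g, -, hg⟩ := sylIn_exists_cj_le hS le_top hP
  exact ⟨g, hg.trans (T.le_of_three hS.pgroup orderOf_om (h (mem_zpowers _)))⟩

theorem le_norm_of_two {P : Subgroup Γ} (hP : IsPGroup 2 P) {g : Γ}
    (h : cj g ((Tr.subgroupOf Hb).map T.θ) ≤ P) :
    P ≤ normalizer ((cj g ((Tr.subgroupOf Hb).map T.θ) : Subgroup Γ) : Set Γ) :=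
  cj_normalizer g _ ▸ le_cj_iff.2 ((T.le_of_two hP h).trans T.range_le_norm)

theorem cj_eq_of_two {P : Subgroup Γ} (hP : IsPGroup 2 P) {g k : Γ}
    (h : cj g ((Tr.subgroupOf Hb).map T.θ) ≤ P) (h' : cj k ((Tr.subgroupOf Hb).map T.θ) ≤ P) :
    cj g ((Tr.subgroupOf Hb).map T.θ) = cj k ((Tr.subgroupOf Hb).map T.θ) :=
  cj_eq_cj_iff.2 (T.range_le_norm (T.weak (by
    rw [cj_mul]; exact (cj_mono _ h).trans (T.le_of_two hP h'))))

theorem le_of_three' {A : Subgroup Γ} (h3 : ¬ 3 ∣ Nat.card A)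
    (h1 : T.θ ⟨om, X_le_Hb om_mem⟩ ∈ normalizer (A : Set Γ))
    (h2 : T.θ ⟨xb, X_le_Hb xb_mem_X⟩ ∈ normalizer (A : Set Γ)) : A ≤ T.θ.range := by
  set a := T.θ ⟨om, X_le_Hb om_mem⟩ with ha
  set b := T.θ ⟨xb, X_le_Hb xb_mem_X⟩ with hb
  have oa : orderOf a = 3 := (T.ord _).trans orderOf_om
  have ob : orderOf b = 3 := (T.ord _).trans o_xb
  have c : b * a = a * b := by
    rw [← map_mul, ← map_mul]
    exact congrArg _ (Subtype.ext ((mem_X0_iff (X0_le_Hb xb_mem0)).1 xb_mem0))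
  have hc : IsMulCommutative (closure {a, b}) := isMulCommutative_closure (by
    rintro _ (rfl | rfl) _ (rfl | rfl); exacts [rfl, c.symm, c, rfl])
  have e : ∀ x ∈ closure {a, b}, x ^ 3 = 1 := fun x hx => by
    induction hx using closure_induction with
    | mem _ h => rcases h with rfl | rfl; exacts [oa ▸ pow_orderOf_eq_one _, ob ▸ pow_orderOf_eq_one _]
    | one => exact one_pow _
    | mul x y hx hy h h' =>
      rw [(show Commute x y from setLike_mul_comm hx hy).mul_pow, h, h', one_mul]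
    | inv x _ h => rw [inv_pow, h, inv_one]
  have l : closure {a, b} ≤ T.θ.range := (closure_le _).2 (by rintro _ (rfl | rfl) <;> exact ⟨_, rfl⟩)
  refine H46.le_of_forall_element (p := 3) (isPGroup_iff_mem.2 fun x hx => ⟨1, e x hx⟩) hc
    (fun h => ?_) h3 ((closure_le _).2 (by rintro _ (rfl | rfl); exacts [h1, h2])) fun x hx h g hg => ?_
  · have h4 : zpowers a = closure {a, b} := eq_of_le_of_card_ge
      (zpowers_le.2 (subset_closure (by simp))) (by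
        rw [Nat.card_zpowers, oa, ← IsCyclic.exponent_eq_card]
        exact Nat.le_of_dvd (by decide) (Monoid.exponent_dvd_of_forall_pow_eq_one fun x =>
          Subtype.ext (e x x.2)))
    obtain ⟨n, hn⟩ : b ∈ zpowers a := h4 ▸ subset_closure (by simp)
    have h5 : xb ∈ zpowers om := ⟨n, congrArg Subtype.val (T.inj ((map_zpow _ _ n).trans hn))⟩
    rcases mem_zpowers_om.1 h5 with h | h | h <;> have := congrArg cd h <;>
      simp only [cd_mul, cd_xb', cd_om, cd_one] at this <;> revert this <;> decide +kernel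
  · obtain ⟨y, rfl⟩ := l hx
    exact T.strong g y y ((orderOf_injective _ T.inj y).symm.trans (orderOf_eq_prime (e _ hx) h))
      (mul_inv_eq_iff_eq_mul.2 (mem_centralizer_singleton_iff.1 hg.2))

end Emb

end Cfsg.Agent.J4R
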