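/-
Project J4R, section AB1: the translation group is strongly closed in the model.
-/
import Cfsg.Agent.J4R.AB0
import Cfsg.Agent.S0215
import Cfsg.Agent.H70.Syl
import Cfsg.Agent.H8.OddCore

set_option autoImplicit false

namespace Cfsg.Agent.J4R

open Subgroup Cfsg.Agent.H14 Cfsg.Agent.SGJ4 AG Cfsg.Agent.H80.J4 Cfsg.Agent.H70 Cfsg.Agent.H92

namespace AB1

/-- an element isolated modulo a normal subgroup is central modulo the odd core -/
theorem zstar_mod {Y : Type*} [Group Y] [Finite Y] (S : Sylow 2 Y) (B : Subgroup Y) [B.Normal]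
    (hB : B ≤ S) {w : Y} (hw : w ∈ (S : Subgroup Y)) (w2 : w * w ∈ B) (hwB : w ∉ B)
    (h1 : ∀ g, g * w * g⁻¹ ∈ (S : Subgroup Y) → w⁻¹ * (g * w * g⁻¹) ∈ B) (g : Y ⧸ B) :
    (w : Y ⧸ B) * g * (w : Y ⧸ B)⁻¹ * g⁻¹ ∈ pPrimeCore 2 (Y ⧸ B) := by
  obtain ⟨N, hN, ho, h⟩ := S0215.result (S.mapSurjective (QuotientGroup.mk'_surjective B))
    (w : Y ⧸ B) (orderOf_eq_prime (by
      rw [sq, ← QuotientGroup.mk_mul, QuotientGroup.eq_one_iff]; exact w2)
      (by rwa [Ne, QuotientGroup.eq_one_iff])) ⟨w, hw, rfl⟩ (fun g hg => by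
      obtain ⟨g, rfl⟩ := QuotientGroup.mk_surjective g
      obtain ⟨s, hs, e⟩ := hg
      have e' : ((s : Y) : Y ⧸ B) = ((g * w * g⁻¹ : Y) : Y ⧸ B) := e
      have h2 : g * w * g⁻¹ ∈ (S : Subgroup Y) := by
        have := (S : Subgroup Y).mul_mem hs (hB (QuotientGroup.eq.1 e'))
        rwa [mul_inv_cancel_left] at this
      exact (QuotientGroup.eq.2 (h1 g h2)).symm)
  exact H8.le_pPrimeCore_two hN ho (h g)

theorem zstar_pair {Y : Type*} [Group Y] [Finite Y] (S : Sylow 2 Y) (B : Subgroup Y) [B.Normal]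
    (hB : B ≤ S) {w c m : Y} (hw : w ∈ (S : Subgroup Y)) (hc : c ∈ (S : Subgroup Y))
    (w2 : w * w ∈ B) (wc2 : w * c * (w * c) ∈ B) (hwB : w ∉ B) (hwc : w * c ∉ B)
    (h1 : ∀ g, g * w * g⁻¹ ∈ (S : Subgroup Y) → w⁻¹ * (g * w * g⁻¹) ∈ B)
    (h2 : ∀ g, g * (w * c) * g⁻¹ ∈ (S : Subgroup Y) → (w * c)⁻¹ * (g * (w * c) * g⁻¹) ∈ B)
    (hm : m * c * m⁻¹ ∈ (S : Subgroup Y)) : c⁻¹ * (m * c * m⁻¹) ∈ B := by
  have a1 := zstar_mod S B hB hw w2 hwB h1 (m : Y ⧸ B)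
  have a2 := zstar_mod S B hB (mul_mem hw hc) wc2 hwc h2 (m : Y ⧸ B)
  have a3 : ((c⁻¹ * (m * c * m⁻¹) : Y) : Y ⧸ B) ∈ pPrimeCore 2 (Y ⧸ B) := by
    rw [← QuotientGroup.eq_one_iff] at a1 a2 ⊢
    simp only [QuotientGroup.mk_mul, QuotientGroup.mk_inv, mul_inv_eq_iff_eq_mul,
      one_mul] at a1 a2 ⊢
    rw [← mul_assoc, ← a1, mul_assoc, mul_assoc, mul_right_inj] at a2
    rw [← a2]; group
  have a4 : IsPGroup 2 ((S : Subgroup Y).map (QuotientGroup.mk' B)) := S.isPGroup'.map _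
  obtain ⟨k, hk⟩ := isPGroup_iff_mem.1 a4 _ ⟨_, mul_mem (inv_mem hc) hm, rfl⟩
  have a5 := (H8.odd_card_pPrimeCore (G := Y ⧸ B)).of_dvd_nat (orderOf_dvd_natCard _ a3)
  rw [← QuotientGroup.eq_one_iff, ← orderOf_eq_one_iff]
  exact Nat.Coprime.eq_one_of_dvd ((Nat.coprime_two_right.2 a5).pow_right k)
    (orderOf_dvd_of_pow_eq_one hk)

/-- the same for subgroups of an ambient group -/
theorem zstar_amb {Γ : Type*} [Group Γ] [Finite Γ] {S B : Subgroup Γ}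
    (hS : SylIn 2 S (centralizer (B : Set Γ))) (hB : B ≤ S) {w c m : Γ} (hw : w ∈ S) (hc : c ∈ S)
    (w2 : w * w = 1) (wc2 : w * c * (w * c) = 1) (hwB : w ∉ B) (hwc : w * c ∉ B)
    (h1 : ∀ g ∈ centralizer (B : Set Γ), g * w * g⁻¹ ∈ S → w⁻¹ * (g * w * g⁻¹) ∈ B)
    (h2 : ∀ g ∈ centralizer (B : Set Γ), g * (w * c) * g⁻¹ ∈ S →
      (w * c)⁻¹ * (g * (w * c) * g⁻¹) ∈ B)
    (hmY : m ∈ centralizer (B : Set Γ)) (hm : m * c * m⁻¹ ∈ S) : c⁻¹ * (m * c * m⁻¹) ∈ B := by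
  have : (B.subgroupOf (centralizer (B : Set Γ))).Normal := ⟨fun b hb g => by
    rw [mem_subgroupOf] at hb ⊢
    have := g.2 b hb
    simp only [coe_mul, InvMemClass.coe_inv]
    rwa [← this, mul_inv_cancel_right]⟩
  exact zstar_pair hS.toSylow (B.subgroupOf _) (fun _ h => hB h) (w := ⟨w, hS.le hw⟩)
    (c := ⟨c, hS.le hc⟩) (m := ⟨m, hmY⟩) hw hc (show w * w ∈ B from w2 ▸ one_mem _)
    (show w * c * (w * c) ∈ B from wc2 ▸ one_mem _) hwB hwc (fun g hg => h1 g g.2 hg)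
    (fun g hg => h2 g g.2 hg) hm

variable {Γ : Type*} [Group Γ] (T : Emb Γ)

/-- the image of a translation -/
def q (v : Vb) : Γ := T.θ ⟨tr v, tr_mem_Hb v⟩
/-- the image of the translation group -/
abbrev Q : Subgroup Γ := (Tr.subgroupOf Hb).map T.θ

theorem q_add (v w : Vb) : q T (v + w) = q T v * q T w := by rw [q, q, q, ← map_mul]; rfl
theorem q_zero : q T 0 = 1 := map_one T.θ
theorem q_sq (v : Vb) : q T v * q T v = 1 := by rw [← q_add, Vb.add_self, q_zero]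
theorem q_inv (v : Vb) : (q T v)⁻¹ = q T v := inv_eq_of_mul_eq_one_right (q_sq T v)
theorem q_comm (v w : Vb) : q T v * q T w = q T w * q T v := by rw [← q_add, add_comm, q_add]
theorem q_inj {v w : Vb} : q T v = q T w ↔ v = w :=
  ⟨fun h => tr_inj.1 (congrArg Subtype.val (T.inj h)), fun h => h ▸ rfl⟩
theorem mem_Q {x : Γ} : x ∈ Q T ↔ ∃ v, q T v = x := by
  refine ⟨fun ⟨a, ha, e⟩ => ?_, fun ⟨v, e⟩ => ⟨_, tr_mem_Tr v, e⟩⟩
  obtain ⟨v, hv⟩ := mem_Tr.1 (show (a : AG) ∈ Tr from ha)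
  exact ⟨v, e ▸ congrArg T.θ (Subtype.ext hv)⟩
theorem q_mem (v : Vb) : q T v ∈ Q T := (mem_Q T).2 ⟨v, rfl⟩
theorem th_mem_Q {b : Hb} : T.θ b ∈ Q T ↔ (b : AG) ∈ Tr :=
  ⟨fun ⟨_, ha, e⟩ => T.inj e ▸ ha, fun h => ⟨b, h, rfl⟩⟩
theorem conj_q (b : Hb) (v : Vb) : T.θ b * q T v * (T.θ b)⁻¹ = q T ((b : AG).m v) := by
  rw [q, q, ← map_inv, ← map_mul, ← map_mul]
  exact congrArg T.θ (Subtype.ext (conj_tr _ _))
theorem Q_le : Q T ≤ T.θ.range := map_le_range _ _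
theorem Q_two : IsPGroup 2 (Q T) := isPGroup_iff_mem.2 fun x hx => by
  obtain ⟨v, rfl⟩ := (mem_Q T).1 hx
  exact ⟨1, by rw [pow_one, sq, q_sq]⟩
theorem Q_comm {x y : Γ} (hx : x ∈ Q T) (hy : y ∈ Q T) : x * y = y * x := by
  obtain ⟨v, rfl⟩ := (mem_Q T).1 hx
  obtain ⟨w, rfl⟩ := (mem_Q T).1 hy
  exact q_comm T v w
theorem range_le_norm : T.θ.range ≤ normalizer (Q T : Set Γ) := by
  rintro _ ⟨b, rfl⟩
  refine mem_normalizer_iff.2 fun x => ⟨fun hx => ?_, fun hx => ?_⟩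
  · obtain ⟨v, rfl⟩ := (mem_Q T).1 hx
    rw [conj_q]; exact q_mem T _
  · obtain ⟨v, hv⟩ := (mem_Q T).1 hx
    have : x = T.θ b⁻¹ * q T v * (T.θ b⁻¹)⁻¹ := by rw [hv, map_inv]; group
    rw [this, conj_q]; exact q_mem T _
theorem cj_comm {g x y : Γ} (hx : x ∈ cj g (Q T)) (hy : y ∈ cj g (Q T)) : x * y = y * x := by
  have := Q_comm T (mem_cj.1 hx) (mem_cj.1 hy)
  calc x * y = g * (g⁻¹ * x * g * (g⁻¹ * y * g)) * g⁻¹ := by group
    _ = g * (g⁻¹ * y * g * (g⁻¹ * x * g)) * g⁻¹ := by rw [this]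
    _ = y * x := by group

variable [Finite Γ]

/-- a 2-subgroup above `Q` lies in the model -/
theorem le_range_of_two {P : Subgroup Γ} (hP : IsPGroup 2 P) (h : Q T ≤ P) : P ≤ T.θ.range := by
  have := T.le_norm_of_two hP (g := 1) (by rwa [cj_one])
  rw [cj_one] at this
  exact this.trans T.norm

/-- control of fusion in `Q` by the model, inside any overgroup of `Q` -/
theorem control {Y : Subgroup Γ} (hY : Q T ≤ Y) {m a : Γ} (hm : m ∈ Y) (ha : a ∈ Q T)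
    (ha' : m * a * m⁻¹ ∈ Q T) : ∃ s ∈ Y ⊓ T.θ.range, s * a * s⁻¹ = m * a * m⁻¹ := by
  have h1 : Q T ≤ Y ⊓ centralizer {m * a * m⁻¹} := fun x hx =>
    ⟨hY hx, mem_centralizer_singleton_iff.2 (Q_comm T hx ha')⟩
  have h2 : cj m (Q T) ≤ Y ⊓ centralizer {m * a * m⁻¹} := fun x hx =>
    ⟨cj_le_of_mem hm hY hx, mem_centralizer_singleton_iff.2 (cj_comm T hx (conj_mem_cj m ha))⟩
  obtain ⟨P, hP, hQP⟩ := exists_sylIn_ge h1 (Q_two T)
  obtain ⟨n, hn, h3⟩ := sylIn_exists_cj_le hP h2 (isPGroup_cj m (Q_two T))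
  rw [← cj_mul] at h3
  have h4 := T.cj_eq_of_two hP.pgroup h3 (k := 1) (by rwa [cj_one])
  rw [cj_one] at h4
  refine ⟨n * m, ⟨mul_mem hn.1 hm, T.norm (cj_eq_self_iff.1 h4)⟩, ?_⟩
  have := mem_centralizer_singleton_iff.1 hn.2
  calc n * m * a * (n * m)⁻¹ = n * (m * a * m⁻¹) * n⁻¹ := by group
    _ = _ := by rw [this, mul_inv_cancel_right]

omit [Finite Γ] in
theorem card_le_two_mul {F B : AddSubgroup Vb}
    (h : ∀ u ∈ F, ∀ w ∈ F, u ∉ B → w ∉ B → u + w ∈ B) : Nat.card F ≤ 2 * Nat.card B := by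
  by_cases hle : F ≤ B
  · have := AddSubgroup.card_le_of_le hle; omega
  obtain ⟨u, hu, hu'⟩ := SetLike.not_le_iff_exists.1 hle
  have h1 : (F : Set Vb) ⊆ (B : Set Vb) ∪ (fun x => u + x) '' (B : Set Vb) := fun w hw => by
    by_cases hw' : w ∈ B
    · exact Or.inl hw'
    · exact Or.inr ⟨u + w, h u hu w hw hu' hw', by
        change u + (u + w) = w; rw [← add_assoc, Vb.add_self, zero_add]⟩
  have h2 := (Set.ncard_le_ncard h1).trans (Set.ncard_union_le _ _)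
  have h3 : ((fun x => u + x) '' (B : Set Vb)).ncard ≤ (B : Set Vb).ncard := Set.ncard_image_le
  rw [← Nat.card_coe_set_eq, ← Nat.card_coe_set_eq (B : Set Vb)] at h2
  rw [← Nat.card_coe_set_eq (B : Set Vb)] at h3
  change Nat.card F ≤ Nat.card B + _ at h2
  change _ ≤ Nat.card B at h3
  omega

omit [Finite Γ] in
theorem mem_Tr_of_fix {b s : AG} (hb : b ∈ Hb) (ho : ¬ Inner b) {B : AddSubgroup Vb}
    (hB : ∀ u ∈ B, b.m u = u) (hc : 32 ≤ Nat.card B) (hs : s ∈ Hb) (hi : Inner s)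
    (h : ∀ u ∈ B, s.m u = u) : s ∈ Tr := by
  have h1 := sq_le_ncard B (fun v hv hv' => eq_zero_of_outer hb ho (hB v hv) (hB _ hv'))
    (S := {v : Vb | (lin s).m v = v}) fun a ha c hc => by
      change s.m _ = _
      rw [map_add, inner_m hs hi, h a ha, h c hc]
  exact eq_one_of_fix (a := lin s) (mem_X0.2 ⟨hs, hi⟩) (le_trans (by nlinarith) h1)

/-- the vectors whose translations lie in a subgroup -/
def vec (A : Subgroup Γ) : AddSubgroup Vb where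
  carrier := {v | q T v ∈ A}
  zero_mem' := by change q T 0 ∈ A; rw [q_zero]; exact one_mem _
  add_mem' := fun {u w} hu hw => by change q T _ ∈ A; rw [q_add]; exact mul_mem hu hw
  neg_mem' := fun {u} hu => by
    change q T _ ∈ A; rwa [neg_eq_of_add_eq_zero_right (Vb.add_self u)]

theorem closed' {g : Γ} {v : Vb} {b : Hb} (h : g * q T v * g⁻¹ = T.θ b) : (b : AG) ∈ Tr := by
  by_contra hb
  have ho : ¬ Inner (b : AG) := (T.over_l2 h).resolve_left hb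
  have hq := conj_q T b
  obtain ⟨t, ht⟩ : ∃ t, T.θ b = t := ⟨_, rfl⟩
  have htQ : t ∉ Q T := fun e => hb ((th_mem_Q T).1 (ht ▸ e))
  have t2 : t * t = 1 := by
    rw [← ht, ← h, show ∀ x : Γ, g * x * g⁻¹ * (g * x * g⁻¹) = g * (x * x) * g⁻¹ from
      fun x => by group, q_sq, mul_one, mul_inv_cancel]
  have ti : t⁻¹ = t := inv_eq_of_mul_eq_one_right t2
  have b2 : (b : AG) * b = 1 :=
    congrArg Subtype.val (T.inj (by rw [map_mul, map_one, ht, t2]) : b * b = 1)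
  have bb : ∀ w, (b : AG).m ((b : AG).m w) = w := fun w => by rw [← mul_m, b2, one_m]
  obtain ⟨hF, hI⟩ := ncard_fix_outer (a := lin b) b.2 ho (by rw [← map_mul, b2, map_one])
  simp only [lin_m] at hF hI
  rw [ht] at h hq
  have hfix : ∀ w, q T w * t = t * q T w ↔ (b : AG).m w = w := fun w => by
    rw [← q_inj T, ← hq, mul_inv_eq_iff_eq_mul, eq_comm]
  obtain ⟨P, hP, hA0⟩ := exists_sylIn_ge (inf_le_right : Q T ⊓ centralizer {t} ≤ _)
    (Q_two T).to_inf_left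
  have htg : t ∈ cj g (Q T) := h ▸ conj_mem_cj g (q_mem T v)
  obtain ⟨k, hk, hkP⟩ := sylIn_exists_cj_le hP
    (fun x hx => mem_centralizer_singleton_iff.2 (cj_comm T hx htg)) (isPGroup_cj g (Q_two T))
  rw [← cj_mul] at hkP
  have htA : t ∈ cj (k * g) (Q T) := by
    rw [cj_mul, ← mul_inv_eq_iff_eq_mul.2 (mem_centralizer_singleton_iff.1 hk)]
    exact conj_mem_cj k htg
  generalize k * g = e at hkP htA
  have hn : ∀ u, (b : AG).m u = u → q T u ∈ normalizer (cj e (Q T) : Set Γ) := fun u hu =>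
    T.le_norm_of_two hP.pgroup hkP
      (hA0 ⟨q_mem T u, mem_centralizer_singleton_iff.2 ((hfix u).2 hu)⟩)
  have hB : ∀ u ∈ vec T (cj e (Q T)), (b : AG).m u = u := fun u hu =>
    (hfix u).1 (cj_comm T hu htA)
  have hc : 32 ≤ Nat.card (vec T (cj e (Q T))) := by
    have h1 := card_le_two_mul (F := (b : AG).m.toAddMonoidHom.eqLocus (AddMonoidHom.id _))
      (B := vec T (cj e (Q T))) fun u hu w hw hu' hw' => by
      have h2 := hn u hu
      have h3 := hn w hw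
      rw [← cj_normalizer, mem_cj] at h2 h3
      obtain ⟨c, hc⟩ := T.norm h2
      obtain ⟨d, hd⟩ := T.norm h3
      have h4 := (T.over_l2 (g := e⁻¹) (v := u) (b := c) (by rw [inv_inv, hc]; rfl)).resolve_left
        fun e' => hu' (mem_cj.2 (hc ▸ (th_mem_Q T).2 e'))
      have h5 := (T.over_l2 (g := e⁻¹) (v := w) (b := d) (by rw [inv_inv, hd]; rfl)).resolve_left
        fun e' => hw' (mem_cj.2 (hd ▸ (th_mem_Q T).2 e'))
      have h6 : e⁻¹ * q T (u + w) * e = T.θ (c * d) := by rw [map_mul, hc, hd, q_add]; group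
      have h7 := (T.over_l2 (g := e⁻¹) (v := u + w) (b := c * d)
        (by rw [inv_inv, ← h6]; rfl)).resolve_right
        (not_not.2 ((inner_mul c.2 d.2).2 (iff_of_false h4 h5)))
      exact mem_cj.2 (h6 ▸ (th_mem_Q T).2 h7)
    have h2 : Nat.card ((b : AG).m.toAddMonoidHom.eqLocus (AddMonoidHom.id _)) = 64 := hF
    omega
  obtain ⟨B, hBd⟩ : ∃ B, B = Q T ⊓ cj e (Q T) := ⟨_, rfl⟩
  have hqB : ∀ {u}, q T u ∈ cj e (Q T) → q T u ∈ B := fun hu => hBd ▸ ⟨q_mem T _, hu⟩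
  have hBQ : B ≤ Q T := hBd ▸ inf_le_left
  have hBA : B ≤ cj e (Q T) := hBd ▸ inf_le_right
  have hQY : Q T ≤ centralizer (B : Set Γ) := fun x hx y hy => Q_comm T (hBQ hy) hx
  have hAY : cj e (Q T) ≤ centralizer (B : Set Γ) := fun x hx y hy => cj_comm T (hBA hy) hx
  have hQS : Q T ≤ centralizer (B : Set Γ) ⊓ T.θ.range := le_inf hQY (Q_le T)
  have htS : t ∈ centralizer (B : Set Γ) ⊓ T.θ.range := ⟨hAY htA, b, ht⟩
  have hS1 : ∀ s ∈ centralizer (B : Set Γ) ⊓ T.θ.range, ∃ u, s = q T u ∨ s = q T u * t := by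
    have h1 : ∀ s : Hb, T.θ s ∈ centralizer (B : Set Γ) → Inner (s : AG) → T.θ s ∈ Q T :=
      fun s hs hi => (th_mem_Q T).2 (mem_Tr_of_fix b.2 ho hB hc s.2 hi fun u hu => by
        rw [← q_inj T, ← conj_q, ← hs _ (hqB hu), mul_inv_cancel_right])
    rintro _ ⟨hs, s, rfl⟩
    by_cases hi : Inner (s : AG)
    · obtain ⟨u, hu⟩ := (mem_Q T).1 (h1 s hs hi)
      exact ⟨u, Or.inl hu.symm⟩
    · obtain ⟨u, hu⟩ := (mem_Q T).1 (h1 (s * b) (by rw [map_mul, ht]; exact mul_mem hs htS.1)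
        ((inner_mul s.2 b.2).2 (iff_of_false hi ho)))
      exact ⟨u, Or.inr (by rw [hu, map_mul, ht, mul_assoc, t2, mul_one])⟩
  have hsq : ∀ u, q T u * t * (q T u * t) = q T (u + (b : AG).m u) := fun u => by
    rw [q_add, ← hq, ti]; group
  have hSyl : SylIn 2 (centralizer (B : Set Γ) ⊓ T.θ.range) (centralizer (B : Set Γ)) := by
    refine ⟨inf_le_left, isPGroup_iff_mem.2 fun s hs => ⟨2, ?_⟩, fun R h1 h2 h3 =>
      le_antisymm (le_inf h1 (le_range_of_two T h2 (hQS.trans h3))) h3⟩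
    rw [show 2 ^ 2 = 2 * 2 from rfl, pow_mul, sq s]
    obtain ⟨u, rfl | rfl⟩ := hS1 s hs
    · rw [q_sq, one_pow]
    · rw [hsq, sq, q_sq]
  have hinv : ∀ s ∈ centralizer (B : Set Γ) ⊓ T.θ.range, s ∉ Q T → s * s = 1 →
      ∃ u, q T u * t * (q T u)⁻¹ = s := by
    intro s hs h1 h2
    obtain ⟨u, rfl | rfl⟩ := hS1 s hs
    · exact absurd (q_mem T u) h1
    rw [hsq, ← q_zero T, q_inj, Vb.add_eq_zero'] at h2
    obtain ⟨w, rfl⟩ := hI u h2.symm
    exact ⟨w, by rw [q_add, ← hq, q_inv, ti, mul_assoc (q T w), mul_assoc (q T w), mul_assoc _ t,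
      t2, mul_one]⟩
  have hcj : ∀ m, cj m (cj e (Q T)) ≤ centralizer (B : Set Γ) ⊓ T.θ.range →
      cj m (cj e (Q T)) = Q T := fun m hm => by
    rw [← cj_mul] at hm ⊢
    have := T.cj_eq_of_two hSyl.pgroup hm (k := 1) (by rwa [cj_one])
    rwa [cj_one] at this
  obtain ⟨c, m, hm, hc1, hc2, hc3⟩ : ∃ c, ∃ m ∈ centralizer (B : Set Γ),
      q T (c + (b : AG).m c) ∈ cj e (Q T) ∧
      m * q T c * m⁻¹ ∈ centralizer (B : Set Γ) ⊓ T.θ.range ∧ m * q T c * m⁻¹ ∉ Q T := by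
    by_cases hall : ∀ u, (b : AG).m u = u → q T u ∈ cj e (Q T)
    · obtain ⟨m, hm, h1⟩ := sylIn_exists_cj_le hSyl hAY (isPGroup_cj e (Q_two T))
      obtain ⟨c, hc⟩ := (mem_Q T).1 (hcj m h1 ▸ conj_mem_cj m htA)
      have h2 : m⁻¹ * q T c * m⁻¹⁻¹ = t := by rw [hc]; group
      exact ⟨c, m⁻¹, inv_mem hm, hall _ (by rw [map_add, bb, add_comm]), h2 ▸ htS, h2 ▸ htQ⟩
    · push Not at hall
      obtain ⟨u, hu, hu'⟩ := hall
      obtain ⟨m, hm, h1⟩ := sylIn_exists_cj_le hSyl (R := cj e (Q T) ⊔ zpowers (q T u))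
        (sup_le hAY (zpowers_le.2 (hQY (q_mem T u)))) (isPGroup_sup_of_norm'
          (isPGroup_cj e (Q_two T)) ((Q_two T).to_le (zpowers_le.2 (q_mem T u)))
          (zpowers_le.2 (hn u hu)))
      refine ⟨u, m, hm, by rw [hu, Vb.add_self, q_zero]; exact one_mem _,
        h1 (conj_mem_cj m (mem_sup_right (mem_zpowers _))), fun h2 => hu' ?_⟩
      rw [← hcj m ((cj_mono m le_sup_left).trans h1), mem_cj] at h2
      simpa [mul_assoc] using h2
  have hctl : ∀ y ∈ centralizer (B : Set Γ), ∀ x x', y * q T x * y⁻¹ = q T x' →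
      x' = x ∨ x' = (b : AG).m x := by
    intro y hy x x' e'
    obtain ⟨s, hs, h1⟩ := control T hQY hy (q_mem T x) (e' ▸ q_mem T x')
    rw [e'] at h1
    obtain ⟨u, rfl | rfl⟩ := hS1 s hs
    · rw [q_comm, mul_inv_cancel_right, q_inj] at h1
      exact Or.inl h1.symm
    · rw [show q T u * t * q T x * (q T u * t)⁻¹ = q T u * (t * q T x * t⁻¹) * (q T u)⁻¹ by group,
        hq, q_comm, mul_inv_cancel_right, q_inj] at h1
      exact Or.inr h1.symm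
  have csq : ∀ y x, y * q T x * y⁻¹ * (y * q T x * y⁻¹) = 1 := fun y x => by
    rw [show y * q T x * y⁻¹ * (y * q T x * y⁻¹) = y * (q T x * q T x) * y⁻¹ by group, q_sq,
      mul_one, mul_inv_cancel]
  have hiso : ∀ x, q T (x + (b : AG).m x) ∈ cj e (Q T) → x + (b : AG).m x ≠ c + (b : AG).m c →
      ∀ y ∈ centralizer (B : Set Γ), y * q T x * y⁻¹ ∈ centralizer (B : Set Γ) ⊓ T.θ.range →
      (q T x)⁻¹ * (y * q T x * y⁻¹) ∈ B := by
    intro x h1 h2 y hy h3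
    by_cases h4 : y * q T x * y⁻¹ ∈ Q T
    · obtain ⟨x', h5⟩ := (mem_Q T).1 h4
      rw [← h5, q_inv, ← q_add]
      rcases hctl y hy x x' h5.symm with rfl | rfl
      · rw [Vb.add_self, q_zero]; exact one_mem _
      · exact hqB h1
    · obtain ⟨u1, e1⟩ := hinv _ h3 h4 (csq y x)
      obtain ⟨u2, e2⟩ := hinv _ hc2 hc3 (csq m c)
      have h5 := hctl (m⁻¹ * q T u2 * (q T u1)⁻¹ * y) (mul_mem (mul_mem (mul_mem (inv_mem hm)
        (hQY (q_mem T _))) (inv_mem (hQY (q_mem T _)))) hy) x c (by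
        calc _ = m⁻¹ * q T u2 * (q T u1)⁻¹ * (y * q T x * y⁻¹) * q T u1 * (q T u2)⁻¹ * m := by group
          _ = m⁻¹ * (q T u2 * t * (q T u2)⁻¹) * m := by rw [← e1]; group
          _ = _ := by rw [e2]; group)
      rcases h5 with rfl | rfl
      · exact absurd rfl h2
      · exact absurd (by rw [bb, add_comm]) h2
  obtain ⟨u, hu, hu'⟩ : ∃ u ∈ (vec T (cj e (Q T)) : Set Vb), u ∉ ({0, c + (b : AG).m c} : Set Vb) := by
    refine Set.exists_mem_notMem_of_ncard_lt_ncard ?_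
    have h1 := Set.ncard_insert_le (0 : Vb) {c + (b : AG).m c}
    rw [Set.ncard_singleton] at h1
    have h2 : (vec T (cj e (Q T)) : Set Vb).ncard = Nat.card (vec T (cj e (Q T))) := rfl
    omega
  simp only [Set.mem_insert_iff, Set.mem_singleton_iff, not_or] at hu'
  obtain ⟨w, rfl⟩ := hI u (hB u hu)
  have hwc : w + c + (b : AG).m (w + c) = w + (b : AG).m w + (c + (b : AG).m c) := by
    rw [map_add]; abel
  have h1 := zstar_amb hSyl (hBQ.trans hQS) (hQS (q_mem T w)) (hQS (q_mem T c)) (q_sq T w)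
    (by rw [← q_add, q_sq]) (fun h1 => hu'.1 (by rw [hB w (hBA h1), Vb.add_self]))
    (fun h1 => hu'.2 (by
      rw [← q_add] at h1
      rw [← Vb.add_eq_zero', ← hwc, hB _ (hBA h1), Vb.add_self]))
    (hiso w hu hu'.2) (by
      rw [← q_add]
      exact hiso _ (by rw [hwc, q_add]; exact mul_mem hu hc1)
        (by rw [hwc, Ne, add_eq_right]; exact hu'.1)) hm hc2
  exact hc3 (((Q T).mul_mem_cancel_left (inv_mem (q_mem T c))).1 (hBQ h1))

end AB1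

namespace Emb

variable {Γ : Type*} [Group Γ] [Finite Γ] (T : Emb Γ)

theorem closed {g : Γ} {v : Vb} {b : Hb} (h : g * T.θ ⟨tr v, tr_mem_Hb v⟩ * g⁻¹ = T.θ b) :
    (b : AG) ∈ Tr := AB1.closed' T h

end Emb

end Cfsg.Agent.J4R
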