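import Cfsg.Agent.J4R.Defs

set_option autoImplicit false

namespace Cfsg.Agent.J4R

open Subgroup Cfsg.Agent.H14 Cfsg.Agent.SGJ4 AG Cfsg.Agent.H80.J4 Cfsg.Agent.H70

namespace M30

open scoped Pointwise

theorem om_comm {a : AG} (h : a ∈ X0) : Commute a om := (mem_X0_iff (X0_le_Hb h)).1 h

theorem pk_mul' (g h : Equiv.Perm GolayPt) : pmul (GE.pk g) (GE.pk h) = GE.pk (g * h) :=
  (GE.pk_mul g h).symm

theorem eq_of_p {a b : AG} (ha : a ∈ X) (hb : b ∈ X) (h : a.p = b.p) : ∃ i < 3, a = om ^ i * b := by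
  obtain ⟨i, hi, e⟩ := X49.ker_pow (X.mul_mem ha (X.inv_mem hb))
    (by rw [mul_p, inv_p, h, mul_inv_cancel])
  exact ⟨i, hi, by rw [← e, inv_mul_cancel_right]⟩

theorem memY {a : AG} (ha : a ∈ X) {c : ℕ} (h : cd a = c)
    (h2 : Nat.beq (pimg (cP c) 13062145) 13062145 = true) : a ∈ Yb :=
  X49.mem_Yb.2 ⟨X_le_Hb ha, by
    rw [hex0, smul_bits, ← cP_cd, h]; exact congrArg bits (beq_iff.1 h2)⟩

theorem fix_ub {k : ℕ} (h0 : 0 < k) (hk : k < 16) {x : GolayPt} (h : (ub k).p x = x) : x ∈ hex0 := by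
  have h1 : ∀ k < 16, ∀ i < 24, papp (cP (nthD ubL cone k)) i = i →
      k = 0 ∨ (13062145 : ℕ).testBit i = true := by decide +kernel
  refine mem_bits.2 ((h1 k hk _ (idx_lt x) ?_).resolve_left h0.ne')
  rw [← cd_ub, X49.papp_idx, h]

theorem kb_inv : kb⁻¹ = kb * kb * kb := inv_eq_of_mul_eq_one_right
  (cd_inj.1 (by simp only [cd_mul, cd_kb, cd_one]; decide +kernel))
theorem xb_inv : xb⁻¹ = xb * xb := inv_eq_of_mul_eq_one_right (by rw [← xb_cube, pow_three])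
theorem rb_inv : rb⁻¹ = rb * rb := inv_eq_of_mul_eq_one_right (by rw [← rb_cube, pow_three])

theorem cent_U0 {a : AG} (ha : a ∈ X0) (h2 : a * ub 2 = ub 2 * a) (h4 : a * ub 4 = ub 4 * a) :
    ∃ k < 16, ∃ i < 3, ∃ j < 3, a = ub k * om ^ i * xb ^ j := by
  have e : ∀ k, GE.perm (cP (nthD ubL cone k)) = (ub k).p := fun k => by
    rw [← cd_ub, cP_cd, GE.perm_pk]
  have h := m22_chain.forall_of_allI fixes_M22
    (cs := [(cP (nthD ubL cone 2), cP (nthD ubL cone 2)), (cP (nthD ubL cone 4), cP (nthD ubL cone 4))])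
    (ds := []) (f := fun P => anyL [0, 1, 2] fun j => force (cP (cpow cx j)) fun Q =>
      anyL (List.range 16) fun k => Nat.beq P (pmul (cP (nthD ubL cone k)) Q))
    (by decide +kernel) a.p ha.2 ⟨by
      simp only [List.mem_cons, List.not_mem_nil, or_false, forall_eq_or_imp, forall_eq, e]
      exact ⟨congrArg AG.p h2, congrArg AG.p h4⟩, by simp⟩
  simp only [anyL_iff, force_eq, beq_iff, List.mem_range] at h
  obtain ⟨j, hj, k, hk, h⟩ := h
  rw [← cd_xb', ← cd_pow, ← cd_ub, cP_cd, cP_cd, pk_mul'] at h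
  obtain ⟨i, hi, e⟩ := eq_of_p ha.1 (X.mul_mem (X49.ub_mem_X k) (X.pow_mem xb_mem_X j))
    (GE.pk_injective h)
  refine ⟨k, hk, i, hi, j, (by decide : ∀ j ∈ [0, 1, 2], j < 3) j hj, ?_⟩
  rw [e, ← mul_assoc, ((om_comm (ub_mem0 hk)).pow_right i).eq]

theorem cent_U1 {a : AG} (ha : a ∈ X) (h2 : a * ub 2 = ub 2 * a) (h4 : a * ub 4 = ub 4 * a) :
    ∃ k < 16, ∃ i < 3, ∃ j < 3, a = ub k * om ^ i * xb ^ j ∨ a = ub k * om ^ i * xb ^ j * ib := by
  by_cases hi : Inner a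
  · obtain ⟨k, hk, i, h, j, h', e⟩ := cent_U0 (mem_X0.2 ⟨ha, hi⟩) h2 h4
    exact ⟨k, hk, i, h, j, h', Or.inl e⟩
  · have c2 : Commute ib (ub 2) := mul_inv_eq_iff_eq_mul.1 (ib_ub (k := 2) (by decide))
    have c4 : Commute ib (ub 4) := mul_inv_eq_iff_eq_mul.1 (ib_ub (k := 4) (by decide))
    obtain ⟨k, hk, i, h, j, h', e⟩ := cent_U0 (a := a * ib) (mem_X0.2 ⟨X.mul_mem ha ib_mem,
      (inner_mul (X_le_Hb ha) (X_le_Hb ib_mem)).2 (iff_of_false hi outer_ib)⟩)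
      (Commute.mul_left h2 c2) (Commute.mul_left h4 c4)
    exact ⟨k, hk, i, h, j, h', Or.inr (by rw [← e, mul_assoc, ib_sq, mul_one])⟩

theorem cent_xb0 {a : AG} (ha : a ∈ X0) (h : a * xb = xb * a) :
    ∃ k ∈ [0, 2, 4, 6], ∃ i < 3, ∃ j < 3, a = ub k * om ^ i * xb ^ j := by
  have h1 := c_chain.forall_of_allElts (f := fun P => anyL [0, 2, 4, 6] fun k => anyL [0, 1, 2] fun j =>
    anyL [0, 1, 2] fun l => Nat.beq P (pmul (pmul (cP (nthD ubL cone k)) (cP (cpow cx j))) (cP (cpow cr l))))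
    (by decide +kernel) a.p ⟨ha.2, mem_centralizer_singleton_iff.2 (xb_p ▸ congrArg AG.p h)⟩
  simp only [anyL_iff, beq_iff] at h1
  obtain ⟨k, hk, j, hj, l, hl, h1⟩ := h1
  have hk' : k < 16 := by clear h1; revert k; decide
  rw [← cd_xb', ← cd_rb, ← cd_pow, ← cd_pow, ← cd_ub, cP_cd, cP_cd, cP_cd, pk_mul', pk_mul'] at h1
  obtain ⟨i, hi, e⟩ := eq_of_p ha.1 (X.mul_mem (X.mul_mem (X49.ub_mem_X k) (X.pow_mem xb_mem_X j))
    (X.pow_mem rb_mem.1 l)) (GE.pk_injective h1)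
  have c1 : Commute (ub k) xb := by
    have := xb_ub hk'
    rw [(by decide : ∀ k ∈ [0, 2, 4, 6], nthD tx 0 k = k) k hk] at this
    exact (mul_inv_eq_iff_eq_mul.1 this).symm
  have c2 : Commute (om ^ i * (ub k * xb ^ j)) xb :=
    ((om_comm xb_mem0).symm.pow_left i).mul_left (c1.mul_left ((Commute.refl xb).pow_left j))
  have c3 : rb ^ l * xb = xb * rb ^ l := by
    have : Commute ((om ^ i * (ub k * xb ^ j))⁻¹ * a) xb := c2.inv_left.mul_left h
    rwa [e, ← mul_assoc (om ^ i) _ (rb ^ l), inv_mul_cancel_left] at this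
  have h3 : ∀ l ∈ [0, 1, 2], cmul (cpow cr l) cx = cmul cx (cpow cr l) → l = 0 := by decide +kernel
  obtain rfl := h3 l hl (by rw [← cd_xb', ← cd_rb, ← cd_pow, ← cd_mul, ← cd_mul, c3])
  refine ⟨k, hk, i, hi, j, (by decide : ∀ j ∈ [0, 1, 2], j < 3) j hj, ?_⟩
  rw [e, pow_zero, mul_one, ← mul_assoc, ((om_comm (ub_mem0 hk')).pow_right i).eq]

theorem card_two {K : Subgroup AG} (hK : K ≤ X) {l : AG} (hl : l ∈ K) (ho : ¬ Inner l) :
    Nat.card K = 2 * Nat.card ↥(X0 ⊓ K) := by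
  rw [← H2.card_inf_mul_relIndex X0 K, mul_comm]
  congr 1
  refine index_eq_two_iff.2 ⟨⟨l, hl⟩, fun b => ?_⟩
  simp only [mem_subgroupOf, coe_mul, mem_X0, hK b.2, X.mul_mem (hK b.2) (hK hl), true_and,
    inner_mul (X_le_Hb (hK b.2)) (X_le_Hb (hK hl)), ho, iff_false]
  tauto

theorem card_cent_conj {H : Subgroup AG} {x a : AG} (hx : x ∈ H) :
    Nat.card ↥(H ⊓ centralizer {x * a * x⁻¹}) = Nat.card ↥(H ⊓ centralizer {a}) := by
  rw [← card_cj x (H ⊓ centralizer {a})]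
  congr 2
  ext g
  simp only [mem_cj, mem_inf, mem_centralizer_singleton_iff]
  refine and_congr (by rw [H.mul_mem_cancel_right hx, H.mul_mem_cancel_left (inv_mem hx)]) ?_
  rw [← mul_left_inj x, ← mul_right_inj x⁻¹]
  simp only [mul_assoc, inv_mul_cancel_left, inv_mul_cancel, mul_one]

theorem card_of_list {S : Subgroup AG} (L : List ℕ) (hn : L.Nodup) (h1 : ∀ c ∈ L, InS S c)
    (h2 : ∀ a ∈ S, cd a ∈ L) : Nat.card S = L.length := by
  rw [← List.toFinset_card_of_nodup hn, ← Set.ncard_coe_finset, ← SetLike.coe_sort_coe,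
    Nat.card_coe_set_eq, ← Set.ncard_image_of_injective _ fun _ _ => cd_inj.1]
  congr 1
  ext c
  rw [Finset.mem_coe, List.mem_toFinset]
  exact ⟨fun ⟨a, ha, e⟩ => e ▸ h2 a ha, h1 c⟩

end M30

open M30

theorem cent_xb {a : AG} (ha : a ∈ X0) (h : a * xb = xb * a) :
    ∃ k ∈ [0, 2, 4, 6], ∃ i j : ℕ, a = ub k * om ^ i * xb ^ j :=
  let ⟨k, hk, i, _, j, _, e⟩ := cent_xb0 ha h; ⟨k, hk, i, j, e⟩

theorem cent_U {a : AG} (ha : a ∈ X) (h2 : a * ub 2 = ub 2 * a) (h4 : a * ub 4 = ub 4 * a) :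
    ∃ k < 16, ∃ i j : ℕ, a = ub k * om ^ i * xb ^ j ∨ a = ub k * om ^ i * xb ^ j * ib :=
  let ⟨k, hk, i, _, j, _, e⟩ := cent_U1 ha h2 h4; ⟨k, hk, i, j, e⟩

theorem conj_Ub {a u : AG} (ha : a ∈ X) (hy : a ∈ Yb) (hu : u ∈ Ub) : a * u * a⁻¹ ∈ Ub := by
  refine (mem_Ub_iff_hex (X49.conj_mem_X ha (Ub_le_X hu)) (X49.conj_sq (Ub_mul_self hu))).2
    fun x hx => ?_
  have := (mem_Ub_iff_hex (Ub_le_X hu) (Ub_mul_self hu)).1 hu _ ((p_mem_hex0 (inv_mem hy)).2 hx)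
  rw [mul_p, mul_p, Equiv.Perm.mul_apply, Equiv.Perm.mul_apply, this]
  exact a.p.apply_symm_apply x

theorem mem_Yb_of_conj {a u : AG} (ha : a ∈ X) (hu : u ∈ Ub) (h1 : u ≠ 1)
    (h : a * u * a⁻¹ ∈ Ub) : a ∈ Yb := by
  obtain ⟨k, hk, rfl⟩ := mem_Ub.1 hu
  refine inv_mem_iff.1 (X49.mem_Yb.2 ⟨X_le_Hb (inv_mem ha), X49.smul_hex0.2 fun x hx => ?_⟩)
  refine fix_ub (Nat.pos_of_ne_zero fun e => h1 ((ub_eq_one hk).2 e)) hk ?_
  have := (mem_Ub_iff_hex (Ub_le_X h) (Ub_mul_self h)).1 h x hx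
  rw [mul_p, mul_p, Equiv.Perm.mul_apply, Equiv.Perm.mul_apply] at this
  rw [inv_p] at this ⊢
  exact Equiv.Perm.eq_inv_iff_eq.2 this

theorem mem_Yb_elts : om ∈ Yb ∧ xb ∈ Yb ∧ rb ∈ Yb ∧ ib ∈ Yb ∧ bb ∈ Yb ∧ sb ∈ Yb ∧ kb * kb ∈ Yb ∧
    kb⁻¹ * xb * kb ∈ Yb ∧ kb⁻¹ * rb * kb ∈ Yb ∧ kb⁻¹ * ib * kb ∈ Yb := by
  have k : ∀ a ∈ X, ∀ c, cd a = c →
      Nat.beq (pimg (cP (cmul (cmul (cmul (cmul cc cc) cc) c) cc)) 13062145) 13062145 = true →
      kb⁻¹ * a * kb ∈ Yb := fun a ha c e h =>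
    memY (X.mul_mem (X.mul_mem (inv_mem kb_mem.1) ha) kb_mem.1)
      (by simp only [kb_inv, cd_mul, cd_kb, e]) h
  exact ⟨memY om_mem cd_om (by decide +kernel), memY xb_mem_X cd_xb' (by decide +kernel),
    memY rb_mem.1 cd_rb (by decide +kernel), memY ib_mem cd_ib (by decide +kernel),
    memY bb_mem.1 cd_bb (by decide +kernel), memY sb_mem.1 cd_sb (by decide +kernel),
    memY (X.mul_mem kb_mem.1 kb_mem.1) (by rw [cd_mul, cd_kb]) (by decide +kernel),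
    k _ xb_mem_X _ cd_xb' (by decide +kernel), k _ rb_mem.1 _ cd_rb (by decide +kernel),
    k _ ib_mem _ cd_ib (by decide +kernel)⟩

theorem mem_Ub_of_cent_U {a : AG} (ha : a ∈ X0) (h2 : a * ub 2 = ub 2 * a)
    (h4 : a * ub 4 = ub 4 * a) {n : ℕ} (h : a ^ 2 ^ n = 1) : a ∈ Ub := by
  obtain ⟨k, hk, i, -, j, -, e⟩ := cent_U0 ha h2 h4
  rw [mul_assoc] at e
  have h1 : om ^ i * xb ^ j ∈ X := X.mul_mem (X.pow_mem om_mem i) (X.pow_mem xb_mem_X j)
  have h3 : om ^ i * xb ^ j ∈ Yb :=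
    Yb.mul_mem (Yb.pow_mem mem_Yb_elts.1 i) (Yb.pow_mem mem_Yb_elts.2.1 j)
  have h5 : (om ^ i * xb ^ j) ^ 3 = 1 := by
    rw [((om_comm xb_mem0).symm.pow_pow i j).mul_pow, ← pow_mul, ← pow_mul, mul_comm i, mul_comm j,
      pow_mul, pow_mul, H80.J4.om_cube, xb_cube, one_pow, one_pow, one_mul]
  generalize om ^ i * xb ^ j = b at e h1 h3 h5
  have h6 : a ^ 3 ∈ Ub := by
    have : a ^ 3 = ub k * (b * ub k * b⁻¹) * (b * (b * ub k * b⁻¹) * b⁻¹) * b ^ 3 := by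
      simp [e, pow_succ, mul_assoc]
    rw [this, h5, mul_one]
    have := conj_Ub h1 h3 (X49.ub_mem k)
    exact Ub.mul_mem (Ub.mul_mem (X49.ub_mem k) this) (conj_Ub h1 h3 this)
  exact mem_of_pow_mem_coprime (a := 3) (b := 2 ^ n) (Nat.Coprime.pow_right n (by decide)) h6
    (h ▸ one_mem _)

theorem cent_Ub {a : AG} (ha : a ∈ X) (h : ∀ u ∈ Ub, a * u = u * a) :
    ∃ k < 16, ∃ i : ℕ, a = ub k * om ^ i := by
  obtain ⟨k, hk, i, -, j, hj, e⟩ := cent_U1 ha (h _ (X49.ub_mem 2)) (h _ (X49.ub_mem 4))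
  have c : ∀ l < 16, Commute ((ub k * om ^ i)⁻¹ * a) (ub l) := fun l hl =>
    (Commute.mul_left (by rw [Commute, SemiconjBy, ← ub_xor hk hl, ← ub_xor hl hk, Nat.xor_comm])
      ((om_comm (ub_mem0 hl)).symm.pow_left i)).inv_left.mul_left (h _ (X49.ub_mem l))
  have k8 : ∀ j < 3, (cmul (cpow cx j) (nthD ubL cone 8) = cmul (nthD ubL cone 8) (cpow cx j) → j = 0) ∧
      cmul (cmul (cpow cx j) ci) (nthD ubL cone 8) ≠ cmul (nthD ubL cone 8) (cmul (cpow cx j) ci) ∨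
      cmul (cmul (cpow cx j) ci) (nthD ubL cone 1) ≠ cmul (nthD ubL cone 1) (cmul (cpow cx j) ci) ∧
      (cmul (cpow cx j) (nthD ubL cone 8) = cmul (nthD ubL cone 8) (cpow cx j) → j = 0) := by
    decide +kernel
  have k9 := k8 j hj
  simp only [← cd_xb', ← cd_ib, ← cd_pow, ← cd_ub, ← cd_mul, cd_inj, Ne] at k9
  rcases e with e | e
  · rw [e, inv_mul_cancel_left] at c
    obtain rfl : j = 0 := k9.elim (fun h => h.1 (c 8 (by decide))) fun h => h.2 (c 8 (by decide))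
    exact ⟨k, hk, i, by rw [e, pow_zero, mul_one]⟩
  · rw [e, mul_assoc, inv_mul_cancel_left] at c
    exact (k9.elim (fun h => h.2 (c 8 (by decide))) fun h => h.1 (c 1 (by decide))).elim

theorem trans_Ub {k : ℕ} (h0 : 0 < k) (hk : k < 16) :
    ∃ a ∈ X0, a ∈ Yb ∧ a * ub 1 * a⁻¹ = ub k := by
  have h1 : ∀ c ∈ [cx, cr, cs', cb, cmul cc cc], InS (X0 ⊓ Yb) c := by
    obtain ⟨-, h1, h2, -, h3, h4, h5, -⟩ := mem_Yb_elts
    simp only [List.mem_cons, List.not_mem_nil, or_false, forall_eq_or_imp, forall_eq]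
    exact ⟨⟨_, ⟨xb_mem0, h1⟩, cd_xb'⟩, ⟨_, ⟨rb_mem, h2⟩, cd_rb⟩, ⟨_, ⟨sb_mem, h4⟩, cd_sb⟩,
      ⟨_, ⟨bb_mem, h3⟩, cd_bb⟩, ⟨_, ⟨X0.mul_mem kb_mem kb_mem, h5⟩, by rw [cd_mul, cd_kb]⟩⟩
  have h2 : ∀ k < 16, 0 < k → ∀ w ∈ [[], [], [1, 3, 4], [0, 3, 0], [3, 1], [4], [3, 4], [1], [4, 0], [1, 0],
      [1, 0, 0], [0, 4], [0, 0], [3, 0, 0], [3, 0], [0]][k]?,
      cmul (cw [cx, cr, cs', cb, cmul cc cc] w) (nthD ubL cone 1) =
        cmul (nthD ubL cone k) (cw [cx, cr, cs', cb, cmul cc cc] w) := by decide +kernel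
  have h3 := h2 k hk h0 _ (List.getElem?_eq_getElem hk)
  obtain ⟨a, ha, e⟩ := inS_cw h1 _
  rw [← e, ← cd_ub, ← cd_ub, ← cd_mul, ← cd_mul, cd_inj] at h3
  exact ⟨a, ha.1, ha.2, mul_inv_eq_iff_eq_mul.2 h3⟩

theorem rank_X0 {A : Subgroup AG} (h : A ≤ X0) (h2 : ∀ a ∈ A, a * a = 1) : Nat.card A ∣ 16 := by
  obtain ⟨x, hx, h3⟩ := exists_conj_le_Yb (h.trans X0_le_Hb) fun a =>
    ⟨1, Subtype.ext (by rw [pow_one, coe_pow, sq, h2 _ a.2]; rfl)⟩
  rw [← card_cj x]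
  refine (card_inner_dvd (cj_le_iff.2 fun a ha => X49.conj_mem_X hx (h ha).1) (cj_le_iff.2 h3)
    (cj_le_iff.2 fun a ha => (X49.inner_conj (X_le_Hb hx) (X0_le_Hb (h ha))).2 (mem_X0.1 (h ha)).2)
    fun a ha => ?_).1
  obtain ⟨b, hb, rfl⟩ := ha
  exact X49.conj_sq (h2 b hb)

theorem normal_cases {A : Subgroup AG} (h : A ≤ X0) (hn : X0 ≤ normalizer (A : Set AG)) :
    A ≤ zpowers om ∨ A = X0 := by
  have := simple_M22
  have hN : ((A.map pr).subgroupOf Spor.M22).Normal := ⟨fun n hn' g => by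
    obtain ⟨a, ha, e⟩ := mem_subgroupOf.1 hn'
    obtain ⟨b, hb, e'⟩ := exists_lift0 g.2
    exact mem_subgroupOf.2 ⟨b * a * b⁻¹, conj_mem_of_mem_norm (hn hb) ha, by
      rw [map_mul, map_mul, map_inv, e, pr_apply, e']; rfl⟩⟩
  rcases hN.eq_bot_or_eq_top with e | e
  · refine Or.inl fun a ha => X_inf_ker ▸ ⟨(h ha).1, ?_⟩
    have : (⟨a.p, (h ha).2⟩ : Spor.M22) ∈ (A.map pr).subgroupOf Spor.M22 :=
      mem_subgroupOf.2 ⟨a, ha, rfl⟩
    rw [e, mem_bot] at this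
    exact congrArg Subtype.val this
  · have k : ∀ a ∈ X0, ∃ b ∈ A, ∃ i, a = om ^ i * b := fun a ha => by
      have : (⟨a.p, ha.2⟩ : Spor.M22) ∈ (A.map pr).subgroupOf Spor.M22 := e ▸ mem_top _
      obtain ⟨b, hb, e⟩ := mem_subgroupOf.1 this
      obtain ⟨i, -, e'⟩ := eq_of_p ha.1 (h hb).1 (Eq.symm e)
      exact ⟨b, hb, i, e'⟩
    have ho : om ∈ A := by
      obtain ⟨b, hb, i, e⟩ := k xb xb_mem0
      have h1 : rb⁻¹ * b * rb * b⁻¹ ∈ A :=
        A.mul_mem (conj_mem_of_mem_norm' (hn rb_mem) hb) (inv_mem hb)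
      have h2 : b = (om ^ i)⁻¹ * xb := by rw [e, inv_mul_cancel_left]
      have c1 := ((om_comm rb_mem).pow_right i).inv_right
      have c2 := ((om_comm xb_mem0).pow_right i).inv_right
      have : rb⁻¹ * b * rb * b⁻¹ = om := by
        rw [h2, ← c2.eq, mul_assoc rb⁻¹, mul_assoc xb, ← c1.eq, ← mul_assoc xb, xb_rb, mul_assoc rb,
          (om_comm xb_mem0).eq]
        group
      exact this ▸ h1
    refine Or.inr (le_antisymm h fun a ha => ?_)
    obtain ⟨b, hb, i, rfl⟩ := k a ha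
    exact A.mul_mem (A.pow_mem ho i) hb

theorem perfect_X0 : ⁅X0, X0⁆ = X0 := by
  refine (normal_cases (commutator_le_left_of_norm le_normalizer)
    (norm_commutator le_normalizer le_normalizer)).resolve_left fun h => ?_
  have h1 := h (commutator_mem_commutator xb_mem0 (ub_mem0 (k := 1) (by decide)))
  rw [commutatorElement_def, xb_ub (by decide), ← X_inf_ker] at h1
  have h2 : (ub 15).p * (ub 1).p⁻¹ = 1 := h1.2
  exact absurd (ub_inj (by decide) (by decide) (mul_inv_eq_one.1 h2)) (by decide)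

theorem X_le_of_gens {K : Subgroup AG} (hu : Ub ≤ K) (h1 : kb ∈ K) (h2 : om ∈ K) (h3 : xb ∈ K)
    (h4 : rb ∈ K) (h5 : ib ∈ K) : X ≤ K := by
  have h : ∀ c ∈ [nthD ubL cone 1, nthD ubL cone 2, nthD ubL cone 4, nthD ubL cone 8, cc, cw3, cx, cr, ci],
      InS K c := by
    simp only [List.mem_cons, List.not_mem_nil, or_false, forall_eq_or_imp, forall_eq]
    exact ⟨⟨_, hu (X49.ub_mem 1), cd_ub 1⟩, ⟨_, hu (X49.ub_mem 2), cd_ub 2⟩,
      ⟨_, hu (X49.ub_mem 4), cd_ub 4⟩, ⟨_, hu (X49.ub_mem 8), cd_ub 8⟩, ⟨_, h1, cd_kb⟩, ⟨_, h2, cd_om⟩,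
      ⟨_, h3, cd_xb'⟩, ⟨_, h4, cd_rb⟩, ⟨_, h5, cd_ib⟩⟩
  have k : ∀ c ∈ xG, ∃ w ∈ [[6, 3, 8, 4, 1, 4, 2, 4, 8], [0, 1, 7, 4, 4, 4, 1, 0, 4, 1],
      [1, 7, 4, 8, 3, 4, 2, 4, 8, 3, 6], [3, 4, 3, 6, 4, 2, 4, 8, 3, 6], [5]],
      cw [nthD ubL cone 1, nthD ubL cone 2, nthD ubL cone 4, nthD ubL cone 8, cc, cw3, cx, cr, ci] w = c := by
    decide +kernel
  refine (closure_le _).2 fun a ha => ?_
  obtain ⟨w, -, e⟩ := k _ ha
  exact inS_cd.1 (e ▸ inS_cw h w)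

theorem card_cent_inv {a : AG} (ha : a ∈ X0) (h2 : a * a = 1) (h1 : a ≠ 1) :
    Nat.card ↥(X ⊓ centralizer {a}) = 2304 ∧ Nat.card ↥(X0 ⊓ centralizer {a}) = 1152 := by
  obtain ⟨x, hx, hi, e⟩ := inner_inv_conj ha.1 (mem_X0.1 ha).2 h2 h1
  rw [← card_cent_conj hx, ← card_cent_conj (mem_X0.2 ⟨hx, hi⟩), e]
  have := card_two (K := X ⊓ centralizer {u0}) inf_le_left
    ⟨l1_mem, mem_centralizer_singleton_iff.2 X49.u0_l1⟩ outer_l1
  rw [← inf_assoc, inf_eq_left.2 X0_le_X, card_cent_u0] at this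
  exact ⟨card_cent_u0, by omega⟩

theorem om_mem_of_nine {P : Subgroup AG} (h : P ≤ X) (h9 : Nat.card P = 9) : om ∈ P := by
  have := Fact.mk Nat.prime_three
  have hS : H92.SylIn 3 Rb X := H92.sylIn_of_not_dvd_relIndex inf_le_left
    (IsPGroup.of_card (n := 3) card_Rb) (by
      have := H2.card_mul_relIndex_of_le (show Rb ≤ X from inf_le_left)
      rw [card_Rb, card_X] at this; omega)
  obtain ⟨g, hg, hle⟩ := sylIn_exists_cj_le hS h (IsPGroup.of_card (n := 2) h9)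
  have hi : ((cj g P).subgroupOf Rb).index = 3 := by
    have := H2.card_mul_relIndex_of_le hle
    rw [card_cj, h9, card_Rb] at this
    change relIndex _ _ = 3; omega
  have hN := normal_of_index_eq_minFac_card (H := (cj g P).subgroupOf Rb) (by
    rw [hi, card_Rb]; norm_num)
  have hc : IsCyclic (Rb ⧸ (cj g P).subgroupOf Rb) := isCyclic_of_prime_card hi
  have h1 : om ∈ cj g P := by
    have := (QuotientGroup.eq (s := (cj g P).subgroupOf Rb) (a := ⟨yb, yb_mem⟩ * ⟨xb, xb_mem⟩)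
      (b := ⟨xb, xb_mem⟩ * ⟨yb, yb_mem⟩)).1 (by
        rw [QuotientGroup.mk_mul, QuotientGroup.mk_mul]; exact hc.commGroup.mul_comm _ _)
    rw [mem_subgroupOf] at this
    change (yb * xb)⁻¹ * (xb * yb) ∈ _ at this
    rwa [xb_yb, ← (om_comm (Rb_le_X0 (Rb.mul_mem yb_mem xb_mem))).eq, inv_mul_cancel_left] at this
  rw [mem_cj] at h1
  by_cases hi : Inner g⁻¹
  · rwa [inner_comm (inv_mem hg) hi, inv_mul_cancel_right] at h1
  · rwa [outer_comm (inv_mem hg) hi, inv_mul_cancel_right, inv_mem_iff] at h1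

theorem Rb_eq : Rb = closure {om, xb, rb} := by
  have h1 : om ∈ closure {om, xb, rb} := subset_closure (by simp)
  have h2 : xb ∈ closure {om, xb, rb} := subset_closure (by simp)
  have h3 : rb ∈ closure {om, xb, rb} := subset_closure (by simp)
  have h4 : closure {om, xb, rb} ≤ Rb := (closure_le _).2 (by
    rintro _ (rfl | rfl | rfl)
    exacts [om_mem_Rb, xb_mem, ⟨rb_mem.1, t_chain.mem_iff_sift.2 (by
      rw [pr_apply, ← cP_cd, cd_rb]; decide +kernel)⟩])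
  refine le_antisymm (fun a ha => ?_) h4
  obtain ⟨b, hb, e⟩ := T3_le (H := (closure {om, xb, rb}).map pr) ⟨xb, h2, xb_p⟩
    ⟨xb * xb * rb, mul_mem (mul_mem h2 h2) h3, GE.pk_injective (by
      rw [pr_apply, ← cP_cd, cd_mul, cd_mul, cd_xb', cd_rb, pk_yt]; decide +kernel)⟩ ha.2
  obtain ⟨i, -, rfl⟩ := eq_of_p ha.1 (h4 hb).1 (Eq.symm e)
  exact mul_mem (pow_mem h1 i) hb

theorem not_norm_sylow {D : Subgroup AG} (hD : D ≤ X0) (hc : Nat.card D = 128) {a t : AG}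
    (ha : a ∈ X0) (h3 : a ^ 3 = 1) (h1 : a ∉ zpowers om) (hn : a ∈ normalizer (D : Set AG))
    (t2 : t * t = 1) (t1 : t ≠ 1) (ht : t ∈ X0) (hat : a * t = t * a)
    (hDt : D ≤ centralizer {t}) : False := by
  have := Fact.mk Nat.prime_three
  have hK := (card_cent_inv ht t2 t1).2
  have ho : om ∈ normalizer (D : Set AG) := centralizer_le_normalizer _ fun d hd => om_comm (hD hd)
  have h9 : 9 ∣ Nat.card ↥(X0 ⊓ centralizer {t} ⊓ normalizer (D : Set AG)) := by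
    have hlt : zpowers om < zpowers a ⊔ zpowers om :=
      lt_of_le_of_ne le_sup_right fun e => h1 (e ▸ mem_sup_left (mem_zpowers a))
    have hp : IsPGroup 3 ↥(zpowers a ⊔ zpowers om) := by
      refine IsPGroup.to_sup_of_normal_right' (IsPGroup.of_card (n := 1) ?_)
        (IsPGroup.of_card (n := 1) ?_) (zpowers_le.2 (centralizer_le_normalizer _ ?_))
      · rw [Nat.card_zpowers, orderOf_eq_prime h3 fun e => h1 (e ▸ one_mem _)]; rfl
      · rw [Nat.card_zpowers, orderOf_om]; rfl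
      · rintro _ ⟨n, rfl⟩; exact (om_comm ha).symm.zpow_left n
    obtain ⟨n, e⟩ := IsPGroup.iff_card.1 hp
    have h4 := H2.card_lt_of_lt hlt
    rw [Nat.card_zpowers, orderOf_om, e] at h4
    refine dvd_trans ?_ (card_dvd_of_le (H := zpowers a ⊔ zpowers om) (sup_le
      (zpowers_le.2 ⟨⟨ha, mem_centralizer_singleton_iff.2 hat⟩, hn⟩)
      (zpowers_le.2 ⟨⟨om_mem_X0, mem_centralizer_singleton_iff.2 (om_comm ht).symm⟩, ho⟩)))
    rw [e]
    exact pow_dvd_pow 3 (show 2 ≤ n from (Nat.pow_lt_pow_iff_right (by decide)).1 (pow_one 3 ▸ h4 :))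
  have h8 := card_dvd_of_le (le_inf (le_inf hD hDt) (le_normalizer (H := D)))
  have hN : X0 ⊓ centralizer {t} ≤ normalizer (D : Set AG) := by
    rw [hc] at h8
    exact inf_eq_left.1 (eq_of_le_of_card_ge inf_le_left (hK ▸ Nat.le_of_dvd Nat.card_pos
      (Nat.Coprime.mul_dvd_of_dvd_of_dvd (by decide) h8 h9)))
  have hm : ∀ s ∈ X0 ⊓ centralizer {t}, s * s = 1 → s ∈ D := fun s hs s2 => by
    have hi := H2.card_mul_relIndex_of_le (le_inf hD hDt)
    have := (normal_subgroupOf_iff_le_normalizer (le_inf hD hDt)).2 hN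
    have h5 := pow_index_mem (H := D.subgroupOf (X0 ⊓ centralizer {t})) ⟨s, hs⟩
    rw [hK, hc] at hi
    rw [show index _ = 9 by change relIndex _ _ = 9; omega] at h5
    exact mem_of_pow_mem_coprime (a := 9) (b := 2) (by decide) h5 (by rw [sq, s2]; exact one_mem _)
  obtain ⟨x, hx, hi, e⟩ := inner_inv_conj ht.1 (mem_X0.1 ht).2 t2 t1
  have hx0 := mem_X0.2 ⟨hx, hi⟩
  have k : ∀ w, (force (cw xG w) fun c => Nat.beq (papp (cP c) 23) 23 && Nat.beq (cmul c c) cone &&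
      Nat.beq (cmul c (nthD gH cone 7)) (cmul (nthD gH cone 7) c)) = true →
      ∃ b, cd b = cw xG w ∧ x⁻¹ * b * x ∈ D := fun w hw => by
    obtain ⟨b, hb, e'⟩ := inS_cw inS_xG w
    rw [← X49.cd_u0] at hw
    simp only [force_eq, Bool.and_eq_true, beq_iff, ← e', ← cd_mul, ← cd_one, cd_inj,
      ← X49.inner_cd] at hw
    refine ⟨b, e', hm _ ⟨X0.mul_mem (X0.mul_mem (inv_mem hx0) (mem_X0.2 ⟨hb, hw.1.1⟩)) hx0,
      mem_centralizer_singleton_iff.2 ?_⟩ (by simpa using X49.conj_sq (x := x⁻¹) hw.1.2)⟩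
    have := hw.2
    rw [← e] at this
    calc x⁻¹ * b * x * t = x⁻¹ * (b * (x * t * x⁻¹)) * x := by group
      _ = t * (x⁻¹ * b * x) := by rw [this]; group
  obtain ⟨b, e1, hb⟩ := k [0, 2, 0, 0, 0, 2, 0, 2, 0, 1, 2, 1, 0, 0, 1] (by decide +kernel)
  obtain ⟨c, e2, hc'⟩ := k [1, 1, 0, 0, 2, 0, 2, 0, 1, 2, 0, 0] (by decide +kernel)
  have h6 : orderOf (b * c) = 3 := orderOf_eq_prime
    (cd_inj.1 (by rw [cd_pow, cd_mul, e1, e2, cd_one]; decide +kernel))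
    fun h => absurd (cd_inj.2 h) (by rw [cd_mul, e1, e2, cd_one]; decide +kernel)
  have h7 := orderOf_dvd_natCard (⟨_, D.mul_mem hb hc'⟩ : D)
  rw [← orderOf_coe, hc, show ((⟨_, D.mul_mem hb hc'⟩ : D) : AG) = MulAut.conj x⁻¹ (b * c) by
    simp [mul_assoc], MulEquiv.orderOf_eq, h6] at h7
  omega

theorem om_mem_of_bb {K : Subgroup AG} (hb : bb ∈ K) (h1 : xb ∈ normalizer (K : Set AG))
    (h2 : rb ∈ normalizer (K : Set AG)) : om ∈ K := by
  have x := fun a => conj_mem_of_mem_norm (a := a) h1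
  have r := fun a => conj_mem_of_mem_norm (a := a) h2
  have := K.mul_mem (K.mul_mem (K.mul_mem (K.mul_mem (K.mul_mem (r _ (r _ (x _ (x _ hb)))) (r _ hb))
    (r _ (x _ hb))) (r _ (r _ (x _ (x _ hb))))) (x _ hb)) hb
  refine inS_cd.1 ⟨_, this, ?_⟩
  simp only [xb_inv, rb_inv, cd_mul, cd_xb', cd_rb, cd_bb, cd_om]
  decide +kernel

theorem card_norm_xb : Nat.card ↥(X ⊓ normalizer (zpowers xb : Set AG)) = 144 := by
  classical
  have := Fact.mk Nat.prime_three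
  have ox : orderOf xb = 3 :=
    orderOf_eq_prime xb_cube fun e => xb_yb_ne (by rw [e, one_mul, mul_one])
  have n : ∀ {a : AG}, a * xb * a⁻¹ = xb⁻¹ → a ∈ normalizer (zpowers xb : Set AG) := fun {a} h =>
    mem_normalizer_of_cj_le (by
      rw [cj, MonoidHom.map_zpowers, zpowers_le]
      exact (show a * xb * a⁻¹ ∈ _ from h ▸ inv_mem (mem_zpowers _)))
  have hs : sb * sb * xb * (sb * sb)⁻¹ = xb⁻¹ := by rw [← sb_rb, ← sb_xb]; group
  have h1 : Nat.card ↥(X0 ⊓ centralizer {xb}) = 36 := by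
    refine card_of_list (([0, 2, 4, 6].product ([0, 1, 2].product [0, 1, 2])).map fun t =>
      cmul (cmul (nthD ubL cone t.1) (cpow cw3 t.2.1)) (cpow cx t.2.2)) (by decide +kernel)
      (fun c hc => ?_) fun a ha => ?_
    · obtain ⟨⟨k, i, j⟩, ht, rfl⟩ := List.mem_map.1 hc
      have hk := (List.pair_mem_product.1 ht).1
      have hk' : k < 16 := (by decide : ∀ k ∈ [0, 2, 4, 6], k < 16) k hk
      have := xb_ub hk'
      rw [(by decide : ∀ k ∈ [0, 2, 4, 6], nthD tx 0 k = k) k hk] at this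
      rw [← cd_om, ← cd_xb', ← cd_pow, ← cd_pow, ← cd_ub, ← cd_mul, ← cd_mul, inS_cd]
      exact mul_mem (mul_mem ⟨ub_mem0 hk', mem_centralizer_singleton_iff.2
        (mul_inv_eq_iff_eq_mul.1 this).symm⟩ (pow_mem (mem_inf.2 ⟨om_mem_X0,
          mem_centralizer_singleton_iff.2 (om_comm xb_mem0).symm⟩) i))
        (pow_mem (mem_inf.2 ⟨xb_mem0, mem_centralizer_singleton_iff.2 rfl⟩) j)
    · obtain ⟨k, hk, i, hi, j, hj, rfl⟩ := cent_xb0 ha.1 (mem_centralizer_singleton_iff.1 ha.2)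
      have t : ∀ i < 3, i ∈ [0, 1, 2] := by decide
      exact List.mem_map.2 ⟨(k, i, j), List.pair_mem_product.2 ⟨hk, List.pair_mem_product.2
        ⟨t i hi, t j hj⟩⟩, by rw [cd_mul, cd_mul, cd_pow, cd_pow, cd_ub, cd_om, cd_xb']⟩
  have h2 : (centralizer {xb}).relIndex (X0 ⊓ normalizer (zpowers xb : Set AG)) = 2 := by
    have ne : xb ≠ xb⁻¹ := fun e => by
      have : orderOf xb ∣ 2 := orderOf_dvd_of_pow_eq_one (by rw [sq]; nth_rw 1 [e]; simp)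
      rw [ox] at this; omega
    refine index_eq_two_iff.2 ⟨⟨sb * sb, X0.mul_mem sb_mem sb_mem, n hs⟩, fun b => ?_⟩
    simp only [mem_subgroupOf, coe_mul, mem_centralizer_singleton_iff, ← mul_inv_eq_iff_eq_mul]
    have e : b * (sb * sb) * xb * (b * (sb * sb))⁻¹ = (b * xb * (b : AG)⁻¹)⁻¹ := by
      rw [_root_.conj_inv, ← hs]; group
    rw [e]
    have h3 := conj_mem_of_mem_norm b.2.2 (mem_zpowers xb)
    rw [mem_zpowers_iff_mem_range_orderOf, ox] at h3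
    obtain ⟨i, hi, h3⟩ := Finset.mem_image.1 h3
    rw [Finset.mem_range] at hi
    obtain rfl | rfl | rfl : i = 0 ∨ i = 1 ∨ i = 2 := by omega
    · rw [pow_zero, eq_comm, conj_eq_one_iff] at h3
      simp [h3] at ox
    · rw [← h3, pow_one]; exact Or.inr ⟨rfl, Ne.symm ne⟩
    · rw [← h3, sq, ← xb_inv, inv_inv]; exact Or.inl ⟨rfl, Ne.symm ne⟩
  have h3 := H2.card_inf_mul_relIndex (centralizer {xb}) (X0 ⊓ normalizer (zpowers xb : Set AG))
  rw [h2, inf_left_comm, inf_eq_left.2 (show centralizer {xb} ≤ _ by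
    rw [← centralizer_closure, ← zpowers_eq_closure]; exact centralizer_le_normalizer _), h1] at h3
  rw [card_two inf_le_left ⟨ib_mem, n ib_xb⟩ outer_ib, ← inf_assoc, inf_eq_left.2 X0_le_X, ← h3]

theorem eq_one_of_fix {a : AG} (ha : a ∈ X0) (h : 1024 ≤ {v : Vb | a.m v = v}.ncard) : a = 1 := by
  by_contra h1
  obtain ⟨p, hp, hd⟩ := Nat.exists_prime_and_dvd (mt orderOf_eq_one_iff.1 h1)
  have := Fact.mk hp
  have hb := orderOf_pow_orderOf_div (orderOf_pos a).ne' hd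
  have hb0 := X0.pow_mem ha (orderOf a / p)
  have h2 : 1024 ≤ {v : Vb | (a ^ (orderOf a / p)).m v = v}.ncard := by
    refine h.trans (Set.ncard_le_ncard fun v hv => ?_)
    induction orderOf a / p with
    | zero => rfl
    | succ n ih => exact (show (a ^ n).m (a.m v) = v by rw [hv, ih])
  generalize a ^ (orderOf a / p) = b at hb hb0 h2
  have b1 : b ≠ 1 := fun e => hp.one_lt.ne (by rw [← hb, e, orderOf_one])
  have h3 : {v : Vb | b.m v = v}.ncard ∣ 2 ^ 12 := by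
    have := (b.m.toAddMonoidHom.eqLocus (AddMonoidHom.id Vb)).card_addSubgroup_dvd_card
    rwa [Vb.card_eq] at this
  have h4 : {v : Vb | b.m v = v}.ncard ≠ 4096 := fun e => b1 (eq_one_of_m hb0.1 fun v =>
    (Set.eq_of_subset_of_ncard_le (Set.subset_univ {v : Vb | b.m v = v})
      (by rw [e, Set.ncard_univ, Vb.card_eq])).ge (Set.mem_univ v))
  have h5 : 4096 ≡ {v : Vb | b.m v = v}.ncard [MOD p] := by
    classical
    have := Fintype.ofFinite Vb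
    let f : Function.End Vb := fun v => b.m v
    have k : ∀ n v, (f ^ n) v = (b ^ n).m v := fun n => by
      induction n with
      | zero => exact fun _ => rfl
      | succ n ih => exact fun v => by rw [pow_succ, pow_succ, mul_m, ← ih]; rfl
    have := Equiv.Perm.card_fixedPoints_modEq (f := f) (p := p) (n := 1)
      (funext fun v => by rw [k, pow_one, ← hb, pow_orderOf_eq_one]; rfl)
    rwa [← Nat.card_eq_fintype_card, ← Nat.card_eq_fintype_card, Vb.card_eq] at this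
  obtain ⟨n, hn, e⟩ := (Nat.dvd_prime_pow Nat.prime_two).1 h3
  have h6 : p ∣ 2 ^ 11 * 3 := by
    rw [e] at h2 h4 h5
    have := (Nat.modEq_iff_dvd' (Nat.pow_le_pow_right (by decide) hn)).1 h5.symm
    interval_cases n <;> first | omega | exact this.trans (by decide)
  rcases (Nat.Prime.dvd_mul hp).1 h6 with h7 | h7
  · obtain rfl := (Nat.prime_dvd_prime_iff_eq hp Nat.prime_two).1 (hp.dvd_of_dvd_pow h7)
    rw [ncard_fix_inner hb0.1 (mem_X0.1 hb0).2 (by rw [← sq, ← hb, pow_orderOf_eq_one]) b1] at h2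
    omega
  · obtain rfl := (Nat.prime_dvd_prime_iff_eq hp Nat.prime_three).1 h7
    rcases three_X0 hb0 ((map_pow pr b 3).symm.trans (by rw [← hb, pow_orderOf_eq_one, map_one])) with
      h8 | ⟨x, -, h8⟩
    · have : {v : Vb | b.m v = v} ⊆ {0} := fun v hv => by
        rcases mem_zpowers_om.1 h8 with rfl | rfl | rfl
        exacts [absurd rfl b1, X49.eq_zero_of_om hv, X49.eq_zero_of_om2 hv]
      have := Set.ncard_le_ncard this
      rw [Set.ncard_singleton] at this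
      omega
    · rw [← X49.ncard_fix_conj x, h8, X49.ncard_fix_cd cd_xb'] at h2
      exact absurd h2 (by decide +kernel)

end Cfsg.Agent.J4R
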