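/-
Project J4R: first facts in the group (notes/J4R.md, section Basic).
-/
import Cfsg.Agent.J4R.Mod
import Cfsg.Agent.H35.PrimeOrder

set_option autoImplicit false
set_option linter.unusedSectionVars false

namespace Cfsg.Agent.J4R

open Subgroup Cfsg.Agent.H14 Cfsg.Agent.SGJ4 AG Cfsg.Agent.H80.J4 Cfsg.Agent.H70

namespace Bs

theorem eq_one_of_cop {M : Type*} [Monoid M] {w : M} {a b : ℕ} (h : a.Coprime b) (h1 : w ^ a = 1)
    (h2 : w ^ b = 1) : w = 1 :=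
  orderOf_eq_one_iff.1 (Nat.eq_one_of_dvd_coprimes h (orderOf_dvd_of_pow_eq_one h1)
    (orderOf_dvd_of_pow_eq_one h2))

theorem cop (a b : ℕ) : (3 ^ a).Coprime (2 ^ b) := Nat.Coprime.pow _ _ (by decide)

theorem pow_mod {M : Type*} [Monoid M] {w : M} (h : w ^ 3 = 1) (n : ℕ) : w ^ n = w ^ (n % 3) :=
  pow_eq_pow_mod n h

theorem ub_eq {k l : ℕ} (hk : k < 16) (hl : l < 16) (h : ub k = ub l) : k = l :=
  ub_inj hk hl (by rw [h])

theorem ub_X {k : ℕ} (hk : k < 16) : ub k ∈ X := (ub_mem0 hk).1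

theorem comm_of_sq {M : Type*} [Group M] {f g : M} (h1 : f * f = 1) (h2 : g * g = 1)
    (h3 : f * g * (f * g) = 1) : f * g = g * f := by
  rw [← inv_eq_of_mul_eq_one_right h3, mul_inv_rev, inv_eq_of_mul_eq_one_right h1,
    inv_eq_of_mul_eq_one_right h2]

/-- the permutation induced by `rb` -/
noncomputable def tt (j k : ℕ) : ℕ := (fun n => nthD tr' 0 n)^[j] k

end Bs

open Bs

namespace Loc

variable {G : Type*} [Group G] [Finite G] {S : Loc G}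

omit [Finite G] in
theorem Bs.x_ne : S.x ≠ 1 := fun h => by simpa [h] using S.ox

omit [Finite G] in
theorem Bs.mem_zx {e : G} (h : e ∈ zpowers S.x) : e = 1 ∨ e = S.x ∨ e = S.x⁻¹ := by
  obtain ⟨n, hn, rfl⟩ : ∃ n < 3, S.x ^ n = e := by
    classical
    rw [← S.ox]
    obtain ⟨n, hn, e⟩ := Finset.mem_image.1 ((isOfFinOrder_iff_pow_eq_one.2
      ⟨3, by decide, S.x_cube⟩).mem_zpowers_iff_mem_range_orderOf.1 h)
    exact ⟨n, Finset.mem_range.1 hn, e⟩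
  interval_cases n
  exacts [.inl (pow_zero _), .inr (.inl (pow_one _)),
    .inr (.inr (eq_inv_of_mul_eq_one_left (by rw [← pow_succ, S.x_cube])))]

theorem three_C {e : G} (hc : e ∈ S.C) (he : e ^ 3 = 1) :
    e ∈ zpowers S.x ∨ ∃ c ∈ S.C, c * e * c⁻¹ = S.y := by
  obtain ⟨h1, h2⟩ := mem_C_iff.1 hc
  refine (three_X0 h2 (by rw [← pr_apply, ← map_pow, ← rh_pow h1, he, rh_one, map_one])).imp
    (fun h => ?_) fun ⟨b, hb, h⟩ => ⟨S.lf b, pre_X0 (S := S) ▸ lf_mem_pre hb.1 hb,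
      conj_three (lf_mem b) h1 S.y_mem' he S.y_cube (by rw [rh_lf hb.1, h, rh_y])⟩
  obtain ⟨n, hn⟩ : ∃ n : ℕ, S.rh e = om ^ n := by
    rcases mem_zpowers_om.1 h with h | h | h
    exacts [⟨0, h⟩, ⟨1, h.trans (pow_one _).symm⟩, ⟨2, h.trans (sq _).symm⟩]
  rw [eq_of_odd h1 (pow_mem S.x_mem n) (n := 3) (by decide) he
    (by rw [← pow_mul, mul_comm, pow_mul, S.x_cube, one_pow]) (by rw [rh_pow S.x_mem, rh_x, hn])]
  exact pow_mem (mem_zpowers _) n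

theorem mem_C_of_odd {g : G} (hg : g ∈ S.L) {n : ℕ} (hn : Odd n) (h : g ^ n = 1) : g ∈ S.C := by
  by_contra hc
  have h1 := inv_of_not_mem_C hg hc
  have h2 : g * g ∈ S.C := S.mem_C.2 (by
    rw [← mul_inv_eq_iff_eq_mul, show g * g * S.x * (g * g)⁻¹ = g * (g * S.x * g⁻¹) * g⁻¹ by group, h1,
      show g * S.x⁻¹ * g⁻¹ = (g * S.x * g⁻¹)⁻¹ by group, h1, inv_inv])
  obtain ⟨k, rfl⟩ := hn
  rw [pow_succ, pow_mul, sq] at h
  exact hc (eq_inv_of_mul_eq_one_right h ▸ inv_mem (pow_mem h2 k))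

theorem x_mem_of_nine {P : Subgroup G} (h : P ≤ S.L) (h9 : Nat.card P = 9) : S.x ∈ P := by
  have h1 : ∀ g ∈ P, g ^ 9 = 1 := fun g hg =>
    congrArg Subtype.val (h9 ▸ pow_card_eq_one' (x := (⟨g, hg⟩ : P)))
  obtain ⟨g, a, b, e⟩ := mem_bar.1 (om_mem_of_nine (bar_le_X (S := S) P) (by
    rw [← card_of_inj h fun hz => eq_one_of_cop (cop 2 1) (h1 _ hz) (by rw [pow_one, sq, S.zz]), h9]))
  rwa [← eq_of_odd b S.x_mem (n := 9) (by decide) (h1 g a)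
    (by rw [show 9 = 3 * 3 from rfl, pow_mul, S.x_cube, one_pow]) (by rw [e, rh_x])]

theorem z_conj_eq {g h : G} (e : g * S.x * g⁻¹ ∈ zpowers (h * S.x * h⁻¹)) :
    g * S.z * g⁻¹ = h * S.z * h⁻¹ := by
  obtain ⟨n, hn⟩ := e
  have h1 : h⁻¹ * g ∈ S.L := H35.mem_normalizer_zpowers_iff.2 ⟨n, by
    rw [show h⁻¹ * g * S.x * (h⁻¹ * g)⁻¹ = h⁻¹ * (g * S.x * g⁻¹) * h by group, ← hn]
    simp only [conj_zpow]
    group⟩
  rw [show g * S.z * g⁻¹ = h * (h⁻¹ * g * S.z) * g⁻¹ by group, z_comm h1]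
  group

theorem y_not_mem : S.y ∉ zpowers S.x := fun ⟨n, hn⟩ => by
  have := y_r (S := S)
  rw [← hn, ← ((show Commute S.r S.x from r_x).zpow_right n).eq, mul_inv_cancel_right] at this
  exact Bs.x_ne (left_eq_mul.1 this)

theorem mem_E {g : G} : g ∈ S.E ↔ ∃ i j : ℕ, g = S.x ^ i * S.y ^ j := by
  have c : Commute S.y S.x := y_x
  refine ⟨fun h => ?_, fun ⟨i, j, e⟩ => e ▸ mul_mem (pow_mem x_mem_E i) (pow_mem y_mem_E j)⟩
  induction h using closure_induction with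
  | mem a h => rcases h with rfl | rfl; exacts [⟨1, 0, by simp⟩, ⟨0, 1, by simp⟩]
  | one => exact ⟨0, 0, by simp⟩
  | mul a b _ _ ha hb =>
    obtain ⟨i, j, rfl⟩ := ha
    obtain ⟨k, l, rfl⟩ := hb
    exact ⟨i + k, j + l, by rw [pow_add, pow_add, (c.pow_pow j k).mul_mul_mul_comm]⟩
  | inv a _ ha =>
    obtain ⟨i, j, rfl⟩ := ha
    refine ⟨2 * i, 2 * j, inv_eq_of_mul_eq_one_right ?_⟩
    rw [(c.pow_pow j (2 * i)).mul_mul_mul_comm, ← pow_add, ← pow_add, show i + 2 * i = 3 * i by ring,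
      show j + 2 * j = 3 * j by ring, pow_mul, pow_mul, S.x_cube, S.y_cube, one_pow, one_pow, one_mul]

theorem Bs.mem_E' {g : G} (h : g ∈ S.E) : ∃ i < 3, ∃ j < 3, g = S.x ^ i * S.y ^ j :=
  let ⟨i, j, e⟩ := mem_E.1 h
  ⟨i % 3, Nat.mod_lt _ (by decide), j % 3, Nat.mod_lt _ (by decide), by
    rw [e, ← pow_mod S.x_cube, ← pow_mod S.y_cube]⟩

theorem Bs.mem_cE {g : G} : g ∈ centralizer (S.E : Set G) ↔ g * S.x = S.x * g ∧ g * S.y = S.y * g := by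
  refine ⟨fun h => ⟨(h _ x_mem_E).symm, (h _ y_mem_E).symm⟩, fun h a ha => ?_⟩
  obtain ⟨i, j, rfl⟩ := mem_E.1 ha
  exact (((show Commute g S.x from h.1).pow_right i).mul_right
    ((show Commute g S.y from h.2).pow_right j)).symm

theorem E_comm {a b : G} (ha : a ∈ S.E) (hb : b ∈ S.E) : a * b = b * a := by
  refine (?_ : S.E ≤ centralizer (S.E : Set G)) hb a ha
  refine (closure_le _).2 ?_
  rintro _ (rfl | rfl)
  exacts [Bs.mem_cE.2 ⟨rfl, y_x.symm⟩, Bs.mem_cE.2 ⟨y_x, rfl⟩]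

theorem E_cube {a : G} (ha : a ∈ S.E) : a ^ 3 = 1 := by
  obtain ⟨i, j, rfl⟩ := mem_E.1 ha
  rw [((show Commute S.y S.x from y_x).symm.pow_pow i j).mul_pow, ← pow_mul, ← pow_mul, mul_comm i,
    mul_comm j, pow_mul, pow_mul, S.x_cube, S.y_cube, one_pow, one_pow, one_mul]

theorem Bs.E_three : IsPGroup 3 S.E := isPGroup_iff_mem.2 fun _ h => ⟨1, E_cube h⟩

theorem card_E : Nat.card S.E = 9 := by
  have : Fact (Nat.Prime 3) := ⟨by decide⟩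
  obtain ⟨n, hn⟩ := IsPGroup.iff_card.1 (Bs.E_three (S := S))
  have h1 : Nat.card S.E ≤ Nat.card (Fin 3 × Fin 3) := Nat.card_le_card_of_surjective
    (fun p : Fin 3 × Fin 3 => (⟨_, mem_E.2 ⟨p.1, p.2, rfl⟩⟩ : S.E)) fun g => by
      obtain ⟨i, hi, j, hj, e⟩ := Bs.mem_E' g.2
      exact ⟨(⟨i, hi⟩, ⟨j, hj⟩), Subtype.ext e.symm⟩
  have h2 : ¬ Nat.card S.E ≤ Nat.card (zpowers S.x) := fun h =>
    y_not_mem (eq_of_le_of_card_ge (zpowers_le.2 x_mem_E) h ▸ y_mem_E (S := S))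
  rw [Nat.card_zpowers, S.ox, hn] at h2
  rw [Nat.card_prod, Nat.card_fin, hn] at h1
  have h3 : n ≤ 2 := (Nat.pow_le_pow_iff_right (by decide)).1 (show 3 ^ n ≤ 3 ^ 2 from h1)
  rw [hn]
  interval_cases n <;> simp_all

theorem Bs.mem_NE {g : G} (h1 : g * S.x * g⁻¹ ∈ S.E) (h2 : g * S.y * g⁻¹ ∈ S.E) :
    g ∈ normalizer (S.E : Set G) := mem_normalizer_of_cj_le (cj_le_iff.2 fun a ha => by
  obtain ⟨i, j, rfl⟩ := mem_E.1 ha
  rw [show g * (S.x ^ i * S.y ^ j) * g⁻¹ = (g * S.x * g⁻¹) ^ i * (g * S.y * g⁻¹) ^ j by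
    rw [conj_pow, conj_pow]; group]
  exact mul_mem (pow_mem h1 i) (pow_mem h2 j))

omit [Finite G] in
theorem Bs.r_y : S.r * S.y * S.r⁻¹ = S.x⁻¹ * S.y := by
  rw [eq_inv_mul_iff_mul_eq, ← mul_assoc, ← mul_assoc, ← r_x, ← y_r]; group

omit [Finite G] in
theorem Bs.r_x' : S.r * S.x * S.r⁻¹ = S.x := by rw [r_x, mul_inv_cancel_right]

theorem r_mem_NE : S.r ∈ normalizer (S.E : Set G) :=
  Bs.mem_NE (by rw [Bs.r_x']; exact x_mem_E) (Bs.r_y (S := S) ▸ mul_mem (inv_mem x_mem_E) y_mem_E)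

theorem i_conj_E {e : G} (he : e ∈ S.E) : S.i * e * S.i⁻¹ = e⁻¹ := by
  obtain ⟨a, b, rfl⟩ := mem_E.1 he
  rw [show S.i * (S.x ^ a * S.y ^ b) * S.i⁻¹ = (S.i * S.x * S.i⁻¹) ^ a * (S.i * S.y * S.i⁻¹) ^ b by
    rw [conj_pow, conj_pow]; group, i_x, i_y, inv_pow, inv_pow, ← mul_inv_rev,
    ((show Commute S.y S.x from y_x).pow_pow b a).eq]

theorem mem_E_cases {e : G} (he : e ∈ S.E) : e ∈ zpowers S.x ∨
    ∃ k < 3, e ∈ zpowers (S.r ^ k * S.y * (S.r ^ k)⁻¹) := by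
  have c : Commute S.x S.y := y_x.symm
  have x2 : S.x⁻¹ = S.x ^ 2 := inv_eq_of_mul_eq_one_left (by rw [← pow_succ, S.x_cube])
  have h : ∀ k : ℕ, S.r ^ k * S.y * (S.r ^ k)⁻¹ = S.x ^ (2 * k) * S.y := fun k => by
    induction k with
    | zero => simp
    | succ k ih =>
      rw [show S.r ^ (k + 1) * S.y * (S.r ^ (k + 1))⁻¹ = S.r * (S.r ^ k * S.y * (S.r ^ k)⁻¹) * S.r⁻¹ by
        group, ih, show S.r * (S.x ^ (2 * k) * S.y) * S.r⁻¹ =
          (S.r * S.x * S.r⁻¹) ^ (2 * k) * (S.r * S.y * S.r⁻¹) by rw [conj_pow]; group, Bs.r_x', Bs.r_y,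
        x2, ← mul_assoc, ← pow_add, mul_add]
  obtain ⟨a, ha, b, hb, rfl⟩ := Bs.mem_E' he
  by_cases h0 : b = 0
  · exact .inl (by rw [h0, pow_zero, mul_one]; exact pow_mem (mem_zpowers _) a)
  refine .inr ⟨2 * a * b % 3, Nat.mod_lt _ (by decide), ?_⟩
  rw [h, show S.x ^ a * S.y ^ b = (S.x ^ (2 * (2 * a * b % 3)) * S.y) ^ b by
    rw [(c.pow_left _).mul_pow, ← pow_mul, pow_mod S.x_cube (_ * b)]
    congr 2
    interval_cases a <;> interval_cases b <;> simp_all]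
  exact pow_mem (mem_zpowers _) b

theorem F_sq {f : G} (hf : f ∈ S.F) : f * f = 1 := by
  have a : ∀ g ∈ S.F, g * g = 1 ∨ g * g = S.z := fun g hg => (rh_eq_one (mul_mem (pre_le_L _ hg)
    (pre_le_L _ hg))).1 (by rw [rh_mul (pre_le_L _ hg) (pre_le_L _ hg), Ub_mul_self (mem_pre.1 hg).2])
  have m : ∀ k < 16, S.lf (ub k) ∈ S.F := fun k hk => lf_mem_pre (ub_X hk) (ub_mem hk)
  have b : ∀ g ∈ S.L, ∀ k, 0 < k → k < 16 → S.rh g = ub k → g * g = S.lf (ub 1) * S.lf (ub 1) := by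
    intro g hg k h0 hk e
    obtain ⟨c, hc, -, h⟩ := trans_Ub h0 hk
    have h1 : S.lf c * (S.lf (ub 1) * S.lf (ub 1)) * (S.lf c)⁻¹ = S.lf (ub 1) * S.lf (ub 1) := by
      rcases a _ (m 1 (by decide)) with e | e <;> rw [e]
      exacts [by group, by rw [z_comm (lf_mem c), mul_inv_cancel_right]]
    rw [← h1, ← conj_mul]
    rcases (rh_eq_iff (mul_mem (mul_mem (lf_mem c) (lf_mem (ub 1))) (inv_mem (lf_mem c))) hg).1 (by
      rw [rh_conj (lf_mem c) (lf_mem _), rh_lf hc.1, rh_lf (ub_X (by decide)), h, e]) with e | e <;>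
      rw [e]
    rw [mul_assoc, ← mul_assoc S.z, ← z_comm hg, mul_assoc, S.zz, mul_one]
  refine (a f hf).elim id fun e => ?_
  obtain ⟨hl, k, hk, e'⟩ := mem_F.1 hf
  rcases k.eq_zero_or_pos with rfl | h0
  · rcases (rh_eq_one hl).1 (e'.trans ub_zero) with rfl | rfl
    exacts [one_mul _, S.zz]
  have c : ∀ g ∈ S.L, ∀ k, 0 < k → k < 16 → S.rh g = ub k → g * g = S.z := fun g hg k h1 h2 h3 => by
    rw [b g hg k h1 h2 h3, ← b f hl _ h0 hk e', e]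
  have d : ∀ g ∈ S.L, ∀ h ∈ S.L, ∀ k l, 0 < k → k < 16 → 0 < l → l < 16 → 0 < k ^^^ l → k ^^^ l < 16 →
      S.rh g = ub k → S.rh h = ub l → g * h = h * g * S.z := fun g hg h hh k l a1 a2 a3 a4 a5 a6 e1 e2 => by
    have h1 := c _ (mul_mem hg hh) _ a5 a6 (by rw [rh_mul hg hh, e1, e2, ub_xor a2 a4])
    have h2 := c g hg k a1 a2 e1
    have h3 := c h hh l a3 a4 e2
    rw [← h2, mul_assoc, mul_right_inj] at h1
    calc g * h = h * (g * h) * h := by rw [h1]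
      _ = _ := by rw [← h3]; group
  have r1 := rh_lf (S := S) (ub_X (k := 1) (by decide))
  have r2 := rh_lf (S := S) (ub_X (k := 2) (by decide))
  have r4 := rh_lf (S := S) (ub_X (k := 4) (by decide))
  have d1 := d _ (lf_mem _) _ (lf_mem _) 4 1 (by decide) (by decide) (by decide) (by decide)
    (by decide) (by decide) r4 r1
  have d2 := d _ (lf_mem _) _ (lf_mem _) 4 2 (by decide) (by decide) (by decide) (by decide)
    (by decide) (by decide) r4 r2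
  have d3 := d _ (lf_mem _) _ (mul_mem (lf_mem (ub 1)) (lf_mem (ub 2))) 4 3 (by decide) (by decide)
    (by decide) (by decide) (by decide) (by decide) r4 (by
      rw [rh_mul (lf_mem _) (lf_mem _), r1, r2, ← ub_xor (by decide) (by decide)]; rfl)
  rw [← mul_assoc, d1, mul_assoc, ← z_comm (lf_mem _), ← mul_assoc, mul_assoc (S.lf (ub 1)), d2,
    mul_left_inj, ← mul_assoc, ← mul_assoc, mul_eq_left] at d3
  rw [e, d3]

theorem F_comm {f g : G} (hf : f ∈ S.F) (hg : g ∈ S.F) : f * g = g * f :=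
  comm_of_sq (F_sq hf) (F_sq hg) (F_sq (mul_mem hf hg))

theorem mem_NF {g : G} (hg : g ∈ S.L) : g ∈ normalizer (S.F : Set G) ↔ S.rh g ∈ Yb := by
  refine ⟨fun h => mem_Yb_of_conj (rh_mem g) (ub_mem (k := 1) (by decide))
    (fun e => absurd (ub_eq (by decide) (by decide) (e.trans ub_zero.symm)) (by decide)) ?_,
    fun h => mem_normalizer_of_cj_le (cj_le_iff.2 fun f hf => ?_)⟩
  · have := (mem_pre.1 (conj_mem_of_mem_norm h
      (lf_mem_pre (ub_X (k := 1) (by decide)) (ub_mem (by decide))))).2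
    rwa [rh_conj hg (lf_mem _), rh_lf (ub_X (by decide))] at this
  · obtain ⟨h1, h2⟩ := mem_pre.1 hf
    exact mem_pre.2 ⟨mul_mem (mul_mem hg h1) (inv_mem hg),
      rh_conj hg h1 ▸ conj_Ub (rh_mem g) h h2⟩

theorem mem_U {g : G} : g ∈ S.U ↔ g ∈ S.L ∧ ∃ k ∈ [0, 2, 4, 6], S.rh g = ub k := by
  have t : ∀ k < 16, nthD tx 0 k < 16 ∧ (nthD tx 0 k = k ↔ k ∈ [0, 2, 4, 6]) := by decide
  have t' : ∀ k ∈ [0, 2, 4, 6], k < 16 := by decide
  rw [U, mem_inf, mem_F, mem_centralizer_singleton_iff]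
  refine ⟨fun ⟨⟨h1, k, hk, e⟩, h2⟩ => ⟨h1, k, (t k hk).2.1 (ub_eq (t k hk).1 hk ?_), e⟩,
    fun ⟨h1, k, hk, e⟩ => ⟨⟨h1, k, t' k hk, e⟩,
      comm_of_odd h1 S.y_mem' (n := 3) (by decide) S.y_cube ?_⟩⟩
  · rw [← xb_ub hk, ← e, ← rh_y S, ← rh_conj S.y_mem' h1, ← h2, mul_inv_cancel_right]
  · rw [e, rh_y, eq_comm, ← mul_inv_eq_iff_eq_mul, xb_ub (t' k hk), (t k (t' k hk)).2.2 hk]

theorem Bs.z_U : S.z ∈ S.U := mem_U.2 ⟨S.z_mem, 0, by decide, by rw [rh_z, ub_zero]⟩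

theorem Bs.lf_U {k : ℕ} (hk : k ∈ [0, 2, 4, 6]) : S.lf (ub k) ∈ S.U :=
  mem_U.2 ⟨lf_mem _, k, hk, rh_lf (X49.ub_mem_X k)⟩

theorem Bs.U_L {g : G} (h : g ∈ S.U) : g ∈ S.L := (mem_U.1 h).1

theorem Bs.U_cE {g : G} (h : g ∈ S.U) : g ∈ centralizer (S.E : Set G) :=
  Bs.mem_cE.2 ⟨S.mem_C.1 (F_le_C h.1), mem_centralizer_singleton_iff.1 h.2⟩

theorem card_U : Nat.card S.U = orderOf S.z * 4 := by
  have t : ∀ k : Fin 4, 2 * k.1 ∈ [0, 2, 4, 6] := by decide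
  rw [card_of_z_mem (fun _ => Bs.U_L) Bs.z_U, ← Nat.card_congr (Equiv.ofBijective (fun k : Fin 4 =>
    (⟨ub (2 * k), mem_bar.2 ⟨_, Bs.lf_U (t k), lf_mem _, rh_lf (X49.ub_mem_X _)⟩⟩ : S.bar S.U))
    ⟨fun k l e => ?_, fun ⟨b, hb⟩ => ?_⟩), Nat.card_fin]
  · have := ub_eq (by omega) (by omega) (congrArg Subtype.val e)
    exact Fin.ext (by omega)
  · obtain ⟨g, h1, -, rfl⟩ := mem_bar.1 hb
    obtain ⟨-, k, hk, e⟩ := mem_U.1 h1
    obtain ⟨l, rfl⟩ := (by decide : ∀ k ∈ [0, 2, 4, 6], ∃ l : Fin 4, 2 * l.1 = k) k hk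
    exact ⟨l, Subtype.ext e.symm⟩

omit [Finite G] in
theorem Bs.rh_fe (k i j : ℕ) : S.rh (S.lf (ub k) * (S.x ^ i * S.y ^ j)) = ub k * om ^ i * xb ^ j := by
  rw [rh_mul (lf_mem _) (mul_mem (pow_mem S.x_mem i) (pow_mem S.y_mem' j)),
    rh_mul (pow_mem S.x_mem i) (pow_mem S.y_mem' j), rh_pow S.x_mem, rh_pow S.y_mem', rh_x, rh_y,
    rh_lf (X49.ub_mem_X k), mul_assoc]

omit [Finite G] in
theorem Bs.E_L {e : G} (h : e ∈ S.E) : e ∈ S.L := S.C_le_L (E_le_C h)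

theorem mem_cent_E {g : G} :
    g ∈ centralizer (S.E : Set G) ↔ ∃ u ∈ S.U, ∃ e ∈ S.E, g = u * e := by
  refine ⟨fun h => ?_, fun ⟨u, hu, e, he, h⟩ =>
    h ▸ mul_mem (Bs.U_cE hu) fun a ha => E_comm ha he⟩
  obtain ⟨h1, h2⟩ := Bs.mem_cE.1 h
  obtain ⟨h3, h4⟩ := mem_C_iff.1 (S.mem_C.2 h1)
  obtain ⟨k, hk, i, j, e⟩ := cent_xb h4 (by
    rw [← rh_y S, ← rh_mul h3 S.y_mem', h2, rh_mul S.y_mem' h3])
  have he : S.x ^ i * S.y ^ j ∈ S.E := mem_E.2 ⟨i, j, rfl⟩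
  rcases (rh_eq_iff h3 (mul_mem (lf_mem (ub k)) (Bs.E_L he))).1 (by rw [Bs.rh_fe, e]) with e | e
  · exact ⟨_, Bs.lf_U hk, _, he, e⟩
  · exact ⟨_, mul_mem (Bs.lf_U hk) Bs.z_U, _, he, by rw [e, mul_assoc, z_comm (Bs.E_L he), mul_assoc]⟩

theorem mem_U_of_sq {g : G} (h : g ∈ centralizer (S.E : Set G)) (h2 : g * g = 1) : g ∈ S.U := by
  obtain ⟨u, hu, e, he, rfl⟩ := mem_cent_E.1 h
  rw [(show Commute e u from Bs.U_cE hu e he).mul_mul_mul_comm, F_sq hu.1, one_mul, ← sq] at h2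
  rwa [eq_one_of_cop (cop 1 1) (E_cube he) h2, mul_one]

theorem NE_le_NU : normalizer (S.E : Set G) ≤ normalizer (S.U : Set G) :=
  le_normalizer_iff.2 fun g hg u hu => mem_U_of_sq
    (conj_mem_of_le_norm (norm_centralizer le_rfl) hg (Bs.U_cE hu))
    (by rw [conj_mul, F_sq hu.1, mul_one, mul_inv_cancel])

theorem Bs.exists_sylow (S : Loc G) : ∃ P : Sylow 3 G, (P : Subgroup G) ≤ S.C := by
  have : Fact (Nat.Prime 3) := ⟨by decide⟩
  have h1 : IsPGroup 3 (zpowers S.r) := isPGroup_iff_mem.2 fun g ⟨n, e⟩ => ⟨1, by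
    rw [← e, pow_one, ← zpow_natCast, ← zpow_mul, mul_comm, zpow_mul, zpow_natCast, r_cube, one_zpow]⟩
  obtain ⟨P, hP⟩ := (isPGroup_sup_of_norm h1 Bs.E_three (zpowers_le.2 r_mem_NE)).exists_le_sylow
  have hE : S.E ≤ P := le_sup_right.trans hP
  have : Nontrivial (P : Subgroup G) := ⟨⟨⟨_, hE x_mem_E⟩, 1, fun e => Bs.x_ne (congrArg Subtype.val e)⟩⟩
  have := P.2.center_nontrivial
  obtain ⟨⟨⟨w, hw⟩, h2⟩, h3⟩ := exists_ne (1 : center (P : Subgroup G))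
  have h4 : ∀ g ∈ (P : Subgroup G), g * w = w * g := fun g hg =>
    congrArg Subtype.val (mem_center_iff.1 h2 ⟨g, hg⟩)
  have h5 : w ≠ 1 := fun e => h3 (Subtype.ext (Subtype.ext e))
  obtain ⟨u, hu, e, he, rfl⟩ := (mem_cent_E (S := S)).1 fun a ha => h4 a (hE ha)
  obtain ⟨n, hn⟩ := isPGroup_iff_mem.1 P.2 u ((mul_mem_cancel_right (hE he)).1 hw)
  rw [eq_one_of_cop (cop n 1) hn (by rw [pow_one, sq, F_sq hu.1]), one_mul] at h4 h5
  refine ⟨P, fun g hg => ?_⟩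
  rcases mem_E_cases he with h | ⟨k, -, h⟩
  · rw [C, ← H35.centralizer_eq_of_mem (by decide) S.ox h h5]
    exact mem_centralizer_singleton_iff.2 (h4 g hg)
  · have h6 := mem_centralizer_singleton_iff.2 (h4 _ (hP (mem_sup_left (mem_zpowers _))))
    rw [H35.centralizer_eq_of_mem (p := 3) (by decide) (by
      rw [← MulAut.conj_apply, MulEquiv.orderOf_eq, S.oy]) h h5, mem_centralizer_singleton_iff] at h6
    have h7 : S.r * S.y = S.y * S.r := by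
      calc _ = (S.r ^ k)⁻¹ * (S.r * (S.r ^ k * S.y * (S.r ^ k)⁻¹)) * S.r ^ k := by group
        _ = _ := by rw [h6]; group
    have := Bs.r_y (S := S)
    rw [h7, mul_inv_cancel_right, right_eq_mul, inv_eq_one] at this
    exact absurd this Bs.x_ne

theorem not_81 (S : Loc G) : ¬ 81 ∣ Nat.card G := fun h => by
  have : Fact (Nat.Prime 3) := ⟨by decide⟩
  obtain ⟨P, hP⟩ := Bs.exists_sylow S
  have h1 := (P.pow_dvd_card_of_pow_dvd_card (n := 4) h).trans (card_dvd_of_le (hP.trans S.C_le_L))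
  rw [← pre_X, card_pre le_rfl, card_X] at h1
  exact absurd (h1.trans (Nat.mul_dvd_mul_right oz_dvd _)) (by decide)

theorem exists_conj_x (S : Loc G) {e : G} (he : orderOf e = 3) : ∃ g, g * S.x * g⁻¹ = e := by
  have : Fact (Nat.Prime 3) := ⟨by decide⟩
  obtain ⟨P, hP⟩ := Bs.exists_sylow S
  obtain ⟨g, -, hg⟩ := sylIn_exists_cj_le (H92.sylIn_top P) le_top
    (IsPGroup.of_card (G := zpowers e) (n := 1) (by rw [Nat.card_zpowers, he, pow_one]))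
  have h1 : (g * e * g⁻¹) ^ 3 = 1 := by rw [conj_pow, ← he, pow_orderOf_eq_one, mul_one, mul_inv_cancel]
  rcases three_C (hP (hg (conj_mem_cj g (mem_zpowers e)))) h1 with h | ⟨c, -, h⟩
  · rcases Bs.mem_zx h with h | h | h
    · rw [conj_eq_one_iff.1 h, orderOf_one] at he
      exact absurd he (by decide)
    · exact ⟨g⁻¹, by rw [← h]; group⟩
    · exact ⟨g⁻¹ * S.i, by
        rw [show g⁻¹ * S.i * S.x * (g⁻¹ * S.i)⁻¹ = g⁻¹ * (S.i * S.x * S.i⁻¹) * g by group, i_x, ← h]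
        group⟩
  · exact ⟨g⁻¹ * c⁻¹ * S.g0, by
      rw [show g⁻¹ * c⁻¹ * S.g0 * S.x * (g⁻¹ * c⁻¹ * S.g0)⁻¹ = g⁻¹ * c⁻¹ * S.y * c * g by
        rw [y]; group, ← h]
      group⟩

theorem exists_NE {e : G} (he : e ∈ S.E) (h1 : e ≠ 1) :
    ∃ g ∈ normalizer (S.E : Set G), g * S.x * g⁻¹ = e := by
  have : Fact (Nat.Prime 3) := ⟨by decide⟩
  obtain ⟨g, rfl⟩ := S.exists_conj_x (orderOf_eq_prime (E_cube he) h1)
  obtain ⟨a, ha, h2⟩ : ∃ a ∈ S.E, g⁻¹ * a * g ∉ zpowers S.x := by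
    by_contra h
    simp only [not_exists, not_and, not_not] at h
    have h3 : g⁻¹ ∈ S.L := H35.mem_normalizer_zpowers_iff.2 (by rw [inv_inv]; exact h _ x_mem_E)
    have := conj_mem_of_mem_norm (inv_mem h3) (h _ y_mem_E)
    exact y_not_mem (by simpa [mul_assoc] using this)
  obtain ⟨c, hc, h3⟩ := (three_C (S := S) (e := g⁻¹ * a * g) (S.mem_C.2 (by
    calc _ = g⁻¹ * (a * (g * S.x * g⁻¹)) * g := by group
      _ = _ := by rw [E_comm ha he]; group)) (by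
    rw [show g⁻¹ * a * g = g⁻¹ * a * g⁻¹⁻¹ by rw [inv_inv], conj_pow, E_cube ha]; group)).resolve_left h2
  have h4 : g * c⁻¹ * S.x * (g * c⁻¹)⁻¹ = g * S.x * g⁻¹ := by
    rw [mul_assoc g, S.mem_C.1 (inv_mem hc)]; group
  exact ⟨g * c⁻¹, Bs.mem_NE (h4 ▸ he) (by rw [← h3]; simpa [mul_assoc] using ha), h4⟩

theorem le_of_gen {A B : Subgroup G} (h3 : ¬ 3 ∣ Nat.card A) (hn : S.E ≤ normalizer (A : Set G))
    (h : ∀ g ∈ normalizer (S.E : Set G), A ⊓ centralizer {g * S.x * g⁻¹} ≤ B) : A ≤ B := by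
  have : Fact (Nat.Prime 3) := ⟨by decide⟩
  refine H46.le_of_forall_element Bs.E_three ⟨⟨fun a b => Subtype.ext (E_comm a.2 b.2)⟩⟩
    (fun c => ?_) h3 hn fun a ha h1 => ?_
  · obtain ⟨g, hg⟩ := IsCyclic.exists_ofOrder_eq_natCard (α := S.E)
    have := orderOf_dvd_of_pow_eq_one (x := g) (n := 3) (Subtype.ext (E_cube g.2))
    rw [hg, card_E] at this
    exact absurd this (by decide)
  · obtain ⟨g, hg, rfl⟩ := exists_NE ha h1
    exact h g hg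

theorem Bs.rh_comm {g : G} (hl : g ∈ S.L) (hu : g ∈ centralizer (S.U : Set G)) {k : ℕ}
    (hk : k ∈ [0, 2, 4, 6]) : S.rh g * ub k = ub k * S.rh g := by
  rw [← rh_lf (S := S) (X49.ub_mem_X k), ← rh_mul hl (lf_mem _), ← hu _ (Bs.lf_U hk),
    rh_mul (lf_mem _) hl]

theorem mem_F_of_two {g : G} (hc : g ∈ S.C) (hu : g ∈ centralizer (S.U : Set G)) {n : ℕ}
    (h : g ^ 2 ^ n = 1) : g ∈ S.F :=
  have ⟨h1, h2⟩ := mem_C_iff.1 hc
  mem_pre.2 ⟨h1, mem_Ub_of_cent_U h2 (Bs.rh_comm h1 hu (by decide)) (Bs.rh_comm h1 hu (by decide))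
    (n := n) (by rw [← rh_pow h1, h, rh_one])⟩

theorem mem_L_cent_U {g : G} (hl : g ∈ S.L) (hu : g ∈ centralizer (S.U : Set G)) :
    ∃ f ∈ S.F, ∃ e ∈ S.E, g = f * e ∨ g = f * e * S.i := by
  obtain ⟨k, hk, i, j, e⟩ := cent_U (rh_mem g) (Bs.rh_comm hl hu (by decide))
    (Bs.rh_comm hl hu (by decide))
  have he : S.x ^ i * S.y ^ j ∈ S.E := mem_E.2 ⟨i, j, rfl⟩
  have hf : S.lf (ub k) ∈ S.F := lf_mem_pre (ub_X hk) (ub_mem hk)
  have h1 := mul_mem (lf_mem (S := S) (ub k)) (Bs.E_L he)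
  rcases e with e | e
  · rcases (rh_eq_iff hl h1).1 (by rw [Bs.rh_fe, e]) with e | e
    · exact ⟨_, hf, _, he, .inl e⟩
    · exact ⟨_, mul_mem z_mem_F hf, _, he, .inl (by rw [e, z_comm h1, mul_assoc])⟩
  · rcases (rh_eq_iff hl (mul_mem h1 i_mem)).1 (by rw [rh_mul h1 i_mem, Bs.rh_fe, e, rh_i]) with e | e
    · exact ⟨_, hf, _, he, .inr e⟩
    · exact ⟨_, mul_mem z_mem_F hf, _, he, .inr (by
        rw [e, z_comm (mul_mem h1 i_mem)]; simp only [mul_assoc])⟩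

theorem normal_two {A : Subgroup G} (h : A ≤ S.L) (h2 : IsPGroup 2 A)
    (hn : S.C ≤ normalizer (A : Set G)) : A ≤ zpowers S.z := by
  have h3 : ∀ a ∈ A, S.rh a ^ 3 = 1 → S.rh a = 1 := fun a ha e =>
    let ⟨n, hn⟩ := isPGroup_iff_mem.1 h2 a ha
    eq_one_of_cop (cop 1 n) e (by rw [← rh_pow (h ha), hn, rh_one])
  have h4 : A ≤ S.C := fun a ha => by
    by_contra hc
    have h5 := mul_mem (conj_mem_of_mem_norm (hn (S.mem_C.2 rfl)) ha) (inv_mem ha)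
    rw [show S.x * a * S.x⁻¹ * a⁻¹ = S.x * (a * S.x * a⁻¹)⁻¹ by group, inv_of_not_mem_C (h ha) hc,
      inv_inv] at h5
    have h6 := h3 _ h5 (by rw [rh_mul S.x_mem S.x_mem, rh_x, ← sq, ← pow_mul, mul_comm, pow_mul,
      om_pow_three, one_pow])
    rw [rh_mul S.x_mem S.x_mem, rh_x] at h6
    exact om_ne_inv (eq_inv_of_mul_eq_one_left h6)
  rcases normal_cases (A := S.bar A) (fun b hb => let ⟨g, hg, _, e⟩ := mem_bar.1 hb
    e ▸ (mem_C_iff.1 (h4 hg)).2) (le_normalizer_iff.2 fun b hb c hc => by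
      obtain ⟨g, hg, hl, rfl⟩ := mem_bar.1 hc
      rw [← rh_lf (S := S) hb.1, ← rh_conj (lf_mem b) hl]
      exact rh_mem_bar (conj_mem_of_mem_norm (hn (pre_X0 (S := S) ▸ lf_mem_pre hb.1 hb)) hg)
        (mul_mem (mul_mem (lf_mem b) hl) (inv_mem (lf_mem b)))) with e | e
  · refine fun a ha => mem_zpowers_z.2 ((rh_eq_one (h ha)).1 (h3 a ha ?_))
    obtain ⟨n, hn⟩ := e (rh_mem_bar ha (h ha))
    rw [← hn, ← zpow_natCast, ← zpow_mul, mul_comm, zpow_mul, zpow_natCast, om_pow_three, one_zpow]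
  · obtain ⟨g, hg, -, e⟩ := mem_bar.1 (e ▸ om_mem_X0 : om ∈ S.bar A)
    exact absurd (e ▸ h3 g hg (e ▸ om_pow_three)) om_ne_one

theorem rank_C {A : Subgroup G} (h : A ≤ S.C) (h2 : ∀ a ∈ A, a * a = 1)
    (hz : S.z ∈ A → S.z = 1) : Nat.card A ∣ 16 := by
  rw [card_of_inj (h.trans S.C_le_L) hz]
  refine rank_X0 (fun b hb => ?_) fun b hb => ?_ <;> obtain ⟨g, hg, hl, rfl⟩ := mem_bar.1 hb
  exacts [(mem_C_iff.1 (h hg)).2, by rw [← rh_mul hl hl, h2 g hg, rh_one]]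

theorem conj_z_mem_U {g : G} (hg : g ∈ normalizer (S.E : Set G)) : g * S.z * g⁻¹ ∈ S.U :=
  conj_mem_of_mem_norm (NE_le_NU hg) Bs.z_U

theorem conj_z_ne (h : S.zy ≠ S.z) {g : G} (hc : g * S.x * g⁻¹ ∈ S.C)
    (hx : g * S.x * g⁻¹ ∉ zpowers S.x) : g * S.z * g⁻¹ ≠ S.z := fun e => by
  obtain ⟨c, h1, h2⟩ := (three_C hc (by rw [conj_pow, S.x_cube]; group)).resolve_left hx
  refine h ?_
  rw [zy, ← z_conj_eq (g := c * g) (by
    rw [show c * g * S.x * (c * g)⁻¹ = S.y by rw [← h2]; group]; exact mem_zpowers _),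
    show c * g * S.z * (c * g)⁻¹ = c * (g * S.z * g⁻¹) * c⁻¹ by group, e, z_comm (S.C_le_L h1),
    mul_inv_cancel_right]

/-- the conjugates of `zy` under `r` -/
noncomputable def Bs.zj (S : Loc G) (j : ℕ) : G := S.r ^ j * S.zy * (S.r ^ j)⁻¹

theorem Bs.exists_g (S : Loc G) : ∃ g ∈ normalizer (S.E : Set G),
    g * S.x * g⁻¹ = S.y ∧ g * S.z * g⁻¹ = S.zy := by
  obtain ⟨g, hg, e⟩ := exists_NE (y_mem_E (S := S)) fun e => y_not_mem (e ▸ one_mem _)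
  exact ⟨g, hg, e, z_conj_eq (e ▸ mem_zpowers _)⟩

theorem Bs.zj_conj (j : ℕ) : ∃ w ∈ normalizer (S.E : Set G), w * S.z * w⁻¹ = Bs.zj S j := by
  obtain ⟨g, hg, -, e⟩ := Bs.exists_g S
  exact ⟨S.r ^ j * g, mul_mem (pow_mem r_mem_NE j) hg, by rw [Bs.zj, ← e]; group⟩

theorem Bs.zj_U (j : ℕ) : Bs.zj S j ∈ S.U :=
  let ⟨_, hw, e⟩ := Bs.zj_conj (S := S) j
  e ▸ conj_z_mem_U hw

theorem Bs.conj_cases {w : G} (hw : w ∈ normalizer (S.E : Set G)) :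
    w * S.z * w⁻¹ = S.z ∨ ∃ j < 3, w * S.z * w⁻¹ = Bs.zj S j := by
  refine (mem_E_cases (conj_mem_of_mem_norm hw x_mem_E)).imp (fun h => ?_) fun ⟨j, hj, h⟩ => ⟨j, hj, ?_⟩
  · simpa using z_conj_eq (S := S) (g := w) (h := 1) (by simpa using h)
  · rw [z_conj_eq (h := S.r ^ j * S.g0) (by convert h using 2; rw [y]; group), Bs.zj, zy]
    group

theorem Bs.rh_zj (h : S.zy ≠ S.z) : ∃ k ∈ [2, 4, 6], ∀ j, tt j k < 16 ∧ S.rh (Bs.zj S j) = ub (tt j k) := by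
  have h0 : Bs.zj S 0 = S.zy := by simp [Bs.zj]
  obtain ⟨hl, k, hk, e⟩ := mem_U.1 (h0 ▸ Bs.zj_U (S := S) 0)
  refine ⟨k, ((by decide : ∀ k ∈ [0, 2, 4, 6], k = 0 ∨ k ∈ [2, 4, 6]) k hk).resolve_left ?_, fun j => ?_⟩
  · rintro rfl
    rcases (rh_eq_one hl).1 (e.trans ub_zero) with a | a
    · exact h (a.trans (conj_eq_one_iff.1 a).symm)
    · exact h a
  · induction j with
    | zero => exact ⟨(by decide : ∀ k ∈ [0, 2, 4, 6], k < 16) k hk, h0 ▸ e⟩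
    | succ j ih =>
      rw [tt, Function.iterate_succ_apply', ← tt]
      refine ⟨(by decide : ∀ k < 16, nthD tr' 0 k < 16) _ ih.1, ?_⟩
      rw [← rb_ub ih.1, ← ih.2, ← rh_r (S := S), ← rh_conj r_mem (Bs.U_L (Bs.zj_U j)), Bs.zj, Bs.zj]
      congr 1
      group

theorem zy_prod (h : S.zy ≠ S.z) :
    S.zy * (S.r * S.zy * S.r⁻¹) * (S.r⁻¹ * S.zy * S.r) = S.z := by
  obtain ⟨k, hk, e⟩ := Bs.rh_zj h
  obtain ⟨t1, t2⟩ := (by decide : ∀ k ∈ [2, 4, 6], tt 0 k ^^^ tt 1 k = tt 2 k ∧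
    ∀ j < 3, ∀ l < 3, tt j k = tt l k → j = l) k hk
  have l := fun j => Bs.U_L (Bs.zj_U (S := S) j)
  have s := fun j => F_sq (Bs.zj_U (S := S) j).1
  have i1 : ∀ j < 3, ∀ m < 3, S.rh (Bs.zj S j) = S.rh (Bs.zj S m) → j = m := fun j a m b c =>
    t2 j a m b (ub_eq (e j).1 (e m).1 (by rw [← (e j).2, c, (e m).2]))
  have r2 : S.r⁻¹ = S.r ^ 2 := inv_eq_of_mul_eq_one_left (by rw [← pow_succ, r_cube])
  rw [show S.zy * (S.r * S.zy * S.r⁻¹) * (S.r⁻¹ * S.zy * S.r) = Bs.zj S 0 * Bs.zj S 1 * Bs.zj S 2 by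
    rw [Bs.zj, Bs.zj, Bs.zj, ← r2]; group]
  refine ((rh_eq_one (mul_mem (mul_mem (l 0) (l 1)) (l 2))).1 (by
    rw [rh_mul (mul_mem (l 0) (l 1)) (l 2), rh_mul (l 0) (l 1), (e 0).2, (e 1).2,
      ← ub_xor (e 0).1 (e 1).1, t1, ← (e 2).2, ← rh_mul (l 2) (l 2), s, rh_one])).resolve_left fun p => ?_
  obtain ⟨g, hg, -, e0⟩ := Bs.exists_g S
  have e1 : g * S.z * g⁻¹ = Bs.zj S 0 := by simp [Bs.zj, e0]
  have a : ∀ j < 3, j ≠ 0 → ∃ m < 3, g⁻¹ * Bs.zj S j * g = Bs.zj S m := fun j hj h0 => by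
    obtain ⟨w, hw, e2⟩ := Bs.zj_conj (S := S) j
    have := Bs.conj_cases (mul_mem (inv_mem hg) hw)
    rw [show g⁻¹ * w * S.z * (g⁻¹ * w)⁻¹ = g⁻¹ * Bs.zj S j * g by rw [← e2]; group] at this
    refine this.resolve_left fun c => h0 (i1 j hj 0 (by decide) ?_)
    rw [← e1, ← c]
    congr 1
    group
  obtain ⟨m, hm, a1⟩ := a 1 (by decide) (by decide)
  obtain ⟨n, hn, a2⟩ := a 2 (by decide) (by decide)
  have q : S.z * (Bs.zj S m * Bs.zj S n) = 1 := by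
    rw [← a1, ← a2, ← conj_eq_one_iff (a := g), ← p, ← e1]; group
  have q' := congrArg S.rh q
  rw [rh_mul S.z_mem (mul_mem (l m) (l n)), rh_z, one_mul, rh_mul (l m) (l n), rh_one] at q'
  rw [i1 m hm n hn (by rw [eq_inv_of_mul_eq_one_left q', ← rh_inv (l n),
    inv_eq_of_mul_eq_one_right (s n)]), s, mul_one] at q
  exact h (by rw [zy, q]; group)

theorem Good.i_cent_U (h : S.Good) : S.i ∈ centralizer (S.U : Set G) := fun u hu => by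
  obtain ⟨hl, m, hm, e⟩ := mem_U.1 hu
  rcases h with h | h
  · obtain ⟨t1, t2⟩ := (by decide : ∀ k ∈ [0, 2, 4, 6], k < 16 ∧ nthD ti 0 k = k) m hm
    have := (rh_eq_iff (mul_mem (mul_mem i_mem hl) (inv_mem i_mem)) hl).1 (by
      rw [rh_conj i_mem hl, rh_i, e, ib_ub t1, t2])
    rw [h, mul_one, or_self] at this
    exact (mul_inv_eq_iff_eq_mul.1 this).symm
  have c : ∀ j, Commute S.i (Bs.zj S j) := fun j => by
    obtain ⟨w, hw, e⟩ := Bs.zj_conj (S := S) j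
    refine mul_inv_eq_iff_eq_mul.1 ?_
    rw [← e]
    refine Eq.trans (by group) (z_conj_eq (S := S) (g := S.i * w) (by
      rw [show S.i * w * S.x * (S.i * w)⁻¹ = S.i * (w * S.x * w⁻¹) * S.i⁻¹ by group,
        i_conj_E (conj_mem_of_mem_norm hw x_mem_E)]
      exact inv_mem (mem_zpowers _)))
  have cz : Commute S.i S.z := z_comm i_mem
  obtain ⟨k, hk, e'⟩ := Bs.rh_zj h
  rcases (by decide : ∀ k ∈ [2, 4, 6], ∀ m ∈ [0, 2, 4, 6], m = 0 ∨ ∃ j < 3, tt j k = m) k hk m hm with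
    rfl | ⟨j, -, rfl⟩
  · rcases (rh_eq_one hl).1 (e.trans ub_zero) with rfl | rfl
    exacts [by simp, cz.symm]
  · rcases (rh_eq_iff hl (Bs.U_L (Bs.zj_U j))).1 (e.trans (e' j).2.symm) with rfl | rfl
    exacts [(c j).symm, ((c j).mul_right cz).symm]

theorem Good.i_sq (h : S.Good) : S.i * S.i = 1 := by
  refine ((rh_eq_one (mul_mem i_mem i_mem)).1 (by rw [rh_mul i_mem i_mem, rh_i, ib_sq])).elim id
    fun e => ?_
  rcases id h with h' | h'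
  · rw [e, h']
  obtain ⟨g, hg, -, e0⟩ := Bs.exists_g S
  obtain ⟨u, hu, a, ha, e1⟩ := (mem_cent_E (S := S) (g := S.i⁻¹ * (g * S.i * g⁻¹))).1 fun b hb => by
    have h1 := i_conj_E (conj_mem_of_mem_norm' hg hb)
    have h2 := i_conj_E hb
    calc _ = S.i⁻¹ * (S.i * b * S.i⁻¹) * (g * S.i * g⁻¹) := by group
      _ = S.i⁻¹ * g * (g⁻¹ * b * g)⁻¹ * S.i * g⁻¹ := by rw [h2]; group
      _ = _ := by rw [← h1]; group
  refine absurd ?_ h'
  have c1 : u * S.i = S.i * u := h.i_cent_U u hu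
  have c2 : a * u = u * a := Bs.U_cE hu a ha
  have c3 := i_conj_E ha
  rw [inv_mul_eq_iff_eq_mul] at e1
  calc S.zy = g * S.i * g⁻¹ * (g * S.i * g⁻¹) := by rw [← e0, ← e]; group
    _ = S.i * (u * a) * (u * S.i * a) := by rw [e1, c1, mul_assoc S.i u a]
    _ = S.i * (u * (a * u) * (S.i * a * S.i⁻¹)) * S.i := by group
    _ = S.i * (u * u) * S.i := by rw [c2, c3]; group
    _ = S.z := by rw [F_sq hu.1, mul_one, e]

end Loc

end Cfsg.Agent.J4R
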