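import Cfsg.Agent.J4R.NHat
import Cfsg.Agent.H35.PrimeOrder
import Cfsg.Agent.H2.AbelianCoprime
import Cfsg.Agent.H21.Basic

/-! Project J4R (notes/J4R.md section BuildQ). -/

set_option autoImplicit false
set_option linter.unusedSectionVars false

namespace Cfsg.Agent.J4R

open Subgroup Cfsg.Agent.H14 Cfsg.Agent.SGJ4 AG Cfsg.Agent.H80.J4 Cfsg.Agent.H70
open scoped commutatorElement

namespace Loc

variable {G : Type*} [Group G] [Finite G] {S : Loc G}

namespace BQ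

theorem kb_not : kb ∉ Yb := fun h => by
  obtain ⟨h1, h2, h3, h4, -⟩ := mem_Yb_elts
  have k := X_le_of_gens Ub_le_Yb h h1 h2 h3 h4
  rcases normal_cases Ub_le_X0 (le_norm_iff_cj.2 fun a ha => cj_le_iff.2 fun u hu =>
    conj_Ub ha.1 (k ha.1) hu) with e | e
  · have := card_dvd_of_le e
    rw [card_Ub, Nat.card_zpowers, orderOf_om] at this
    omega
  · have := card_Ub
    rw [e, card_X0] at this
    omega

theorem dec {D : Subgroup G} (h2 : IsPGroup 2 D) (hc : ∀ a ∈ D, ∀ b ∈ D, a * b = b * a)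
    (hn : S.x ∈ normalizer (D : Set G)) :
    D ⊓ S.C ⊓ ⁅D, zpowers S.x⁆ = ⊥ ∧ D ⊓ S.C ⊔ ⁅D, zpowers S.x⁆ = D := by
  have : IsMulCommutative D := ⟨⟨fun a b => Subtype.ext (hc a a.2 b b.2)⟩⟩
  obtain ⟨k, hk⟩ := IsPGroup.iff_card.1 h2
  have := H2.coprime_abelian_decomposition (zpowers S.x) D (zpowers_le.2 hn) (by
    rw [Nat.card_zpowers, S.ox, hk]; exact Nat.Coprime.pow_right _ (by norm_num))
  rwa [H21.centralizer_zpowers] at this

theorem NV {g : G} (hg : g ∈ S.L) (h : S.rh g ∈ Yb) : g ∈ normalizer (S.V : Set G) :=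
  NF_le_NV ((mem_NF hg).2 h)

theorem NV' {g : G} (hg : g ∈ S.L) (h : kb⁻¹ * S.rh g * kb ∈ Yb) :
    g ∈ normalizer (cj (S.lf kb) S.V : Set G) := by
  have m := lf_mem (S := S) kb
  rw [← cj_normalizer, mem_cj]
  refine NV (mul_mem (mul_mem (inv_mem m) hg) m) ?_
  rwa [rh_mul (mul_mem (inv_mem m) hg) m, rh_mul (inv_mem m) hg, rh_inv m, rh_lf kb_mem.1]

end BQ

open BQ

theorem exists_QD (h : S.zy ≠ S.z) (hV : S.V ≠ S.F) : ∃ Q, S.QD Q := by
  have : Fact (Nat.Prime 2) := ⟨Nat.prime_two⟩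
  have z1 : S.z ≠ 1 := fun e => h (by rw [zy, e, mul_one, mul_inv_cancel])
  obtain ⟨y1, y2, y3, y4, -, -, y5, y6, y7, y8⟩ := mem_Yb_elts
  have cL := lf_mem (S := S) kb
  have ec := rh_lf (S := S) kb_mem.1
  have nV' := @NV' _ _ _ S
  generalize S.lf kb = c at cL ec nV'
  have cC : c ∈ S.C := mem_C_iff.2 ⟨cL, ec ▸ kb_mem⟩
  have p2 : IsPGroup 2 S.V := pCoreOf_isPGroup _
  have ab : ∀ a ∈ S.V, ∀ b ∈ S.V, a * b = b * a := fun a ha b hb => by
    rw [← inv_eq_of_mul_eq_one_right (V_sq hV (mul_mem ha hb)), mul_inv_rev,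
      inv_eq_of_mul_eq_one_right (V_sq hV ha), inv_eq_of_mul_eq_one_right (V_sq hV hb)]
  have cV : S.V ≤ centralizer (S.V : Set G) := fun a ha b hb => ab b hb a ha
  have FV : S.F ≤ S.V := V_inf_C.ge.trans inf_le_left
  have VH : S.V ≤ S.H := fun v hv => S.mem_H.2 (ab v hv _ (FV z_mem_F))
  have cH : cj c S.H = S.H := cj_eq_self_of_mem (L_le_H cL)
  have cT : cj c (zpowers S.x) = zpowers S.x := cj_eq_self cL
  have cZ : cj c (zpowers S.z) = zpowers S.z :=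
    cj_eq_self (H35.mem_normalizer_zpowers_iff.2 (by rw [z_comm cL, mul_inv_cancel_right]; exact mem_zpowers _))
  have xV : S.x ∈ normalizer (S.V : Set G) := NV S.x_mem (S.rh_x ▸ y1)
  have c2V : c * c ∈ normalizer (S.V : Set G) := NV (mul_mem cL cL) (by rwa [rh_mul cL cL, ec])
  have TV := zpowers_le.2 xV
  obtain ⟨d1, d2⟩ := dec p2 ab xV
  set W := ⁅S.V, zpowers S.x⁆ with hW
  have WV : W ≤ S.V := commutator_le_left_of_norm TV
  have nW : S.L ⊓ normalizer (S.V : Set G) ≤ normalizer (W : Set G) :=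
    norm_commutator inf_le_right inf_le_left
  have eW' : cj c W = ⁅cj c S.V, zpowers S.x⁆ := by rw [hW, cj_commutator, cT]
  have nW' : S.L ⊓ normalizer (cj c S.V : Set G) ≤ normalizer (cj c W : Set G) :=
    eW' ▸ norm_commutator inf_le_right inf_le_left
  have xV' : S.x ∈ normalizer (cj c S.V : Set G) := nV' S.x_mem (by
    rwa [rh_x, mul_assoc, ← (mem_X0_iff (X0_le_Hb kb_mem)).1 kb_mem, inv_mul_cancel_left])
  have yV' : S.y ∈ normalizer (cj c S.V : Set G) := nV' S.y_mem' (S.rh_y ▸ y6)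
  have ccW : cj c (cj c W) = W := by rw [← cj_mul, cj_eq_self (nW ⟨mul_mem cL cL, c2V⟩)]
  have W'H : cj c W ≤ S.H := cH ▸ cj_mono c (WV.trans VH)
  have W'V : cj c W ≤ normalizer (S.V : Set G) := by
    refine le_of_gen (S := S) (fun k => ?_) ((closure_le _).2 ?_) fun g hg a ha => ?_
    · obtain ⟨n, hn⟩ := IsPGroup.iff_card.1 (p2.to_le WV)
      rw [card_cj, hn] at k
      exact absurd (Nat.Prime.dvd_of_dvd_pow (by norm_num) k) (by norm_num)
    · rintro _ (rfl | rfl)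
      exacts [nW' ⟨S.x_mem, xV'⟩, nW' ⟨S.y_mem', yV'⟩]
    have a' : g⁻¹ * a * g ∈ S.C := S.mem_C.2 (by
      have := mem_centralizer_singleton_iff.1 ha.2
      calc _ = g⁻¹ * (a * (g * S.x * g⁻¹)) * g := by group
        _ = _ := by rw [this]; group)
    by_cases gL : g⁻¹ ∈ S.L
    · have aC : a ∈ S.C := by
        have : S.L ≤ normalizer (S.C : Set G) := by
          rw [C, ← H21.centralizer_zpowers]; exact norm_centralizer le_rfl
        simpa [mul_assoc] using conj_mem_of_mem_norm' (this gL) a'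
      have := d1.le ⟨⟨WV (mem_cj.1 ha.1), S.C.mul_mem (S.C.mul_mem (S.C.inv_mem cC) aC) cC⟩, mem_cj.1 ha.1⟩
      rw [mem_bot, ← inv_inv c, inv_inv c⁻¹, conj_eq_one_iff] at this
      exact this ▸ one_mem _
    have hu := conj_z_mem_U (inv_mem hg)
    have uL := (mem_pre.1 hu.1).1
    have aL := S.C_le_L a'
    have := NV aL (mem_Yb_of_conj (rh_mem _) (mem_pre.1 hu.1).2 (fun e => ((rh_eq_one uL).1 e).elim
      (fun e => z1 (conj_eq_one_iff.1 e)) (conj_z_ne h (E_le_C (conj_mem_of_mem_norm (inv_mem hg) x_mem_E))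
        fun k => gL (H35.mem_normalizer_zpowers_iff.2 k))) (by
      rw [← rh_conj aL uL, show g⁻¹ * a * g * (g⁻¹ * S.z * g⁻¹⁻¹) * (g⁻¹ * a * g)⁻¹ =
        g⁻¹ * (a * S.z * a⁻¹) * g⁻¹⁻¹ by group, S.mem_H.1 (W'H ha.1), mul_inv_cancel_right]
      exact (mem_pre.1 hu.1).2))
    have g' := NE_le_NV hV hg
    simpa [mul_assoc] using mul_mem (mul_mem g' this) (inv_mem g')
  have WV' : W ≤ normalizer (cj c S.V : Set G) := by
    rw [← cj_normalizer, ← ccW]; exact cj_mono c W'V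
  have ZV : zpowers S.z ≤ S.V := zpowers_le.2 (FV z_mem_F)
  have DW : S.V ⊓ cj c S.V ≤ W ⊔ zpowers S.z := by
    refine (dec (p2.to_le inf_le_left) (fun a ha b hb => ab a ha.1 b hb.1)
      (norm_inf TV (zpowers_le.2 xV') (mem_zpowers _))).2.ge.trans (sup_le (fun f hf => ?_)
        ((commutator_mono inf_le_left le_rfl).trans le_sup_left))
    have f1 := mem_pre.1 (V_inf_C.le ⟨hf.1.1, hf.2⟩)
    have f2 := mem_pre.1 (V_inf_C.le ⟨mem_cj.1 hf.1.2, S.C.mul_mem (S.C.mul_mem (S.C.inv_mem cC) hf.2) cC⟩)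
    refine mem_sup_right (mem_zpowers_z.2 ((rh_eq_one f1.1).1 (by_contra fun k => kb_not (inv_mem_iff.1
      (mem_Yb_of_conj (inv_mem kb_mem.1) f1.2 k ?_)))))
    have := f2.2
    rwa [rh_mul (mul_mem (inv_mem cL) f1.1) cL, rh_mul (inv_mem cL) f1.1, rh_inv cL, ec, ← inv_inv kb,
      inv_inv kb⁻¹] at this
  have WW : ⁅W, cj c W⁆ ≤ W ⊔ zpowers S.z := (le_inf ((commutator_mono WV le_rfl).trans
    (commutator_le_left_of_norm W'V)) ((commutator_mono le_rfl (cj_mono c WV)).trans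
      (commutator_le_right_of_norm WV'))).trans DW
  have HZ : S.H ≤ centralizer (zpowers S.z : Set G) := (H21.centralizer_zpowers S.z).ge
  have TW := zpowers_le.2 (nW ⟨S.x_mem, xV⟩)
  have VW : ⁅cj c W, S.V⁆ ≤ W ⊔ zpowers S.z := by
    have e : ⁅W, zpowers S.x⁆ = W := comm_comm_eq_of_pRes_eq (p := 2) (le_antisymm (pRes_le _)
      (zpowers_le.2 (mem_pRes (mem_zpowers _) (by rw [S.ox]; norm_num)))) (p2.to_le WV) TV
    rw [← e, cj_commutator, cT, e]
    refine three_subgroups (norm_of_commutator_le (comm_sup_le (norm_of_le le_sup_left)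
      (norm_of_le le_sup_right) WW ((comm_eq_bot_iff'.2 (W'H.trans HZ)).le.trans bot_le)))
      (norm_sup TW (norm_of_cent ((zpowers_le.2 (L_le_H S.x_mem)).trans HZ)))
      (norm_of_cent (cV.trans (cent_anti (sup_le WV ZV)))) (by rwa [Subgroup.commutator_comm (zpowers S.x)])
      ((commutator_mono (commutator_le_left_of_norm W'V) le_rfl).trans le_sup_left)
  have VQ : S.V ≤ normalizer ((W ⊔ zpowers S.z ⊔ cj c W : Subgroup G) : Set G) :=
    norm_of_commutator_le (comm_sup_le (norm_of_le le_sup_left) (norm_of_le le_sup_right)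
      ((comm_eq_bot_iff'.2 (cV.trans (cent_anti (sup_le WV ZV)))).le.trans bot_le) (VW.trans le_sup_left))
  have nQ : S.L ⊓ normalizer (S.V : Set G) ⊓ normalizer (cj c S.V : Set G) ≤
      S.L ⊓ normalizer ((W ⊔ zpowers S.z ⊔ cj c W : Subgroup G) : Set G) :=
    le_inf (inf_le_left.trans inf_le_left) (norm_sup (norm_sup (inf_le_left.trans nW) (norm_of_cent
      ((inf_le_left.trans (inf_le_left.trans L_le_H)).trans HZ)))
      ((inf_le_inf_right _ inf_le_left).trans nW'))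
  refine ⟨W ⊔ zpowers S.z ⊔ cj c W, (isPGroup_sup_of_norm' p2 (isPGroup_cj c (p2.to_le WV)) W'V).to_le
    (sup_le_sup_right (sup_le WV ZV) _), ?_, mem_sup_left (mem_sup_right (mem_zpowers _)),
    sup_le ((sup_le WV ZV).trans VH) W'H, fun e => hV ?_⟩
  · refine le_trans ?_ (inf_le_right (a := S.L))
    rw [← pre_bar inf_le_left ⟨S.z_mem, VQ (FV z_mem_F)⟩]
    refine pre_X.ge.trans (pre_mono (X_le_of_gens (fun u hu => ?_) ?_ ?_ ?_ ?_ ?_))
    · exact rh_lf (S := S) (Ub_le_X hu) ▸ rh_mem_bar ⟨lf_mem u, VQ (FV (lf_mem_pre (Ub_le_X hu) hu))⟩ (lf_mem u)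
    · refine ec ▸ rh_mem_bar ⟨cL, cj_eq_self_iff.1 ?_⟩ cL
      rw [cj_sup, cj_sup, ccW, cZ, sup_right_comm, sup_comm (cj c W), sup_right_comm]
    · exact S.rh_x ▸ rh_mem_bar (nQ ⟨⟨S.x_mem, xV⟩, xV'⟩) S.x_mem
    · exact S.rh_y ▸ rh_mem_bar (nQ ⟨⟨S.y_mem', NV S.y_mem' (S.rh_y ▸ y2)⟩, yV'⟩) S.y_mem'
    · exact rh_r (S := S) ▸ rh_mem_bar (nQ ⟨⟨r_mem, NV r_mem (rh_r (S := S) ▸ y3)⟩,
        nV' r_mem (rh_r (S := S) ▸ y7)⟩) r_mem
    · exact rh_i (S := S) ▸ rh_mem_bar (nQ ⟨⟨i_mem, NV i_mem (rh_i (S := S) ▸ y4)⟩,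
        nV' i_mem (rh_i (S := S) ▸ y8)⟩) i_mem
  · rw [← V_inf_C, ← d2.symm.trans (sup_eq_left.2 (le_inf WV
      ((le_sup_left.trans le_sup_left).trans (e.le.trans (zpowers_le.2 z_mem_C)))))]

end Loc

end Cfsg.Agent.J4R
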