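/-
Project J4R.  Groups with an element `x` of order 3 whose normaliser modulo an element `z` with
`z * z = 1` is the model `X` = 3 M22 : 2, and which is conjugate to a lift of `xb`.
-/
import Cfsg.Agent.H80.J4X
import Cfsg.Agent.SGJ4.MainB
import Cfsg.Agent.H46.Generation

set_option autoImplicit false

namespace Cfsg.Agent.J4R

open Subgroup Cfsg.Agent.H14 Cfsg.Agent.SGJ4 AG Cfsg.Agent.H80.J4 Cfsg.Agent.H70

/-! ### named elements of the model -/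

def ci : ℕ := nat_lit 0x2cd3c26282d3491782896b24f7ceb03e8cf7032b45ba117c8d69a8482b4e41a437
def cr : ℕ := nat_lit 0xb2149a339b0cbd6d84869f3eb08f1fe8432bbc6aa35a4ea30b06bd2499d6340820
def cb : ℕ := nat_lit 0x9a84562006d07068c86588986269249221a9bb1019ba30548d65bd352b4e320a80
def cc : ℕ := nat_lit 0xca581d5c856f4a3588cf76f990b0cbc99706ba64b35448392637aa2ca15ae85820
def cs' : ℕ := nat_lit 0x8a14f0592d1513b30d1ca2f2c4c82d984006bb1147ba115d8d254c7529da911020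
def cx : ℕ := nat_lit 0x16d1f21d5bedf9f89c7dc423d4cb7dedf1d9bc44ba5a4c2c0ce9b6a87a8e41a420

theorem inS_ci : InS X ci := (show cw xG [0, 1, 0, 2, 0, 1, 2, 2, 2, 0, 3, 1, 2, 0] = ci by
  decide +kernel) ▸ inS_cw inS_xG _
theorem inS_cr : InS X cr := (show cw xG [2, 2, 2, 0, 2, 0, 1, 0, 2, 1, 0, 2, 0, 0] = cr by
  decide +kernel) ▸ inS_cw inS_xG _
theorem inS_cb : InS X cb := (show cw xG [1, 1, 0, 2, 0, 2, 3, 2, 0, 3, 1, 2, 0, 0] = cb by
  decide +kernel) ▸ inS_cw inS_xG _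
theorem inS_cc : InS X cc := (show cw xG [0, 2, 0, 0, 2, 0, 1, 2, 1, 0, 0, 2, 0, 2, 2] = cc by
  decide +kernel) ▸ inS_cw inS_xG _

theorem inS_cs' : InS X cs' := (show cw xG [2, 0, 0, 2, 2, 1, 2, 0, 2, 0, 2, 1, 1, 0, 1] = cs' by
  decide +kernel) ▸ inS_cw inS_xG _

/-- an outer involution inverting `om` and `xb`, centralising `rb` and `ub k` for `k < 8` -/
noncomputable def ib : AG := ofC ci
/-- an element of order 3 centralising `ub 3`, `ub 13`, `ub 14` -/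
noncomputable def rb : AG := ofC cr
/-- an inner involution in `Yb` centralising `ib` -/
noncomputable def bb : AG := ofC cb
/-- an inner element of order 4 normalising `Rb`, outside `Yb`, with square in `Yb` -/
noncomputable def kb : AG := ofC cc

/-- an inner element of `Yb` conjugating `xb` to `rb` -/
noncomputable def sb : AG := ofC cs'

theorem cd_sb : cd sb = cs' := inS_cs'.cd_ofC
theorem sb_mem : sb ∈ X0 :=
  mem_X0.2 ⟨inS_cs'.ofC_mem, by rw [X49.inner_cd, cd_sb]; decide +kernel⟩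
theorem cd_ib : cd ib = ci := inS_ci.cd_ofC
theorem cd_rb : cd rb = cr := inS_cr.cd_ofC
theorem cd_bb : cd bb = cb := inS_cb.cd_ofC
theorem cd_kb : cd kb = cc := inS_cc.cd_ofC
theorem cd_xb' : cd xb = cx := cd_xb
theorem ib_mem : ib ∈ X := inS_ci.ofC_mem
theorem outer_ib : ¬ Inner ib := by rw [X49.inner_cd, cd_ib]; decide +kernel
theorem rb_mem : rb ∈ X0 :=
  mem_X0.2 ⟨inS_cr.ofC_mem, by rw [X49.inner_cd, cd_rb]; decide +kernel⟩
theorem bb_mem : bb ∈ X0 :=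
  mem_X0.2 ⟨inS_cb.ofC_mem, by rw [X49.inner_cd, cd_bb]; decide +kernel⟩
theorem kb_mem : kb ∈ X0 :=
  mem_X0.2 ⟨inS_cc.ofC_mem, by rw [X49.inner_cd, cd_kb]; decide +kernel⟩
theorem xb_mem0 : xb ∈ X0 := Rb_le_X0 xb_mem
theorem ub_mem0 {k : ℕ} (hk : k < 16) : ub k ∈ X0 := mem_X0.2 ⟨X49.ub_mem_X k, X49.inner_ub hk⟩
theorem Ub_le_X0 : Ub ≤ X0 := fun _ h => by
  obtain ⟨k, hk, rfl⟩ := mem_Ub.1 h; exact ub_mem0 hk

theorem ib_sq : ib * ib = 1 := cd_inj.1 (by rw [cd_mul, cd_ib, cd_one]; decide +kernel)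
theorem bb_sq : bb * bb = 1 := cd_inj.1 (by rw [cd_mul, cd_bb, cd_one]; decide +kernel)
theorem rb_cube : rb ^ 3 = 1 := cd_inj.1 (by rw [cd_pow, cd_rb, cd_one]; decide +kernel)
theorem ib_om : ib * om * ib⁻¹ = om⁻¹ := by
  rw [outer_comm ib_mem outer_ib, mul_inv_cancel_right]
theorem ib_xb : ib * xb * ib⁻¹ = xb⁻¹ := by
  rw [mul_inv_eq_iff_eq_mul, eq_inv_mul_iff_mul_eq]
  exact cd_inj.1 (by rw [cd_mul, cd_mul, cd_ib, cd_xb']; decide +kernel)
theorem ib_rb : ib * rb = rb * ib :=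
  cd_inj.1 (by rw [cd_mul, cd_mul, cd_ib, cd_rb]; decide +kernel)
theorem ib_bb : ib * bb = bb * ib :=
  cd_inj.1 (by rw [cd_mul, cd_mul, cd_ib, cd_bb]; decide +kernel)
theorem xb_rb : xb * rb = rb * xb * om :=
  cd_inj.1 (by rw [cd_mul, cd_mul, cd_mul, cd_xb', cd_rb, cd_om]; decide +kernel)
theorem bb_rb : bb * (rb * bb * rb⁻¹) * (rb⁻¹ * bb * rb) = 1 := by
  have : rb⁻¹ = rb * rb := inv_eq_of_mul_eq_one_right (by rw [← rb_cube, pow_three])
  rw [this]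
  exact cd_inj.1 (by simp only [cd_mul, cd_rb, cd_bb, cd_one]; decide +kernel)
theorem kb_xb : kb * xb * kb⁻¹ = xb⁻¹ * rb⁻¹ := by
  rw [mul_inv_eq_iff_eq_mul, ← mul_inv_rev, eq_inv_mul_iff_mul_eq]
  exact cd_inj.1 (by simp only [cd_mul, cd_rb, cd_kb, cd_xb']; decide +kernel)
theorem kb_rb : kb * rb * kb⁻¹ = xb⁻¹ * rb := by
  rw [mul_inv_eq_iff_eq_mul, mul_assoc, eq_inv_mul_iff_mul_eq]
  exact cd_inj.1 (by simp only [cd_mul, cd_rb, cd_kb, cd_xb']; decide +kernel)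

theorem sb_xb : sb * xb * sb⁻¹ = rb := by
  rw [mul_inv_eq_iff_eq_mul]
  exact cd_inj.1 (by simp only [cd_mul, cd_rb, cd_sb, cd_xb']; decide +kernel)
theorem sb_rb : sb * rb * sb⁻¹ = xb⁻¹ := by
  rw [mul_inv_eq_iff_eq_mul, eq_inv_mul_iff_mul_eq]
  exact cd_inj.1 (by simp only [cd_mul, cd_rb, cd_sb, cd_xb']; decide +kernel)

/-- conjugation table of an element with code `c` on `Ub` -/
noncomputable def actOK (c : ℕ) (t : List ℕ) : Bool :=
  allN 16 fun k => Nat.beq (cmul c (nthD ubL cone k)) (cmul (nthD ubL cone (nthD t 0 k)) c)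

theorem conj_ub {a : AG} {c : ℕ} (ha : cd a = c) {t : List ℕ} (h : actOK c t = true) {k : ℕ}
    (hk : k < 16) : a * ub k * a⁻¹ = ub (nthD t 0 k) := by
  rw [mul_inv_eq_iff_eq_mul]
  exact cd_inj.1 (by rw [cd_mul, cd_mul, ha, cd_ub, cd_ub]; exact beq_iff.1 (allN_iff.1 h k hk))

def tx : List ℕ := [0, 15, 2, 13, 4, 11, 6, 9, 5, 10, 7, 8, 1, 14, 3, 12]
def tr' : List ℕ := [0, 7, 4, 3, 6, 1, 2, 5, 12, 11, 8, 15, 10, 13, 14, 9]
def ti : List ℕ := [0, 1, 2, 3, 4, 5, 6, 7, 11, 10, 9, 8, 15, 14, 13, 12]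
def tb' : List ℕ := [0, 1, 2, 3, 7, 6, 5, 4, 10, 11, 8, 9, 13, 12, 15, 14]

def ts' : List ℕ := [0, 1, 3, 2, 14, 15, 13, 12, 11, 10, 8, 9, 5, 4, 6, 7]
def tk : List ℕ := [0, 5, 6, 3, 4, 1, 2, 7, 15, 10, 9, 12, 11, 14, 13, 8]

theorem sb_ub {k : ℕ} (hk : k < 16) : sb * ub k * sb⁻¹ = ub (nthD ts' 0 k) :=
  conj_ub cd_sb (by decide +kernel) hk
theorem kb2_ub {k : ℕ} (hk : k < 16) : kb * kb * ub k * (kb * kb)⁻¹ = ub (nthD tk 0 k) :=
  conj_ub (by rw [cd_mul, cd_kb]) (by decide +kernel) hk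
theorem xb_ub {k : ℕ} (hk : k < 16) : xb * ub k * xb⁻¹ = ub (nthD tx 0 k) :=
  conj_ub cd_xb' (by decide +kernel) hk
theorem rb_ub {k : ℕ} (hk : k < 16) : rb * ub k * rb⁻¹ = ub (nthD tr' 0 k) :=
  conj_ub cd_rb (by decide +kernel) hk
theorem ib_ub {k : ℕ} (hk : k < 16) : ib * ub k * ib⁻¹ = ub (nthD ti 0 k) :=
  conj_ub cd_ib (by decide +kernel) hk
theorem bb_ub {k : ℕ} (hk : k < 16) : bb * ub k * bb⁻¹ = ub (nthD tb' 0 k) :=
  conj_ub cd_bb (by decide +kernel) hk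

/-! ### the hypothesis -/

structure Loc (G : Type*) [Group G] where
  x : G
  z : G
  g0 : G
  ρ : normalizer (zpowers x : Set G) →* AG
  ox : orderOf x = 3
  zz : z * z = 1
  z_mem : z ∈ normalizer (zpowers x : Set G)
  range_ρ : ρ.range = X
  ker_ρ : ∀ l, ρ l = 1 ↔ (l : G) = 1 ∨ (l : G) = z
  ρ_x : ρ ⟨x, le_normalizer (mem_zpowers x)⟩ = om
  y_mem : g0 * x * g0⁻¹ ∈ normalizer (zpowers x : Set G)
  ρ_y : ρ ⟨_, y_mem⟩ = xb

namespace Loc

variable {G : Type*} [Group G] (S : Loc G)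

/-- the normaliser of `x` -/
abbrev L : Subgroup G := normalizer (zpowers S.x : Set G)
/-- the centraliser of `x` -/
abbrev C : Subgroup G := centralizer ({S.x} : Set G)
/-- the centraliser of `z` -/
abbrev H : Subgroup G := centralizer ({S.z} : Set G)

/-- the map to the model as a function on `G` (value 1 outside `L`) -/
noncomputable def rh (g : G) : AG := by
  classical exact if h : g ∈ S.L then S.ρ ⟨g, h⟩ else 1

/-- full preimage of a subgroup of the model -/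
def pre (A : Subgroup AG) : Subgroup G := (A.comap S.ρ).map S.L.subtype
/-- image of a subgroup of `G` (intersected with `L`) in the model -/
def bar (A : Subgroup G) : Subgroup AG := (A.subgroupOf S.L).map S.ρ

/-- a lift of a member of `X` -/
noncomputable def lf (a : AG) : G := by
  classical exact if h : a ∈ S.ρ.range then (h.choose : S.L) else 1

/-- the conjugate of `x` over `xb` -/
def y : G := S.g0 * S.x * S.g0⁻¹
/-- the element `z` belonging to `y` -/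
def zy : G := S.g0 * S.z * S.g0⁻¹
/-- the lift of order 3 of `rb` -/
noncomputable def r : G := S.lf rb ^ 4
/-- a lift of `ib` -/
noncomputable def i : G := S.lf ib
/-- the group generated by `x` and `y`, of order 9 -/
def E : Subgroup G := closure {S.x, S.y}
/-- the preimage of the hexad group -/
def F : Subgroup G := S.pre Ub
/-- the 2-part of the centraliser of `E` -/
def U : Subgroup G := S.F ⊓ centralizer {S.y}
/-- the largest normal 2-subgroup of the centraliser of `F` -/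
def V : Subgroup G := pCoreOf 2 (centralizer (S.F : Set G))

/-- the two cases in which the local analysis is carried out -/
def Good : Prop := S.z = 1 ∨ S.zy ≠ S.z

/-- a 2-subgroup above `z` normalised by `L` -/
structure QD (Q : Subgroup G) : Prop where
  two : IsPGroup 2 Q
  norm : S.L ≤ normalizer (Q : Set G)
  z_mem : S.z ∈ Q
  le_H : Q ≤ S.H
  ne : Q ≠ zpowers S.z

theorem rh_eq {g : G} (h : g ∈ S.L) : S.rh g = S.ρ ⟨g, h⟩ := dif_pos h
theorem rh_coe (h : S.L) : S.rh h = S.ρ h := dif_pos h.2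
theorem z_inv : S.z⁻¹ = S.z := inv_eq_of_mul_eq_one_right S.zz
theorem x_mem : S.x ∈ S.L := le_normalizer (mem_zpowers _)
theorem x_cube : S.x ^ 3 = 1 := by rw [← S.ox, pow_orderOf_eq_one]
theorem oy : orderOf S.y = 3 := by rw [y, ← MulAut.conj_apply, MulEquiv.orderOf_eq, S.ox]
theorem y_cube : S.y ^ 3 = 1 := by rw [← S.oy, pow_orderOf_eq_one]
theorem y_mem' : S.y ∈ S.L := S.y_mem
theorem rh_x : S.rh S.x = om := (S.rh_eq S.x_mem).trans S.ρ_x
theorem rh_y : S.rh S.y = xb := (S.rh_eq S.y_mem).trans S.ρ_y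
theorem rh_z : S.rh S.z = 1 := (S.rh_eq S.z_mem).trans ((S.ker_ρ _).2 (Or.inr rfl))
theorem mem_C {g : G} : g ∈ S.C ↔ g * S.x = S.x * g := mem_centralizer_singleton_iff
theorem mem_H {g : G} : g ∈ S.H ↔ g * S.z = S.z * g := mem_centralizer_singleton_iff
theorem C_le_L : S.C ≤ S.L := by
  rw [C, ← centralizer_closure, ← zpowers_eq_closure]; exact centralizer_le_normalizer _

variable {S}

theorem rh_mul {g h : G} (hg : g ∈ S.L) (hh : h ∈ S.L) : S.rh (g * h) = S.rh g * S.rh h := by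
  rw [S.rh_eq hg, S.rh_eq hh, S.rh_eq (mul_mem hg hh), ← map_mul]; rfl
theorem rh_one : S.rh 1 = 1 := by rw [S.rh_eq (one_mem _)]; exact map_one S.ρ
theorem rh_inv {g : G} (hg : g ∈ S.L) : S.rh g⁻¹ = (S.rh g)⁻¹ := by
  rw [S.rh_eq hg, S.rh_eq (inv_mem hg), ← map_inv]; rfl
theorem rh_pow {g : G} (hg : g ∈ S.L) (n : ℕ) : S.rh (g ^ n) = S.rh g ^ n := by
  rw [S.rh_eq hg, S.rh_eq (pow_mem hg n), ← map_pow]; rfl
theorem rh_conj {g h : G} (hg : g ∈ S.L) (hh : h ∈ S.L) :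
    S.rh (g * h * g⁻¹) = S.rh g * S.rh h * (S.rh g)⁻¹ := by
  rw [rh_mul (mul_mem hg hh) (inv_mem hg), rh_mul hg hh, rh_inv hg]
theorem rh_mem (g : G) : S.rh g ∈ X := by
  by_cases h : g ∈ S.L
  · rw [S.rh_eq h, ← S.range_ρ]; exact ⟨_, rfl⟩
  · rw [rh, dif_neg h]; exact one_mem _
theorem lf_mem (a : AG) : S.lf a ∈ S.L := by
  unfold lf; split_ifs with h; exacts [h.choose.2, one_mem _]
theorem rh_lf {a : AG} (ha : a ∈ X) : S.rh (S.lf a) = a := by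
  rw [← S.range_ρ] at ha
  rw [lf, dif_pos ha, rh_coe]; exact ha.choose_spec
theorem rh_eq_one {g : G} (hg : g ∈ S.L) : S.rh g = 1 ↔ g = 1 ∨ g = S.z := by
  rw [S.rh_eq hg]; exact S.ker_ρ _
theorem rh_eq_iff {g h : G} (hg : g ∈ S.L) (hh : h ∈ S.L) :
    S.rh g = S.rh h ↔ g = h ∨ g = h * S.z := by
  rw [← inv_mul_eq_one, ← rh_inv hg, ← rh_mul (inv_mem hg) hh,
    rh_eq_one (mul_mem (inv_mem hg) hh), inv_mul_eq_one, inv_mul_eq_iff_eq_mul]
  refine or_congr_right ⟨fun e => ?_, fun e => ?_⟩ <;> rw [e, mul_assoc, S.zz, mul_one]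
theorem rh_mul_z {g : G} (hg : g ∈ S.L) : S.rh (g * S.z) = S.rh g := by
  rw [rh_mul hg S.z_mem, rh_z, mul_one]

theorem z_comm {g : G} (hg : g ∈ S.L) : g * S.z = S.z * g := by
  rcases (rh_eq_one (mul_mem (mul_mem hg S.z_mem) (inv_mem hg))).1 (by
    rw [rh_conj hg S.z_mem, rh_z, mul_one, mul_inv_cancel]) with h | h
  · rw [conj_eq_one_iff.1 h, mul_one, one_mul]
  · exact mul_inv_eq_iff_eq_mul.1 h
theorem L_le_H : S.L ≤ S.H := fun _ h => S.mem_H.2 (z_comm h)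

/-- two elements of `L` of order dividing an odd number with the same image are equal -/
theorem eq_of_odd {g h : G} (hg : g ∈ S.L) (hh : h ∈ S.L) {n : ℕ} (hn : Odd n) (h1 : g ^ n = 1)
    (h2 : h ^ n = 1) (e : S.rh g = S.rh h) : g = h := by
  rcases (rh_eq_iff hg hh).1 e with e | e
  · exact e
  · obtain ⟨k, rfl⟩ := hn
    rw [e, (show Commute h S.z from z_comm hh).mul_pow, h2, one_mul, pow_succ, pow_mul, sq, S.zz,
      one_pow, one_mul] at h1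
    rw [e, h1, mul_one]

/-- an element of odd order commuting with `g` in the model commutes with `g` -/
theorem comm_of_odd {g h : G} (hg : g ∈ S.L) (hh : h ∈ S.L) {n : ℕ} (hn : Odd n) (h1 : h ^ n = 1)
    (e : S.rh g * S.rh h = S.rh h * S.rh g) : g * h = h * g :=
  mul_inv_eq_iff_eq_mul.1 (eq_of_odd (mul_mem (mul_mem hg hh) (inv_mem hg)) hh hn
    (by rw [conj_pow, h1, mul_one, mul_inv_cancel]) h1
    (by rw [rh_conj hg hh, e, mul_inv_cancel_right]))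

/-- conjugation between elements of order dividing 3 is read off in the model -/
theorem conj_three {g h k : G} (hg : g ∈ S.L) (hh : h ∈ S.L) (hk : k ∈ S.L) (h1 : h ^ 3 = 1)
    (h2 : k ^ 3 = 1) (e : S.rh g * S.rh h * (S.rh g)⁻¹ = S.rh k) : g * h * g⁻¹ = k :=
  eq_of_odd (mul_mem (mul_mem hg hh) (inv_mem hg)) hk (n := 3) (by decide)
    (by rw [conj_pow, h1, mul_one, mul_inv_cancel]) h2 (by rw [rh_conj hg hh, e])

theorem mem_pre {A : Subgroup AG} {g : G} : g ∈ S.pre A ↔ g ∈ S.L ∧ S.rh g ∈ A :=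
  ⟨fun ⟨h, h1, e⟩ => e ▸ ⟨h.2, by rw [show S.L.subtype h = (h : G) from rfl, S.rh_coe]; exact h1⟩,
    fun h => ⟨⟨g, h.1⟩, by rw [SetLike.mem_coe, mem_comap, ← S.rh_eq h.1]; exact h.2, rfl⟩⟩
theorem pre_le_L (A : Subgroup AG) : S.pre A ≤ S.L := fun _ h => (mem_pre.1 h).1
theorem pre_mono {A A' : Subgroup AG} (h : A ≤ A') : S.pre A ≤ S.pre A' := fun _ hg =>
  mem_pre.2 ⟨(mem_pre.1 hg).1, h (mem_pre.1 hg).2⟩
theorem z_mem_pre (A : Subgroup AG) : S.z ∈ S.pre A :=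
  mem_pre.2 ⟨S.z_mem, by rw [rh_z]; exact one_mem A⟩
theorem lf_mem_pre {A : Subgroup AG} {a : AG} (h : a ∈ X) (ha : a ∈ A) : S.lf a ∈ S.pre A :=
  mem_pre.2 ⟨lf_mem a, by rwa [rh_lf h]⟩
theorem pre_X : S.pre X = S.L :=
  le_antisymm (pre_le_L _) fun g h => mem_pre.2 ⟨h, rh_mem g⟩

theorem mem_bar {A : Subgroup G} {b : AG} : b ∈ S.bar A ↔ ∃ g ∈ A, g ∈ S.L ∧ S.rh g = b :=
  ⟨fun ⟨h, h1, e⟩ => ⟨h, h1, h.2, e ▸ S.rh_coe h⟩,
    fun ⟨g, h1, h2, e⟩ => ⟨⟨g, h2⟩, h1, by rw [← e, S.rh_eq h2]⟩⟩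
theorem bar_le_X (A : Subgroup G) : S.bar A ≤ X := fun _ h =>
  let ⟨g, _, _, e⟩ := mem_bar.1 h; e ▸ rh_mem g
theorem rh_mem_bar {A : Subgroup G} {g : G} (h1 : g ∈ A) (h2 : g ∈ S.L) : S.rh g ∈ S.bar A :=
  mem_bar.2 ⟨g, h1, h2, rfl⟩
theorem bar_pre {A : Subgroup AG} (h : A ≤ X) : S.bar (S.pre A) = A := by
  ext b
  refine ⟨fun hb => ?_, fun hb => ?_⟩
  · obtain ⟨g, h1, _, rfl⟩ := mem_bar.1 hb
    exact (mem_pre.1 h1).2
  · exact mem_bar.2 ⟨_, lf_mem_pre (h hb) hb, lf_mem b, rh_lf (h hb)⟩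
theorem pre_bar {A : Subgroup G} (h : A ≤ S.L) (hz : S.z ∈ A) : S.pre (S.bar A) = A := by
  ext g
  refine ⟨fun hg => ?_, fun hg => mem_pre.2 ⟨h hg, rh_mem_bar hg (h hg)⟩⟩
  obtain ⟨k, h1, h2, e⟩ := mem_bar.1 (mem_pre.1 hg).2
  rcases (rh_eq_iff (mem_pre.1 hg).1 h2).1 e.symm with rfl | rfl
  exacts [h1, mul_mem h1 hz]

theorem mem_zpowers_z {g : G} : g ∈ zpowers S.z ↔ g = 1 ∨ g = S.z := by
  refine ⟨fun ⟨n, e⟩ => (rh_eq_one (e ▸ zpow_mem S.z_mem n)).1 ?_, ?_⟩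
  · rw [← e, S.rh_eq (zpow_mem S.z_mem n)]
    exact (map_zpow S.ρ ⟨S.z, S.z_mem⟩ n).trans (by rw [(S.ker_ρ _).2 (Or.inr rfl), one_zpow])
  · rintro (rfl | rfl); exacts [one_mem _, mem_zpowers _]

theorem card_pre {A : Subgroup AG} (h : A ≤ X) : Nat.card (S.pre A) = orderOf S.z * Nat.card A := by
  have hk : Nat.card S.ρ.ker = orderOf S.z := by
    rw [← Nat.card_zpowers, ← card_map_of_injective S.L.subtype_injective]
    congr 2
    ext g
    rw [mem_zpowers_z]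
    exact ⟨fun ⟨l, hl, e⟩ => e ▸ (S.ker_ρ l).1 hl, fun e => ⟨⟨g, by
      rcases e with rfl | rfl; exacts [one_mem _, S.z_mem]⟩, (S.ker_ρ _).2 e, rfl⟩⟩
  rw [pre, card_map_of_injective S.L.subtype_injective, ← hk]
  have h1 : S.ρ.ker ≤ A.comap S.ρ := ker_le_comap _ _
  have h2 := relIndex_ker (f := S.ρ) (A.comap S.ρ)
  rw [map_comap_eq_self (S.range_ρ ▸ h)] at h2
  rw [← h2, ← Nat.card_congr (subgroupOfEquivOfLe h1).toEquiv]
  exact (card_mul_index _).symm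

theorem oz (hz : S.z ≠ 1) : orderOf S.z = 2 := orderOf_eq_prime (by rw [sq, S.zz]) hz
theorem oz_dvd : orderOf S.z ∣ 2 := orderOf_dvd_of_pow_eq_one (by rw [sq, S.zz])

theorem card_of_z_mem {A : Subgroup G} (h : A ≤ S.L) (hz : S.z ∈ A) :
    Nat.card A = orderOf S.z * Nat.card (S.bar A) := by
  rw [← card_pre (S := S) (bar_le_X A), pre_bar h hz]

theorem card_of_inj {A : Subgroup G} (h : A ≤ S.L) (hz : S.z ∈ A → S.z = 1) :
    Nat.card A = Nat.card (S.bar A) := by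
  refine Nat.card_congr (Equiv.ofBijective (fun g => ⟨S.rh g, rh_mem_bar g.2 (h g.2)⟩)
    ⟨fun a b e => ?_, fun ⟨b, hb⟩ => ?_⟩)
  · rcases (rh_eq_iff (h a.2) (h b.2)).1 (congrArg Subtype.val e) with e | e
    · exact Subtype.ext e
    · exact Subtype.ext (by rw [e, hz ((A.mul_mem_cancel_left b.2).1 (e ▸ a.2)), mul_one])
  · obtain ⟨g, h1, _, rfl⟩ := mem_bar.1 hb
    exact ⟨⟨g, h1⟩, rfl⟩

theorem mem_C_iff {g : G} : g ∈ S.C ↔ g ∈ S.L ∧ S.rh g ∈ X0 := by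
  refine ⟨fun h => ⟨S.C_le_L h, (mem_X0_iff (X_le_Hb (rh_mem g))).2 ?_⟩, fun h => S.mem_C.2
    (comm_of_odd h.1 S.x_mem (n := 3) (by decide) S.x_cube ?_)⟩
  · rw [← S.rh_x, ← rh_mul (S.C_le_L h) S.x_mem, S.mem_C.1 h, rh_mul S.x_mem (S.C_le_L h)]
  · rw [rh_x]; exact (mem_X0_iff (X_le_Hb (rh_mem g))).1 h.2
theorem pre_X0 : S.pre X0 = S.C := Subgroup.ext fun _ => mem_pre.trans mem_C_iff.symm
theorem inv_of_not_mem_C {g : G} (hg : g ∈ S.L) (h : g ∉ S.C) : g * S.x * g⁻¹ = S.x⁻¹ := by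
  refine conj_three hg S.x_mem (inv_mem S.x_mem) S.x_cube (by rw [inv_pow, S.x_cube, inv_one]) ?_
  rw [rh_inv S.x_mem, rh_x, outer_comm (rh_mem g) fun hi =>
    h (mem_C_iff.2 ⟨hg, mem_X0.2 ⟨rh_mem g, hi⟩⟩), mul_inv_cancel_right]

theorem y_mem_C : S.y ∈ S.C := mem_C_iff.2 ⟨S.y_mem, S.rh_y ▸ xb_mem0⟩
theorem z_mem_C : S.z ∈ S.C := mem_C_iff.2 ⟨S.z_mem, S.rh_z ▸ one_mem _⟩
theorem r_mem : S.r ∈ S.L := pow_mem (lf_mem _) 4
theorem rh_r : S.rh S.r = rb := by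
  rw [r, rh_pow (lf_mem _), rh_lf rb_mem.1, pow_succ, rb_cube, one_mul]
theorem r_cube : S.r ^ 3 = 1 := by
  have := (rh_eq_one (pow_mem (lf_mem (S := S) rb) 3)).1 (by
    rw [rh_pow (lf_mem _), rh_lf rb_mem.1, rb_cube])
  rw [r, ← pow_mul, mul_comm, pow_mul]
  rcases this with h | h <;> rw [h]
  exacts [one_pow _, by rw [show 4 = 2 * 2 from rfl, pow_mul, sq S.z, S.zz, one_pow]]
theorem r_mem_C : S.r ∈ S.C := mem_C_iff.2 ⟨r_mem, rh_r (S := S) ▸ rb_mem⟩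
theorem i_mem : S.i ∈ S.L := lf_mem _
theorem rh_i : S.rh S.i = ib := rh_lf ib_mem
theorem i_x : S.i * S.x * S.i⁻¹ = S.x⁻¹ :=
  inv_of_not_mem_C i_mem fun h => outer_ib (rh_i (S := S) ▸ (mem_X0.1 (mem_C_iff.1 h).2).2)
theorem i_y : S.i * S.y * S.i⁻¹ = S.y⁻¹ :=
  conj_three i_mem S.y_mem' (inv_mem S.y_mem') S.y_cube (by rw [inv_pow, S.y_cube, inv_one])
    (by rw [rh_inv S.y_mem', rh_i, rh_y, ib_xb])
theorem i_r : S.i * S.r = S.r * S.i :=
  comm_of_odd i_mem r_mem (n := 3) (by decide) r_cube (by rw [rh_i, rh_r, ib_rb])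
theorem y_x : S.y * S.x = S.x * S.y := S.mem_C.1 y_mem_C
theorem r_x : S.r * S.x = S.x * S.r := S.mem_C.1 r_mem_C
theorem y_r : S.y * S.r * S.y⁻¹ = S.r * S.x := by
  refine conj_three S.y_mem' r_mem (mul_mem r_mem S.x_mem) r_cube
    (by rw [(show Commute S.r S.x from r_x).mul_pow, r_cube, S.x_cube, one_mul]) ?_
  rw [rh_mul r_mem S.x_mem, rh_y, rh_r, rh_x, xb_rb, mul_assoc rb,
    (mem_X0_iff (X0_le_Hb xb_mem0)).1 xb_mem0]
  group
theorem x_mem_E : S.x ∈ S.E := subset_closure (by simp)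
theorem y_mem_E : S.y ∈ S.E := subset_closure (by simp)
theorem E_le_C : S.E ≤ S.C := (closure_le _).2 (by
  rintro _ (rfl | rfl); exacts [S.mem_C.2 rfl, y_mem_C])
theorem mem_F {g : G} : g ∈ S.F ↔ g ∈ S.L ∧ ∃ k < 16, S.rh g = ub k := by
  rw [F, mem_pre, mem_Ub]
theorem F_le_C : S.F ≤ S.C := pre_X0 (S := S) ▸ pre_mono Ub_le_X0
theorem z_mem_F : S.z ∈ S.F := z_mem_pre _
theorem card_F : Nat.card S.F = orderOf S.z * 16 := by rw [F, card_pre Ub_le_X, card_Ub]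

end Loc

/-- a group containing the model `Hb` as a strongly 3-embedded subgroup that is the normaliser of
its translation group -/
structure Emb (Γ : Type*) [Group Γ] where
  θ : Hb →* Γ
  inj : Function.Injective θ
  strong : ∀ (g : Γ) (a b : Hb), orderOf a = 3 → g * θ a * g⁻¹ = θ b → g ∈ θ.range
  norm : normalizer (((Tr.subgroupOf Hb).map θ : Subgroup Γ) : Set Γ) ≤ θ.range

end Cfsg.Agent.J4R
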