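/-
Project J4R.  A 2-subgroup above `z` normalised by `L` is extraspecial of order 2^13.
-/
import Cfsg.Agent.J4R.Basic
import Cfsg.Agent.H5.Wielandt
import Cfsg.Agent.H18.SmallTools
import Cfsg.Agent.H57.ES
import Cfsg.Agent.H70.Core

set_option autoImplicit false

namespace Cfsg.Agent.J4R

open Subgroup Cfsg.Agent.H14 Cfsg.Agent.SGJ4 AG Cfsg.Agent.H80.J4 Cfsg.Agent.H70
open scoped commutatorElement

namespace ESAux

variable {G : Type*} [Group G]

theorem cj_cent (g x : G) : cj g (centralizer {x}) = centralizer {g * x * g⁻¹} := by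
  ext a
  rw [mem_cj, mem_centralizer_singleton_iff, mem_centralizer_singleton_iff,
    ← (MulAut.conj g).injective.eq_iff]
  simp only [MulAut.conj_apply, mul_assoc, mul_inv_cancel_left, mul_inv_cancel, mul_one]

theorem cent_zp (x : G) : centralizer (zpowers x : Set G) = centralizer {x} := by
  rw [zpowers_eq_closure, centralizer_closure]

theorem fsum {ι M : Type} [Fintype ι] [AddCommMonoid M] [Finite G] (C : Subgroup G) (f : ι → G)
    (h1 : ∀ i, f i ∈ C) (h2 : ∀ c ∈ C, ∃ i, f i = c) (hc : Nat.card C = Nat.card ι) (τ : G → M) :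
    ∑ᶠ a ∈ C, τ a = ∑ i, τ (f i) := by
  have := Fintype.ofFinite C
  have hb : Function.Bijective fun i => (⟨f i, h1 i⟩ : C) :=
    (Nat.bijective_iff_surjective_and_card _).2
      ⟨fun c => (h2 c c.2).imp fun _ => Subtype.ext, hc.symm⟩
  refine Eq.trans ?_ (hb.sum_comp fun c : C => τ c).symm
  rw [← finsum_eq_sum_of_fintype]
  exact (finsum_subtype_eq_finsum_cond (f := τ) (p := (· ∈ C))).symm

theorem pow_three_cases {s : G} (hs : s ^ 3 = 1) (n : ℕ) : ∃ i : Fin 3, s ^ (i : ℕ) = s ^ n :=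
  ⟨⟨n % 3, Nat.mod_lt _ (by decide)⟩, (pow_eq_pow_mod n hs).symm⟩

theorem fsum_three {M : Type} [AddCommMonoid M] [Finite G] {s : G} (hs : orderOf s = 3)
    (τ : G → M) : ∑ᶠ a ∈ zpowers s, τ a = τ 1 + τ s + τ (s * s) := by
  rw [fsum (zpowers s) (fun i : Fin 3 => s ^ (i : ℕ)) (fun i => pow_mem (mem_zpowers s) _)
    (fun c hc => by
      obtain ⟨n, rfl⟩ := mem_powers_iff_mem_zpowers.2 hc
      exact pow_three_cases (hs ▸ pow_orderOf_eq_one s) n) (by simp [hs])]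
  simp [Fin.sum_univ_three, sq]

end ESAux

namespace Loc

open ESAux

variable {G : Type*} [Group G] [Finite G] {S : Loc G}

variable {Q : Subgroup G}

theorem QD.inf_C (hQ : S.QD Q) : Q ⊓ S.C = zpowers S.z :=
  le_antisymm (normal_two (inf_le_right.trans S.C_le_L) hQ.two.to_inf_left
    (norm_inf (S.C_le_L.trans hQ.norm) le_normalizer)) (zpowers_le.2 ⟨hQ.z_mem, z_mem_C⟩)

omit [Finite G] in
theorem z_ne_of (h : S.zy ≠ S.z) : S.z ≠ 1 := fun e => h (by rw [zy, e, mul_one, mul_inv_cancel])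

omit [Finite G] in
theorem sq_of_mem_z {g : G} (h : g ∈ zpowers S.z) : g * g = 1 := by
  rcases mem_zpowers_z.1 h with rfl | rfl
  exacts [one_mul _, S.zz]

omit [Finite G] in
theorem H_le_NZ : S.H ≤ normalizer (zpowers S.z : Set G) :=
  norm_of_cent (cent_zp S.z).ge

omit [Finite G] in
theorem card_z (h : S.zy ≠ S.z) : Nat.card (zpowers S.z) = 2 := by
  rw [Nat.card_zpowers, oz (z_ne_of h)]

theorem mem_L_of {g : G} (h : g * S.x * g⁻¹ ∈ zpowers S.x) : g ∈ S.L :=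
  mem_normalizer_of_cj_le (by rw [cj, MonoidHom.map_zpowers]; exact zpowers_le.2 h)

omit [Finite G] in
theorem inf_C_le {K : Subgroup G} (hn : S.C ≤ normalizer (K : Set G)) (hz : S.z ∈ K)
    (hx : S.x ∉ K) : K ⊓ S.C ≤ zpowers S.z := by
  have h1 : om ∉ S.bar (K ⊓ S.C) := fun h => by
    obtain ⟨k, hk, hl, e⟩ := mem_bar.1 h
    rcases (rh_eq_iff S.x_mem hl).1 (S.rh_x.trans e.symm) with e | e
    exacts [hx (e ▸ hk.1), hx (e ▸ mul_mem hk.1 hz)]
  have h2 := (normal_cases (A := S.bar (K ⊓ S.C)) (fun b hb => by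
    obtain ⟨k, hk, -, rfl⟩ := mem_bar.1 hb
    exact (mem_C_iff.1 hk.2).2) (le_normalizer_iff.2 fun b hb a ha => by
    obtain ⟨k, hk, hl, rfl⟩ := mem_bar.1 ha
    have hc : S.lf b ∈ S.C := mem_C_iff.2 ⟨lf_mem b, by rwa [rh_lf hb.1]⟩
    rw [← rh_lf (S := S) hb.1, ← rh_conj (lf_mem b) hl]
    exact rh_mem_bar (conj_mem_of_le_norm (norm_inf hn le_normalizer) hc hk)
      (mul_mem (mul_mem (lf_mem b) hl) (inv_mem (lf_mem b))))).resolve_right
    fun e => h1 (e ▸ om_mem_X0)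
  intro k hk
  have h3 := rh_mem_bar hk (S.C_le_L hk.2)
  rcases mem_zpowers_om.1 (h2 h3) with e | e | e
  · exact mem_zpowers_z.2 ((rh_eq_one (S.C_le_L hk.2)).1 e)
  · exact absurd (e ▸ h3) h1
  · exact absurd (inv_mem_iff.1 (om_inv ▸ e ▸ h3)) h1

omit [Finite G] in
/-- the centraliser in the model of the image of a conjugate of `z` -/
theorem card_cent_t {t : G} (hc : t ∈ S.C) (t2 : t * t = 1) (h1 : t ≠ 1) (hz : t ≠ S.z) :
    Nat.card ↥(X0 ⊓ centralizer {S.rh t}) = 1152 :=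
  (card_cent_inv (mem_C_iff.1 hc).2 (by rw [← rh_mul (S.C_le_L hc) (S.C_le_L hc), t2, rh_one])
    fun e => ((rh_eq_one (S.C_le_L hc)).1 e).elim h1 hz).2

omit [Finite G] in
theorem rh_mem_cent {a t : G} (ha : a ∈ S.C) (ht : t ∈ S.C) (e : a * t = t * a) :
    S.rh a ∈ X0 ⊓ centralizer {S.rh t} :=
  ⟨(mem_C_iff.1 ha).2, mem_centralizer_singleton_iff.2 (by
    rw [← rh_mul (S.C_le_L ha) (S.C_le_L ht), e, rh_mul (S.C_le_L ht) (S.C_le_L ha)])⟩

theorem QD.not_three (hQ : S.QD Q) : (Nat.card Q).Coprime 3 := by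
  obtain ⟨n, hn⟩ := hQ.two.exists_card_eq
  rw [hn]; exact Nat.Coprime.pow_left n (by decide)

omit [Finite G] in
theorem QD.cj_inf_le (S : Loc G) (Q : Subgroup G) : cj S.g0⁻¹ (Q ⊓ centralizer {S.y}) ≤ S.C := by
  refine (cj_mono _ inf_le_right).trans (le_of_eq ?_)
  rw [cj_cent, y]; congr 2; group

theorem QD.z_not_mem (hQ : S.QD Q) (h : S.zy ≠ S.z) :
    S.z ∉ cj S.g0⁻¹ (Q ⊓ centralizer {S.y}) := fun hz => by
  rw [mem_cj, inv_inv] at hz
  have h1 : S.g0⁻¹ * S.x * S.g0 ∈ S.C := by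
    have := conj_mem_cj S.g0⁻¹ (show S.x ∈ ⊤ ⊓ centralizer {S.y} from
      ⟨trivial, mem_centralizer_singleton_iff.2 y_x.symm⟩)
    rw [inv_inv] at this
    exact QD.cj_inf_le S ⊤ this
  have h2 : S.zy ∈ Q ⊓ S.C := ⟨hz.1, S.mem_C.2 (by
    have := z_comm (S.C_le_L h1)
    calc S.zy * S.x = S.g0 * (S.z * (S.g0⁻¹ * S.x * S.g0)) * S.g0⁻¹ := by rw [zy]; group
      _ = S.x * S.zy := by rw [← this, zy]; group)⟩
  rw [hQ.inf_C] at h2
  rcases mem_zpowers_z.1 h2 with e | e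
  exacts [z_ne_of h (conj_eq_one_iff.1 e), h e]

theorem QD.card_inf_cases (hQ : S.QD Q) (h : S.zy ≠ S.z) :
    Nat.card ↥(Q ⊓ centralizer {S.y}) = 2 ∨ Nat.card ↥(Q ⊓ centralizer {S.y}) = 8 ∨
      Nat.card ↥(Q ⊓ centralizer {S.y}) = 32 := by
  have xy : S.x ∈ centralizer {S.y} := mem_centralizer_singleton_iff.2 y_x.symm
  have zy' : S.z ∈ centralizer {S.y} := mem_centralizer_singleton_iff.2 (z_comm S.y_mem').symm
  have xn : S.x ∈ normalizer ((Q ⊓ centralizer {S.y} : Subgroup G) : Set G) :=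
    inf_normalizer_le_normalizer_inf ⟨hQ.norm S.x_mem, le_normalizer xy⟩
  have m3 := H18.modEq_cent_prime (q := 3) (by decide) _ S.ox xn
  rw [inf_right_comm, hQ.inf_C, inf_eq_left.2 (zpowers_le.2 zy'), card_z h] at m3
  have hD := QD.cj_inf_le S Q
  have cD := card_of_inj (hD.trans S.C_le_L) fun hz => absurd hz (hQ.z_not_mem h)
  rw [card_cj] at cD
  have tD := conj_mem_cj S.g0⁻¹ (show S.z ∈ Q ⊓ centralizer {S.y} from ⟨hQ.z_mem, zy'⟩)
  have aC := QD.cj_inf_le S ⊤ (conj_mem_cj S.g0⁻¹ (show S.x ∈ ⊤ ⊓ centralizer {S.y} from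
    ⟨trivial, xy⟩))
  generalize ht : S.g0⁻¹ * S.z * S.g0⁻¹⁻¹ = t at tD
  have t2 : t * t = 1 := by rw [← ht, conj_mul, S.zz, mul_one, mul_inv_cancel]
  have t1 : t ≠ 1 := fun e => z_ne_of h (conj_eq_one_iff.1 (ht.trans e))
  have tz : t ≠ S.z := fun e => hQ.z_not_mem h (e ▸ tD)
  have c1 := card_cent_t (hD tD) t2 t1 tz
  have hle : S.bar (cj S.g0⁻¹ (Q ⊓ centralizer {S.y})) ≤ X0 ⊓ centralizer {S.rh t} := fun b hb => by
    obtain ⟨k, hk, -, rfl⟩ := mem_bar.1 hb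
    refine rh_mem_cent (hD hk) (hD tD) ?_
    obtain ⟨k, hk, rfl⟩ := hk
    rw [← ht]
    change S.g0⁻¹ * k * S.g0⁻¹⁻¹ * _ = _ * (S.g0⁻¹ * k * S.g0⁻¹⁻¹)
    rw [conj_mul, conj_mul, S.mem_H.1 (hQ.le_H hk.1)]
  have c2 := card_dvd_of_le hle
  obtain ⟨n, hn⟩ := (hQ.two.to_inf_left (K := centralizer {S.y})).exists_card_eq
  have c3 : Nat.card ↥(Q ⊓ centralizer {S.y}) ≠ 128 := fun e => by
    have aL := S.C_le_L aC
    refine not_norm_sylow (hle.trans inf_le_left) (cD.symm.trans e) (mem_C_iff.1 aC).2 ?_ ?_ ?_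
      (t := S.rh t) ?_ (fun e => ((rh_eq_one (S.C_le_L (hD tD))).1 e).elim t1 tz)
      (mem_C_iff.1 (hD tD)).2 (mem_centralizer_singleton_iff.1 (rh_mem_cent aC (hD tD) ?_).2)
      (hle.trans inf_le_right)
    · rw [← rh_pow aL, conj_pow, S.x_cube, mul_one, mul_inv_cancel, rh_one]
    · intro e
      obtain ⟨m, e⟩ := mem_powers_iff_mem_zpowers.2 e
      have := eq_of_odd aL (pow_mem S.x_mem m) (n := 3) (by decide)
        (by rw [conj_pow, S.x_cube, mul_one, mul_inv_cancel])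
        (by rw [← pow_mul, mul_comm, pow_mul, S.x_cube, one_pow])
        (by rw [rh_pow S.x_mem, rh_x]; exact e.symm)
      exact y_not_mem (conj_mem_of_mem_norm (inv_mem_iff.1 (mem_L_of (S := S)
        (this ▸ pow_mem (mem_zpowers _) m))) (mem_zpowers _))
    · refine mem_normalizer_of_cj_le (cj_le_iff.2 fun b hb => ?_)
      obtain ⟨k, hk, hl, rfl⟩ := mem_bar.1 hb
      rw [← rh_conj aL hl]
      refine rh_mem_bar (conj_mem_of_mem_norm ?_ hk) (mul_mem (mul_mem aL hl) (inv_mem aL))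
      rw [← cj_normalizer]; exact conj_mem_cj _ xn
    · rw [← rh_mul (S.C_le_L (hD tD)) (S.C_le_L (hD tD)), t2, rh_one]
    · rw [← ht, conj_mul, conj_mul, z_comm S.x_mem]
  rw [c1, ← cD, hn] at c2
  rw [hn] at m3 c3 ⊢
  have : n ≤ 7 := (Nat.pow_dvd_pow_iff_le_right (by decide : 1 < 2)).1
    ((Nat.Coprime.pow_left n (by decide : Nat.Coprime 2 9)).dvd_of_dvd_mul_right c2)
  interval_cases n <;> simp_all

theorem QD.card_cube (hQ : S.QD Q) (h : S.zy ≠ S.z) :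
    Nat.card Q * 4 = Nat.card ↥(Q ⊓ centralizer {S.y}) ^ 3 := by
  have e1 : S.r⁻¹ * S.y * S.r⁻¹⁻¹ = S.x * S.y := by
    rw [inv_inv, mul_assoc, inv_mul_eq_iff_eq_mul, ← mul_assoc, ← y_r, inv_mul_cancel_right]
  have e2 : S.r⁻¹ * (S.x * S.y) * S.r⁻¹⁻¹ = S.x * (S.x * S.y) := by
    rw [← conj_mul, e1, inv_inv, mul_assoc S.r⁻¹, ← r_x, inv_mul_cancel_left]
  have c : ∀ a, Nat.card ↥(Q ⊓ centralizer {S.r⁻¹ * a * S.r⁻¹⁻¹}) =
      Nat.card ↥(Q ⊓ centralizer {a}) := fun a => by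
    rw [← cj_cent, ← card_cj S.r⁻¹ (Q ⊓ centralizer {a}), cj_inf,
      cj_eq_self (hQ.norm (inv_mem r_mem))]
  have o1 : orderOf (S.x * S.y) = 3 := by
    rw [← e1, ← MulAut.conj_apply, MulEquiv.orderOf_eq, S.oy]
  have o2 : orderOf (S.x * (S.x * S.y)) = 3 := by
    rw [← e2, ← MulAut.conj_apply, MulEquiv.orderOf_eq, o1]
  have cxy : Commute S.x S.y := y_x.symm
  have key := H5.wielandt_fixpoint S.E ![⊥, S.E]
    ![zpowers S.x, zpowers S.y, zpowers (S.x * S.y), zpowers (S.x * (S.x * S.y))]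
    (by simp [Fin.forall_fin_two])
    (by simp [Fin.forall_fin_succ, x_mem_E, y_mem_E, mul_mem]) ![3, 1] ![1, 1, 1, 1]
    (fun q τ _ => by
      have s1 := fsum S.E (fun p : Fin 3 × Fin 3 => S.x ^ (p.1 : ℕ) * S.y ^ (p.2 : ℕ))
        (fun p => mul_mem (pow_mem x_mem_E _) (pow_mem y_mem_E _)) (fun c hc => by
          obtain ⟨i, j, rfl⟩ := mem_E.1 hc
          obtain ⟨i', hi⟩ := pow_three_cases S.x_cube i
          obtain ⟨j', hj⟩ := pow_three_cases S.y_cube j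
          exact ⟨(i', j'), by rw [hi, hj]⟩) (by simp [card_E]) τ
      have s2 : ∑ᶠ x ∈ (⊥ : Subgroup G), τ x = τ 1 := by simp
      have s3 : S.x * S.y * (S.x * S.y) = S.x ^ 2 * S.y ^ 2 := by rw [← cxy.mul_pow, sq]
      have s4 : S.x * (S.x * S.y) * (S.x * (S.x * S.y)) = S.x * S.y ^ 2 := by
        rw [← mul_assoc S.x S.x, ← sq, ← sq, (cxy.pow_left 2).mul_pow, ← pow_mul,
          show 2 * 2 = 3 + 1 from rfl, pow_add, S.x_cube, one_mul, pow_one]
      simp only [Fin.sum_univ_two, Fin.sum_univ_four, Matrix.cons_val, s1, s2, fsum_three S.ox,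
        fsum_three S.oy, fsum_three o1, fsum_three o2, s3, s4, Fintype.sum_prod_type,
        Fin.sum_univ_three]
      simp only [Fin.val_zero, Fin.val_one, Fin.val_two, pow_zero, pow_one, one_mul, mul_one,
        ← mul_assoc S.x S.x, ← sq S.x, ← sq S.y]
      push_cast
      ring) Q (E_le_C.trans (S.C_le_L.trans hQ.norm))
    (by rw [card_E]; exact (hQ.not_three.symm.pow_left 2)) (have := hQ.two.isNilpotent; inferInstance)
  have e3 : Q ⊓ centralizer (S.E : Set G) = zpowers S.z := le_antisymm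
    (hQ.inf_C ▸ inf_le_inf_left _ (centralizer_le (Set.singleton_subset_iff.2 x_mem_E)))
    (zpowers_le.2 ⟨hQ.z_mem, fun e he => z_comm (S.C_le_L (E_le_C he))⟩)
  have e4 : Q ⊓ centralizer ((⊥ : Subgroup G) : Set G) = Q := inf_eq_left.2 (cent_comm.1 bot_le)
  have c1 := c S.y
  have c2 := c (S.x * S.y)
  rw [e1] at c1
  rw [e2, c1] at c2
  simp only [Fin.prod_univ_two, Fin.prod_univ_four, Matrix.cons_val, card_bot, card_E,
    Nat.card_zpowers, S.ox, S.oy, o1, o2, cent_zp, e3, e4, hQ.inf_C, c1, c2, oz (z_ne_of h)] at key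
  refine Nat.pow_left_injective three_ne_zero ?_
  change _ ^ 3 = _ ^ 3
  refine Nat.eq_of_mul_eq_mul_left (show 0 < 8 by decide) ?_
  linear_combination key

theorem QD.x_not_mem (hQ : S.QD Q) (h : ∀ a ∈ Q, ⁅S.x, a⁆ ∈ zpowers S.z) : False := by
  refine hQ.ne (hQ.inf_C ▸ (inf_eq_left.2 fun a ha => S.mem_C.2 ?_).symm)
  rcases mem_zpowers_z.1 (h a ha) with e | e
  · exact (commutatorElement_eq_one_iff_mul_comm.1 e).symm
  · have e1 : S.x * a = S.z * a * S.x := by rw [← e, commutatorElement_def]; group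
    have e2 : S.x ^ 3 * a = S.z * (S.z * S.z) * a * S.x ^ 3 := by
      rw [pow_three, mul_assoc, mul_assoc, e1, ← mul_assoc S.x (S.z * a), ← mul_assoc S.x S.z,
        z_comm S.x_mem, mul_assoc S.z, e1]
      rw [show S.x * (S.z * (S.z * a * S.x) * S.x) = S.x * S.z * S.z * a * (S.x * S.x) by group,
        z_comm S.x_mem, mul_assoc S.z S.x, z_comm S.x_mem, mul_assoc S.z, mul_assoc S.z S.x, e1]
      group
    rw [S.x_cube, S.zz, one_mul, mul_one, mul_one] at e2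
    rw [e1, ← e2]

theorem QD.card_both (hQ : S.QD Q) (h : S.zy ≠ S.z) :
    Nat.card Q = 2 ^ 13 ∧ Nat.card ↥(Q ⊓ centralizer {S.y}) = 32 := by
  have c := hQ.card_cube h
  rcases hQ.card_inf_cases h with e | e | e <;> rw [e] at c
  · exact absurd (eq_of_le_of_card_ge (zpowers_le.2 hQ.z_mem) (by rw [card_z h]; omega)).symm hQ.ne
  · exfalso
    have : Fact (Nat.Prime 11) := ⟨by decide⟩
    obtain ⟨⟨a, aC⟩, oa⟩ := exists_prime_orderOf_dvd_card' (G := S.C) 11 (by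
      rw [← pre_X0, card_pre X0_le_X, card_X0]; exact dvd_mul_of_dvd_right (by decide) _)
    replace oa : orderOf a = 11 := by rw [← oa, ← orderOf_coe]
    have m := H18.modEq_cent_prime (q := 11) (by decide) Q oa (hQ.norm (S.C_le_L aC))
    have cQ : Nat.card Q = 2 ^ 7 := by omega
    obtain ⟨n, hn, e1⟩ := (Nat.dvd_prime_pow Nat.prime_two).1
      (cQ ▸ card_dvd_of_le (inf_le_left : Q ⊓ centralizer {a} ≤ Q))
    rw [cQ, e1] at m
    obtain rfl : n = 7 := by interval_cases n <;> simp_all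
    have h1 := inf_eq_left.1 (eq_of_le_of_card_ge inf_le_left (cQ.trans e1.symm).le)
    have h2 := inf_C_le (K := centralizer (Q : Set G))
      (norm_centralizer (S.C_le_L.trans hQ.norm)) (fun q hq => S.mem_H.1 (hQ.le_H hq))
      (fun hx => hQ.x_not_mem fun q hq => by
        rw [commutatorElement_eq_one_iff_mul_comm.2 (hx q hq).symm]; exact one_mem _)
      (show a ∈ _ from ⟨fun q hq => mem_centralizer_singleton_iff.1 (h1 hq), aC⟩)
    have := orderOf_dvd_of_pow_eq_one ((sq a).trans (sq_of_mem_z h2))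
    rw [oa] at this; omega
  · exact ⟨by omega, e⟩

theorem QD.card (hQ : S.QD Q) (h : S.zy ≠ S.z) : Nat.card Q = 2 ^ 13 := (hQ.card_both h).1

theorem QD.card_inf (hQ : S.QD Q) (h : S.zy ≠ S.z) :
    Nat.card ↥(Q ⊓ centralizer {S.y}) = 32 := (hQ.card_both h).2

theorem QD.eq_of_le (hQ : S.QD Q) (h : S.zy ≠ S.z) {A : Subgroup G} (hA : S.QD A) (hle : A ≤ Q) :
    A = Q := eq_of_le_of_card_ge hle (by rw [hQ.card h, hA.card h])

omit [Finite G] in
theorem QD.sub (hQ : S.QD Q) {A : Subgroup G} (hle : A ≤ Q) (hn : S.L ≤ normalizer (A : Set G))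
    (hz : S.z ∈ A) (hne : A ≠ zpowers S.z) : S.QD A :=
  ⟨hQ.two.to_le hle, hn, hz, hle.trans hQ.le_H, hne⟩

omit [Finite G] in
theorem QD.norm_relCent (hQ : S.QD Q) :
    S.L ≤ normalizer ((relCent (Q : Set G) (zpowers S.z) : Subgroup G) : Set G) :=
  le_normalizer_iff.2 fun l hl g hg =>
    ⟨mul_mem (mul_mem (H_le_NZ (L_le_H hl)) hg.1) (inv_mem (H_le_NZ (L_le_H hl))), fun c hc => by
      have := conj_mem_of_mem_norm (H_le_NZ (L_le_H hl))
        (hg.2 _ (conj_mem_of_mem_norm' (hQ.norm hl) hc))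
      rwa [show l * ⁅g, l⁻¹ * c * l⁆ * l⁻¹ = ⁅l * g * l⁻¹, c⁆ by
        simp only [commutatorElement_def]; group] at this⟩

theorem QD.low (hQ : S.QD Q) (h : S.zy ≠ S.z) {q : G} (hq : q ∈ Q) :
    q * q ∈ zpowers S.z ∧ ∀ a ∈ Q, ⁅q, a⁆ ∈ zpowers S.z := by
  let A : Subgroup G :=
    { carrier := {q | q ∈ Q ⊓ relCent (Q : Set G) (zpowers S.z) ∧ q * q ∈ zpowers S.z}
      one_mem' := ⟨one_mem _, by simp⟩
      mul_mem' := fun {a b} ha hb => ⟨mul_mem ha.1 hb.1, by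
        rw [show a * b * (a * b) = a * ⁅b, a⁆ * a⁻¹ * (a * a) * (b * b) by
          simp only [commutatorElement_def]; group]
        exact mul_mem (mul_mem (conj_mem_of_mem_norm ha.1.2.1 (hb.1.2.2 a ha.1.1)) ha.2) hb.2⟩
      inv_mem' := fun {a} ha => ⟨inv_mem ha.1, by rw [← mul_inv_rev]; exact inv_mem ha.2⟩ }
  have hA : S.QD A := by
    refine hQ.sub (fun a ha => ha.1.1) (le_normalizer_iff.2 fun l hl a ha => ⟨conj_mem_of_le_norm
      (norm_inf hQ.norm hQ.norm_relCent) hl ha.1, by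
        rw [conj_mul]; exact conj_mem_of_mem_norm (H_le_NZ (L_le_H hl)) ha.2⟩)
      ⟨⟨hQ.z_mem, le_normalizer (mem_zpowers _), fun c hc => by
        rw [commutatorElement_eq_one_iff_mul_comm.2 (S.mem_H.1 (hQ.le_H hc)).symm]
        exact one_mem _⟩, mul_mem (mem_zpowers _) (mem_zpowers _)⟩ fun e => ?_
    have hZ : zpowers S.z ≤ Q := zpowers_le.2 hQ.z_mem
    have := (normal_subgroupOf_iff_le_normalizer hZ).2 (hQ.le_H.trans H_le_NZ)
    have hp : IsPGroup 2 (Q ⧸ (zpowers S.z).subgroupOf Q) := hQ.two.to_quotient _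
    have : Nontrivial (Q ⧸ (zpowers S.z).subgroupOf Q) := QuotientGroup.nontrivial_iff.2 fun e =>
      hQ.ne (le_antisymm (subgroupOf_eq_top.1 e) hZ)
    have := hp.center_nontrivial
    obtain ⟨n, hn, e1⟩ := (hp.to_subgroup (center _)).nontrivial_iff_card.1 this
    obtain ⟨⟨c, hc⟩, oc⟩ := exists_prime_orderOf_dvd_card' 2 (e1 ▸ dvd_pow_self 2 hn.ne')
    obtain ⟨a, rfl⟩ := QuotientGroup.mk_surjective c
    replace oc : orderOf (a : Q ⧸ (zpowers S.z).subgroupOf Q) = 2 := (orderOf_coe _).trans oc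
    have h1 : (a : G) ∈ A := ⟨⟨a.2, H_le_NZ (hQ.le_H a.2), fun b hb =>
      (QuotientGroup.eq_one_iff (N := (zpowers S.z).subgroupOf Q) ⁅a, (⟨b, hb⟩ : Q)⁆).1 (by
        rw [← QuotientGroup.mk'_apply, map_commutatorElement, commutatorElement_eq_one_iff_mul_comm]
        exact (mem_center_iff.1 hc _).symm)⟩,
      (QuotientGroup.eq_one_iff (N := (zpowers S.z).subgroupOf Q) (a * a)).1 (by
        rw [QuotientGroup.mk_mul, ← sq]; exact oc ▸ pow_orderOf_eq_one _)⟩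
    rw [e] at h1
    rw [(QuotientGroup.eq_one_iff a).2 h1] at oc
    simp at oc
  rw [← hQ.eq_of_le h hA fun a ha => ha.1.1] at hq
  exact ⟨hq.2, hq.1.2.2⟩

theorem QD.inf_cent (hQ : S.QD Q) (h : S.zy ≠ S.z) :
    Q ⊓ centralizer (Q : Set G) = zpowers S.z := by
  by_contra e
  have hc := inf_eq_left.1 (hQ.eq_of_le h (hQ.sub inf_le_left
    (norm_inf hQ.norm (norm_centralizer hQ.norm))
    ⟨hQ.z_mem, fun q hq => S.mem_H.1 (hQ.le_H hq)⟩ e) inf_le_left)
  have sq1 : ∀ q ∈ Q, q * q = 1 := fun q hq => by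
    have h1 := conj_mem_of_mem_norm (hQ.norm S.x_mem) hq
    have h2 := conj_mem_of_mem_norm (hQ.norm S.x_mem) h1
    have h3 : S.x * (S.x * (S.x * q * S.x⁻¹) * S.x⁻¹) * S.x⁻¹ = q := by
      rw [show S.x * (S.x * (S.x * q * S.x⁻¹) * S.x⁻¹) * S.x⁻¹ = S.x ^ 3 * q * (S.x ^ 3)⁻¹ by
        rw [pow_three]; group, S.x_cube, one_mul, inv_one, mul_one]
    have h4 : ∀ c ∈ zpowers S.z, S.x * c * S.x⁻¹ = c := fun c hc => by
      rcases mem_zpowers_z.1 hc with rfl | rfl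
      exacts [by simp, by rw [z_comm S.x_mem, mul_inv_cancel_right]]
    have h5 := (hQ.low h hq).1
    have h6 : S.x * q * S.x⁻¹ * (S.x * q * S.x⁻¹) = q * q := by rw [conj_mul, h4 _ h5]
    generalize h0 : S.x * q * S.x⁻¹ = q1 at h1 h2 h3 h6
    have h7 : S.x * q1 * S.x⁻¹ * (S.x * q1 * S.x⁻¹) = q * q := by rw [conj_mul, h6, h4 _ h5]
    have h8 : q * q1 * (S.x * q1 * S.x⁻¹) ∈ Q ⊓ S.C := ⟨mul_mem (mul_mem hq h1) h2, S.mem_C.2 (by
      rw [eq_comm, ← mul_inv_eq_iff_eq_mul, ← conj_mul, ← conj_mul, h3, h0]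
      exact (hc hq _ (mul_mem h1 h2)).trans (mul_assoc _ _ _).symm)⟩
    rw [hQ.inf_C] at h8
    have h9 := sq_of_mem_z h8
    generalize S.x * q1 * S.x⁻¹ = q2 at h2 h7 h9
    have c1 : Commute q q1 := hc h1 q hq
    have c2 : Commute (q * q1) q2 := hc h2 _ (mul_mem hq h1)
    rw [← sq, c2.mul_pow, c1.mul_pow, sq, sq, sq, h6, h7, sq_of_mem_z h5, one_mul] at h9
    exact h9
  have := rank_C (QD.cj_inf_le S Q) (by
    rintro _ ⟨a, ha, rfl⟩
    rw [← map_mul, sq1 a ha.1, map_one]) fun hz => absurd hz (hQ.z_not_mem h)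
  rw [card_cj, hQ.card_inf h] at this
  omega

theorem QD.es (hQ : S.QD Q) (h : S.zy ≠ S.z) : IsExtraspecial 2 Q := by
  refine H57.isExtraspecial_of_hom Q.subtype Q.subtype_injective Q.range_subtype (hQ.card h)
    hQ.z_mem (z_ne_of h) (fun g hg => ?_)
    (fun g hg => mem_zpowers_z.1 (sq g ▸ (hQ.low h hg).1)) ?_
  · rw [← mem_zpowers_z, ← hQ.inf_cent h]
    exact ⟨fun e => ⟨hg, e⟩, fun e => e.2⟩
  · by_contra! e
    exact hQ.ne (hQ.inf_cent h ▸ (inf_eq_left.2 fun a ha b hb => e b hb a ha).symm)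

theorem pow_2304 (h : S.zy ≠ S.z) {g a : G} (hg : g ∈ normalizer (S.E : Set G)) (hl : g ∉ S.L)
    (ha : a ∈ S.H) (hc : a ∈ centralizer {g * S.x * g⁻¹}) : a ^ 2304 = 1 := by
  rw [← cj_cent, mem_cj] at hc
  have h1 := conj_z_mem_U (S := S) (inv_mem hg)
  have h2 : g⁻¹ * S.z * g⁻¹⁻¹ ∈ S.C := F_le_C h1.1
  have h3 := card_cent_t h2 (by rw [conj_mul, S.zz, mul_one, mul_inv_cancel])
    (fun e => z_ne_of h (conj_eq_one_iff.1 e)) (conj_z_ne h
      (E_le_C (conj_mem_of_mem_norm (inv_mem hg) x_mem_E)) fun e => hl (inv_mem_iff.1 (mem_L_of e)))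
  have h4 := rh_mem_cent hc h2 (by
    rw [← inv_inv g, inv_inv g⁻¹, conj_mul, conj_mul, S.mem_H.1 ha])
  have h5 : S.rh (g⁻¹ * a * g) ^ 1152 = 1 :=
    by rw [← h3]; exact congrArg Subtype.val (pow_card_eq_one' (x := (⟨_, h4⟩ : ↥(X0 ⊓ _))))
  rw [← rh_pow (S.C_le_L hc), rh_eq_one (pow_mem (S.C_le_L hc) _), ← mem_zpowers_z] at h5
  have h6 := sq_of_mem_z h5
  rw [← pow_add, ← inv_inv g, inv_inv g⁻¹, conj_pow] at h6
  exact conj_eq_one_iff.1 h6

/-- a subgroup of `H` above `Q` normalised by `L` and not containing `x` is `Q` -/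
theorem QD.eq_of_ge (hQ : S.QD Q) (h : S.zy ≠ S.z) {K : Subgroup G} (hQK : Q ≤ K) (hH : K ≤ S.H)
    (hn : S.L ≤ normalizer (K : Set G)) (hx : S.x ∉ K) : K = Q := by
  have : Fact (Nat.Prime 3) := ⟨by decide⟩
  have h1 : K ⊓ S.C = zpowers S.z := le_antisymm (inf_C_le (S.C_le_L.trans hn) (hQK hQ.z_mem) hx)
    (zpowers_le.2 ⟨hQK hQ.z_mem, z_mem_C⟩)
  have h3 : ¬ 3 ∣ Nat.card K := by
    have := H18.modEq_cent_prime (q := 3) (by decide) _ S.ox (hn S.x_mem)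
    rw [h1, card_z h] at this; omega
  have h2 : IsPGroup 2 K := by
    refine IsPGroup.of_card (Nat.eq_prime_pow_of_unique_prime_dvd Nat.card_pos.ne' ?_)
    intro q hq hd
    by_contra q2
    have : Fact q.Prime := ⟨hq⟩
    obtain ⟨P, -, hP⟩ := H46.exists_invariant_sylow_ge (p := 3) (A := S.E)
      (IsPGroup.of_card (n := 2) card_E) h3 (E_le_C.trans (S.C_le_L.trans hn)) q (R := ⊥)
      IsPGroup.of_bot bot_le norm_of_normal
    have hK := map_subtype_le (P : Subgroup K)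
    have h4 := le_of_gen (B := ⊥) (fun e => h3 (e.trans (card_dvd_of_le hK))) hP fun g hg a ha => by
      obtain ⟨k, hk⟩ := isPGroup_iff_mem.1 (P.isPGroup'.map K.subtype) a ha.1
      have h5 : a ^ 2304 = 1 := by
        by_cases hl : g ∈ S.L
        · have h6 := (mem_inf.1 ha).2
          rw [← cj_cent, mem_cj] at h6
          have h7 := sq_of_mem_z (h1.le ⟨conj_mem_of_mem_norm' (hn hl) (hK ha.1), h6⟩)
          rw [← inv_inv g, inv_inv g⁻¹, conj_mul, conj_eq_one_iff, ← sq] at h7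
          rw [show 2304 = 2 * 1152 from rfl, pow_mul, h7, one_pow]
        · exact pow_2304 h hg hl (hH (hK ha.1)) ha.2
      refine mem_of_pow_mem_coprime (a := q ^ k) (b := 2304) (Nat.Coprime.pow_left _ ?_)
        (hk ▸ one_mem _) (h5 ▸ one_mem _)
      exact Nat.Coprime.mul_right (((Nat.coprime_primes hq Nat.prime_two).2 q2).pow_right 8)
        (((Nat.coprime_primes hq Nat.prime_three).2 fun e => h3 (e ▸ hd)).pow_right 2)
    exact P.ne_bot_of_dvd_card hd (map_subtype_eq_bot_iff.1 (le_bot_iff.1 h4))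
  exact (QD.eq_of_le ⟨h2, hn, hQK hQ.z_mem, hH, fun e =>
    hQ.ne (le_antisymm (e ▸ hQK) (zpowers_le.2 hQ.z_mem))⟩ h hQ hQK).symm

theorem QD.mem_of_comm (hQ : S.QD Q) (h : S.zy ≠ S.z) {g : G} (hg : g ∈ S.H)
    (hc : ∀ a ∈ Q, ⁅g, a⁆ ∈ zpowers S.z) : g ∈ Q :=
  (hQ.eq_of_ge h (K := S.H ⊓ relCent (Q : Set G) (zpowers S.z))
    (fun _ hq => ⟨hQ.le_H hq, H_le_NZ (hQ.le_H hq), (hQ.low h hq).2⟩) inf_le_left
    (norm_inf (norm_of_le L_le_H) hQ.norm_relCent) fun hx => hQ.x_not_mem hx.2.2).le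
    ⟨hg, H_le_NZ hg, hc⟩

theorem QD.cent_le (hQ : S.QD Q) (h : S.zy ≠ S.z) : centralizer (Q : Set G) ≤ Q := fun g hg =>
  hQ.mem_of_comm h (S.mem_H.2 (hg _ hQ.z_mem).symm) fun a ha => by
    rw [commutatorElement_eq_one_iff_mul_comm.2 (hg a ha).symm]; exact one_mem _

end Loc

end Cfsg.Agent.J4R
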