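/-
Project J4R.  An additive bijection of `Vb` preserving the types normalises the scalars.
-/
import Cfsg.Agent.J4R.Defs

set_option autoImplicit false

namespace Cfsg.Agent.J4R.MDa

open Subgroup Cfsg.Agent.H14 Cfsg.Agent.SGJ4 AG Cfsg.Agent.H80.J4

def wit : List ℕ := [424, 431, 616, 623, 664, 671, 1266, 1269, 1986, 1989, 73, 78, 547, 548, 1025,
  1026, 1027, 1028, 1029, 1030, 1104, 1111, 1664, 1671, 2675, 2676, 3785, 3790, 1096, 1103, 2235,
  2236]

theorem wit_ok : ∀ u ∈ wit, u < 4096 ∧ ty u = 1 ∧ ty (u ^^^ 7) = 1 := by decide +kernel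

theorem line_cases {w : ℕ} (hw : w < 4096) (h1 : ty w = 1) (h2 : ty (w ^^^ 7) = 1) :
    w = 344 ∨ w = 351 ∨ ∃ u ∈ wit, ty (u ^^^ w) = 1 ∧ ty (u ^^^ 7 ^^^ w) = 2 := by
  have k : all2 64 64 (fun w => bimp (Nat.beq (ty w) 1) (bimp (Nat.beq (ty (w ^^^ 7)) 1)
      (Nat.beq w 344 || Nat.beq w 351 || anyL wit fun u =>
        Nat.beq (ty (u ^^^ w)) 1 && Nat.beq (ty (u ^^^ 7 ^^^ w)) 2))) = true := by decide +kernel
  have := bimp_iff.1 (bimp_iff.1 (all2_iff.1 k w hw) (beq_iff.2 h1)) (beq_iff.2 h2)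
  simpa only [Bool.or_eq_true, beq_iff, anyL_iff, Bool.and_eq_true, or_assoc] using this

theorem line_ok {u : ℕ} (hu : u < 4096) (h1 : ty u = 1) (h2 : ty (u ^^^ 7) = 1)
    (h3 : ty (u ^^^ 344) = 1) : ty (u ^^^ 7 ^^^ 344) ≠ 2 := by
  have k : all2 64 64 (fun u => bimp (Nat.beq (ty u) 1) (bimp (Nat.beq (ty (u ^^^ 7)) 1)
      (bimp (Nat.beq (ty (u ^^^ 344)) 1) (!Nat.beq (ty (u ^^^ 7 ^^^ 344)) 2)))) = true := by
    decide +kernel
  have := bimp_iff.1 (bimp_iff.1 (bimp_iff.1 (all2_iff.1 k u hu) (beq_iff.2 h1)) (beq_iff.2 h2))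
    (beq_iff.2 h3)
  intro e
  rw [e] at this
  exact absurd this (by decide)

theorem om7 : om.m (Vb.of 7) = Vb.of 344 := by rw [m_of, cd_om]; exact Vb.ext (by decide +kernel)

theorem key (T : Vb ≃+ Vb) (hT : ∀ v, ty (T v).val = ty v.val) (h7 : T (Vb.of 7) = Vb.of 7) :
    T (Vb.of 344) = Vb.of 344 ∨ T (Vb.of 344) = Vb.of 7 + Vb.of 344 := by
  have e7 : (Vb.of 7).val = 7 := rfl
  have e3 : (Vb.of 344).val = 344 := rfl
  rcases line_cases (T (Vb.of 344)).lt (by rw [hT]; decide +kernel) (by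
    rw [← e7, ← h7, ← Vb.val_add, ← map_add, hT]; decide +kernel) with h | h | ⟨u, hu, h1, h2⟩
  exacts [Or.inl (Vb.ext h), Or.inr (Vb.ext h), by
    obtain ⟨u1, u2, u3⟩ := wit_ok u hu
    obtain ⟨v, hv⟩ := T.surjective ⟨u, u1⟩
    obtain rfl : (T v).val = u := congrArg Vb.val hv
    rw [← e7, ← h7, ← Vb.val_add, ← map_add] at u3 h2
    rw [← Vb.val_add, ← map_add, hT] at h1 h2
    rw [hT] at u2 u3
    exact absurd h2 (line_ok v.lt u2 u3 h1)]

theorem inner_om {a : AG} (ha : a ∈ X) (hi : Inner a) (v : Vb) : a.m (om.m v) = om.m (a.m v) := by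
  rw [← mul_m, inner_comm ha hi, mul_m]

theorem om_cases (T : Vb ≃+ Vb) (hT : ∀ v, ty (T v).val = ty v.val) {v : Vb} (hv : ty v.val = 1) :
    T (om.m v) = om.m (T v) ∨ T (om.m v) = T v + om.m (T v) := by
  obtain ⟨b, hb, ib, rfl⟩ := orbit_ty (v := Vb.of 7) (w := v) (by rw [hv]; decide +kernel)
  obtain ⟨a, ha, ia, e⟩ := orbit_ty (v := T (b.m (Vb.of 7))) (w := Vb.of 7)
    (by rw [hT, hv]; decide +kernel)
  have := key (b.m.trans (T.trans a.m)) (fun w => by
    simp only [AddEquiv.trans_apply]; rw [ty_m_X a ha, hT, ty_m_X b hb]) e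
  simp only [AddEquiv.trans_apply] at this
  rw [← om7, inner_om hb ib] at this
  generalize om.m (b.m (Vb.of 7)) = w at this ⊢
  rw [← e, ← inner_om ha ia, ← map_add, a.m.apply_eq_iff_eq, a.m.apply_eq_iff_eq] at this
  exact this

theorem step (T : Vb ≃+ Vb) (hT : ∀ v, ty (T v).val = ty v.val) {v w : Vb} (hv : ty v.val = 1)
    (hw : ty w.val = 1) (h : ty (v + w).val = 1) (e : T (om.m v) = om.m (T v)) :
    T (om.m w) = om.m (T w) := by
  have n : ∀ u : Vb, ty u.val = 1 → T u ≠ 0 := fun u hu e => by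
    rw [← hT, ty_eq_zero.2 e] at hu; exact absurd hu (by decide)
  refine (om_cases T hT hw).resolve_right fun e1 => ?_
  rcases om_cases T hT h with e2 | e2 <;> simp only [map_add, e, e1] at e2
  · exact n w hw (by simpa using e2)
  · refine n v hv (add_right_cancel (b := om.m (T v) + (T w + om.m (T w))) ?_)
    rw [zero_add]
    conv_rhs => rw [e2]
    abel

def pM : ℕ := nat_lit 0xea6752a991be283dba321ac3bc8b52cbd007
def pMi : ℕ := nat_lit 0xeeaaee9a3043c66e7a40b1fa51e54488edcb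

theorem om_norm (T : Vb ≃+ Vb) (hT : ∀ v, ty (T v).val = ty v.val) :
    (∀ v, T (om.m v) = om.m (T v)) ∨ ∀ v, T (om.m v) = om.m (om.m (T v)) := by
  have k1 : ∀ i < 12, ty (Vb.of (col pM i)).val = 1 := by decide +kernel
  have k2 : ∀ i < 11, ty (Vb.of (col pM i) + Vb.of (col pM (i + 1))).val = 1 := by decide +kernel
  have k3 : ∀ i < 12, (T (om.m (Vb.of (col pM i))) = om.m (T (Vb.of (col pM i))) ↔
      T (om.m (Vb.of (col pM 0))) = om.m (T (Vb.of (col pM 0)))) := fun i hi => by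
    induction i with
    | zero => rfl
    | succ i ih =>
      rw [← ih (by omega)]
      exact ⟨step T hT (k1 _ hi) (k1 _ (by omega)) (add_comm (Vb.of (col pM i)) _ ▸ k2 i (by omega)),
        step T hT (k1 _ (by omega)) (k1 _ hi) (k2 i (by omega))⟩
  have km : mm pM pMi = idM := by decide +kernel
  by_cases h : T (om.m (Vb.of (col pM 0))) = om.m (T (Vb.of (col pM 0)))
  · exact Or.inl fun v => DFunLike.congr_fun (X49.ext_cols km (f := (om.m.trans T).toAddMonoidHom)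
      (g := (T.trans om.m).toAddMonoidHom) fun i hi => (k3 i hi).2 h) v
  · exact Or.inr fun v => DFunLike.congr_fun (X49.ext_cols km (f := (om.m.trans T).toAddMonoidHom)
      (g := ((T.trans om.m).trans om.m).toAddMonoidHom) fun i hi =>
        ((om_cases T hT (k1 i hi)).resolve_left fun e => h ((k3 i hi).1 e)).trans
          (om_om _).symm) v

theorem xb_fix : xb.m (Vb.of 1408) = Vb.of 1408 := by
  rw [m_of, cd_xb']; exact Vb.ext (by decide +kernel)

theorem ty1408 : ty (Vb.of 1408).val = 1 := by decide +kernel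

theorem ord_xb : orderOf xb = 3 :=
  haveI : Fact (Nat.Prime 3) := ⟨by decide⟩
  orderOf_eq_prime xb_cube fun h => by
    have := congrArg cd h
    rw [cd_xb', cd_one] at this
    exact absurd this (by decide +kernel)

theorem ncard_sing : {v : Vb | ty v.val = 1 ∨ ty v.val = 2}.ncard = 2079 :=
  (Vb.ncard_eq _ (fun n => Nat.beq (ty n) 1 || Nat.beq (ty n) 2) fun _ => by
    simp only [Bool.or_eq_true, beq_iff]).trans (by decide +kernel)

end Cfsg.Agent.J4R.MDa
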