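/-
Project J4R.  The group `Q L` modulo `z` is the model `Hb`, and it is the normaliser of `Q`.
-/
import Cfsg.Agent.J4R.ES
import Cfsg.Agent.J4R.MDa
import Cfsg.Agent.SGJ4.Rep

set_option autoImplicit false

namespace Cfsg.Agent.J4R

open Subgroup Cfsg.Agent.H14 Cfsg.Agent.SGJ4 AG Cfsg.Agent.H80.J4 Cfsg.Agent.H70
open scoped commutatorElement

/-- the map of `Q L` onto the model `Hb` -/
structure Md {G : Type*} [Group G] (S : Loc G) (Q : Subgroup G) where
  π : ↥(Q ⊔ S.L) →* AG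
  p : ↥(Q ⊔ S.L)
  hp : (p : G) = S.x ∨ (p : G) = S.x⁻¹
  π_p : π p = om
  range_π : π.range = Hb
  ker_π : ∀ h, π h = 1 → (h : G) = 1 ∨ (h : G) = S.z
  sq_π : ∀ h v, π h = tr v → (h : G) * h = zp S.z (q v)
  tr_π : ∀ h, π h ∈ Tr ↔ (h : G) ∈ Q

namespace Loc

variable {G : Type*} [Group G] [Finite G] {S : Loc G} {Q : Subgroup G}

theorem QD.inf_L (hQ : S.QD Q) : Q ⊓ S.L ≤ zpowers S.z :=
  normal_two inf_le_right hQ.two.to_inf_left
    (norm_inf (S.C_le_L.trans hQ.norm) (norm_of_le S.C_le_L))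

omit [Finite G] in
theorem QD.sup_le_H (hQ : S.QD Q) : Q ⊔ S.L ≤ S.H := sup_le hQ.le_H L_le_H

omit [Finite G] in
theorem QD.sup_le_norm (hQ : S.QD Q) : Q ⊔ S.L ≤ normalizer (Q : Set G) :=
  sup_le le_normalizer hQ.norm

theorem QD.exists_lam (hQ : S.QD Q) : ∃ lam : ↥(Q ⊔ S.L) →* AG,
    ∀ (h : ↥(Q ⊔ S.L)), ∀ e ∈ Q, ∀ l ∈ S.L, e * l = h → lam h = S.rh l := by
  have un : ∀ e ∈ Q, ∀ l ∈ S.L, ∀ e' ∈ Q, ∀ l' ∈ S.L, e * l = e' * l' → S.rh l = S.rh l' :=
    fun e he l hl e' he' l' hl' h => by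
      have h1 : l * l'⁻¹ = e⁻¹ * e' := by
        rw [mul_inv_eq_iff_eq_mul, mul_assoc, eq_inv_mul_iff_mul_eq, h]
      rw [← mul_inv_eq_one, ← rh_inv hl', ← rh_mul hl (inv_mem hl'),
        rh_eq_one (mul_mem hl (inv_mem hl')), ← mem_zpowers_z]
      exact hQ.inf_L (mem_inf.2 ⟨h1 ▸ mul_mem (inv_mem he) he', mul_mem hl (inv_mem hl')⟩)
  choose e he l hl h using fun h : ↥(Q ⊔ S.L) => (mem_sup_of_norm' hQ.norm).1 h.2
  refine ⟨MonoidHom.mk' (fun h => S.rh (l h)) fun a b => ?_,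
    fun a e' he' l' hl' h' => un _ (he a) _ (hl a) _ he' _ hl' ((h a).trans h'.symm)⟩
  refine (un _ (he (a * b)) _ (hl _) _ (mul_mem (he a) (conj_mem_of_mem_norm (hQ.norm (hl a)) (he b))) _
    (mul_mem (hl a) (hl b)) ?_).trans (rh_mul (hl a) (hl b))
  rw [h, coe_mul, ← h a, ← h b]; group

open RepAux in
theorem QD.exists_md (hQ : S.QD Q) (h : S.zy ≠ S.z) : Nonempty (Md S Q) := by
  classical
  obtain ⟨lam, hlam⟩ := hQ.exists_lam
  have mL : ∀ {l}, l ∈ S.L → l ∈ Q ⊔ S.L := fun hl => mem_sup_right hl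
  have mQ : ∀ {l}, l ∈ Q → l ∈ Q ⊔ S.L := fun hl => mem_sup_left hl
  have z1 := z_ne_of h
  have hE := hQ.es h
  obtain ⟨W, _, _, _, _, D, hD, hπ⟩ := H3.exists_esData_of_isExtraspecial hE
  have cen : ∀ a : Q, a ∈ center Q ↔ (a : G) = 1 ∨ (a : G) = S.z := fun a => by
    rw [← mem_zpowers_z, ← hQ.inf_cent h, mem_center_iff]
    exact ⟨fun e => ⟨a.2, fun b hb => congrArg Subtype.val (e ⟨b, hb⟩)⟩,
      fun e b => Subtype.ext (e.2 b b.2)⟩
  have hζ : ∀ s, (D.ζ s : G) = zp S.z s := fun s => by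
    unfold zp
    split_ifs with h
    · rw [h, D.ζ_zero]; rfl
    · exact ((cen _).1 (D.ζ_mem_center s)).resolve_left fun e =>
        h (D.ζ_eq_one_iff.1 (Subtype.ext e))
  have czp : ∀ s, ((zp (⟨S.z, mL S.z_mem⟩ : ↥(Q ⊔ S.L)) s : ↥(Q ⊔ S.L)) : G) = zp S.z s :=
    fun s => by unfold zp; split_ifs <;> rfl
  have qa : ∀ v w, D.f (v + w) = D.f v + D.f w + D.B w v := fun v w => by
    rw [D.f_add]; simp
  let k : ↥(Q ⊔ S.L) → W := fun h => if hh : (h : G) ∈ Q then D.π ⟨h, hh⟩ else 0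
  have hk : ∀ (h : ↥(Q ⊔ S.L)) (hh : h ∈ Q.subgroupOf _), k h = D.π ⟨h, hh⟩ :=
    fun h hh => dif_pos hh
  let R : H7.J4.Pre ↥(Q ⊔ S.L) W :=
    { z := ⟨S.z, mL S.z_mem⟩
      p := ⟨S.x, mL S.x_mem⟩
      E := Q.subgroupOf _
      k := k
      σ := pr.comp lam
      Q := D.f
      Bf := fun v w => D.B w v
      card_W := by
        have := D.card_eq
        rw [hQ.card h] at this; omega
      two := fun v => by
        rw [← two_smul (ZMod 2) v, show (2 : ZMod 2) = 0 from rfl, zero_smul]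
      normal := (normal_subgroupOf_iff_le_normalizer le_sup_left).2 hQ.sup_le_norm
      z_sq := Subtype.ext S.zz
      z_ne := fun h => z1 (congrArg Subtype.val h)
      z_comm := fun h => Subtype.ext (S.mem_H.1 (hQ.sup_le_H h.2))
      z_mem := hQ.z_mem
      k_mul := fun e he f hf => by
        rw [hk _ he, hk _ hf, hk _ (mul_mem he hf), ← D.π_mul]; rfl
      k_surj := fun w => by
        obtain ⟨a, rfl⟩ := D.π_surj w
        exact ⟨⟨a, mQ a.2⟩, a.2, hk _ a.2⟩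
      k_zero := fun e he => by
        rw [hk _ he, hπ, cen, Subtype.ext_iff, Subtype.ext_iff]; rfl
      sq := fun e he => Subtype.ext (by
        rw [czp, hk _ he, ← hζ, ← D.pow_eq, sq]; rfl)
      Q_add := qa
      B_add := fun u v w => map_add _ _ _
      Q_ne := by
        by_contra! h
        obtain ⟨v, hv⟩ := exists_ne (0 : W)
        refine hv (hD.1 v fun w => ?_)
        have := qa w v
        rwa [h, h, h, zero_add, zero_add, eq_comm] at this
      cent := fun a ha => hQ.cent_le h fun e he =>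
        (congrArg Subtype.val (ha ⟨e, mQ he⟩ he)).symm
      p_ord := by rw [← orderOf_coe]; exact S.ox
      fix := fun e he h => (mem_zpowers_z.1
        (hQ.inf_C.le ⟨he, S.mem_C.2 (congrArg Subtype.val h)⟩)).imp Subtype.ext Subtype.ext
      σ_mem := fun a => by
        obtain ⟨e, he, l, hl, h⟩ := (mem_sup_of_norm' hQ.norm).1 a.2
        rw [MonoidHom.comp_apply, hlam a e he l hl h]
        exact p_mem_M22x _ (X_le_Hb (rh_mem l))
      σ_surj := fun g hg => by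
        obtain ⟨a, ha, rfl⟩ := exists_lift g hg
        exact ⟨⟨S.lf a, mL (lf_mem a)⟩, by
          rw [MonoidHom.comp_apply, hlam _ 1 (one_mem _) _ (lf_mem a) (one_mul _), rh_lf ha]; rfl⟩
      σ_ker := fun a => by
        refine ⟨fun h1 => ?_, ?_⟩
        · obtain ⟨e, he, l, hl, h⟩ := (mem_sup_of_norm' hQ.norm).1 a.2
          rw [MonoidHom.comp_apply, hlam a e he l hl h] at h1
          obtain ⟨i, hi⟩ := mem_powers_iff_mem_zpowers.2 (X_inf_ker.le ⟨rh_mem l, h1⟩)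
          have hi' : S.rh l = S.rh (S.x ^ i) := by rw [rh_pow S.x_mem, rh_x]; exact hi.symm
          rcases (rh_eq_iff hl (pow_mem S.x_mem i)).1 hi' with e1 | e1
          · exact ⟨⟨e, mQ he⟩, he, i, Subtype.ext (by rw [← h, e1]; rfl)⟩
          · exact ⟨⟨e * S.z, mQ (mul_mem he hQ.z_mem)⟩, mul_mem he hQ.z_mem, i, Subtype.ext (by
              rw [← h, e1, z_comm (pow_mem S.x_mem i), ← mul_assoc]; rfl)⟩
        · rintro ⟨e, he, i, rfl⟩
          rw [MonoidHom.comp_apply, hlam _ e he _ (pow_mem S.x_mem i) rfl, rh_pow S.x_mem, rh_x,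
            map_pow, show pr om = 1 from om_p, one_pow]
      frat := fun a => by
        obtain ⟨e, he, l, hl, h⟩ := (mem_sup_of_norm' hQ.norm).1 a.2
        exact ⟨⟨e, mQ he⟩, he, ⟨l, mL hl⟩, (norm_cases S.ox hl).imp Subtype.ext Subtype.ext,
          Subtype.ext h.symm⟩
      inv := ⟨⟨S.i, mL i_mem⟩, Subtype.ext (mul_inv_eq_iff_eq_mul.1 i_x)⟩ }
  obtain ⟨p', π, h1, h2, h3, h4, h5, h6⟩ := R.exists_pi
  exact ⟨⟨π, p', h1.imp (congrArg Subtype.val) (congrArg Subtype.val), h2, h3,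
    fun h e => (h4 h e).imp (congrArg Subtype.val) (congrArg Subtype.val),
    fun h v e => (congrArg Subtype.val (h5 h v e)).trans (czp _), h6⟩⟩

theorem QD.norm_le_H (hQ : S.QD Q) (h : S.zy ≠ S.z) : normalizer (Q : Set G) ≤ S.H := fun g hg => by
  have := conj_mem_of_le_norm (norm_inf le_rfl (norm_centralizer le_rfl)) hg
    ((hQ.inf_cent h).ge (mem_zpowers _))
  rw [hQ.inf_cent h] at this
  exact S.mem_H.2 (mul_inv_eq_iff_eq_mul.1 ((mem_zpowers_z.1 this).resolve_left fun e =>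
    z_ne_of h (conj_eq_one_iff.1 e)))

end Loc

namespace Md

open Loc MDa

variable {G : Type*} [Group G] {S : Loc G} {Q : Subgroup G} (M : Md S Q)

theorem exists_π {a : AG} (ha : a ∈ Hb) : ∃ h, M.π h = a := M.range_π.ge ha

theorem π_mem (h : ↥(Q ⊔ S.L)) : M.π h ∈ Hb := M.range_π.le ⟨h, rfl⟩

theorem π_z (h : ↥(Q ⊔ S.L)) (e : (h : G) = S.z) : M.π h = 1 := by
  obtain ⟨g, e1⟩ := M.exists_π (tr_mem_Hb (Vb.of 1))
  have := M.sq_π g _ e1
  rw [q_eq_one.2 (by decide +kernel), zp_one, ← e] at this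
  rw [show h = g * g from Subtype.ext this.symm, map_mul, e1, tr_mul_self]

theorem π_eq_one {h : ↥(Q ⊔ S.L)} : M.π h = 1 ↔ (h : G) ∈ zpowers S.z := by
  rw [mem_zpowers_z]
  exact ⟨M.ker_π h, fun e => e.elim (fun e => by rw [show h = 1 from Subtype.ext e, map_one])
    (M.π_z h)⟩

/-- the vector of a member of `Q` -/
def kv (e : Q) : Vb := (M.π (inclusion le_sup_left e)).v

theorem π_incl (e : Q) : M.π (inclusion le_sup_left e) = tr (M.kv e) :=
  lin_eq_one.1 ((M.tr_π _).2 e.2)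

theorem kv_mul (e f : Q) : M.kv (e * f) = M.kv e + M.kv f :=
  tr_inj.1 (by rw [tr_add, ← π_incl, ← π_incl, ← π_incl, map_mul, map_mul])

theorem kv_surj : Function.Surjective M.kv := fun v => by
  obtain ⟨h, e⟩ := M.exists_π (tr_mem_Hb v)
  exact ⟨⟨h, (M.tr_π h).1 (e ▸ tr_mem_Tr v)⟩, congrArg AG.v e⟩

theorem kv_eq_iff {e f : Q} : M.kv e = M.kv f ↔ (e : G) * (f : G)⁻¹ ∈ zpowers S.z := by
  rw [← tr_inj, ← π_incl, ← π_incl, ← mul_inv_eq_one, ← map_inv, ← map_mul, π_eq_one]; rfl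

theorem kv_sq (e : Q) : (e : G) * e = zp S.z (q (M.kv e)) := M.sq_π _ _ (M.π_incl e)

theorem kv_conj (hN : normalizer (Q : Set G) ≤ S.H) (g : normalizer (Q : Set G)) {e f : Q}
    (h : M.kv e = M.kv f) : M.kv (g • e) = M.kv (g • f) := by
  rw [kv_eq_iff] at h ⊢
  have := conj_mem_of_mem_norm (H_le_NZ (hN g.2)) h
  rwa [← conj_mul, ← conj_inv] at this

/-- the action of the normaliser of `Q` on the vectors -/
@[reducible] noncomputable def act (hN : normalizer (Q : Set G) ≤ S.H) :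
    MulAction (normalizer (Q : Set G)) Vb where
  smul g v := M.kv (g • Function.surjInv M.kv_surj v)
  one_smul v := by
    change M.kv _ = v
    rw [one_smul, Function.surjInv_eq M.kv_surj]
  mul_smul g h v := by
    change M.kv _ = M.kv _
    rw [mul_smul]
    exact M.kv_conj hN g (Function.surjInv_eq M.kv_surj _).symm

include M in
theorem norm_le [Finite G] (hQ : S.QD Q) (h : S.zy ≠ S.z) : normalizer (Q : Set G) ≤ Q ⊔ S.L := by
  have hN := hQ.norm_le_H h
  let _ := M.act hN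
  have a1 : ∀ (g : normalizer (Q : Set G)) (e : Q), g • M.kv e = M.kv (g • e) := fun g e =>
    M.kv_conj hN g (Function.surjInv_eq M.kv_surj _)
  have a2 : ∀ (g : normalizer (Q : Set G)) (v w : Vb), g • (v + w) = g • v + g • w := fun g v w => by
    obtain ⟨e, rfl⟩ := M.kv_surj v
    obtain ⟨f, rfl⟩ := M.kv_surj w
    rw [← kv_mul, a1, a1, a1, smul_mul', kv_mul]
  have a3 : ∀ (k : ↥(Q ⊔ S.L)) (v : Vb),
      (inclusion hQ.sup_le_norm k) • v = (M.π k).m v := fun k v => by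
    obtain ⟨e, rfl⟩ := M.kv_surj v
    rw [a1, ← tr_inj, ← conj_tr, ← π_incl, ← π_incl, ← map_inv, ← map_mul, ← map_mul]; rfl
  have a4 : ∀ (g : normalizer (Q : Set G)) (v : Vb), q (g • v) = q v := fun g v => by
    obtain ⟨e, rfl⟩ := M.kv_surj v
    have h1 := M.kv_sq (g • e)
    have h2 : ∀ c, (g : G) * zp S.z c * (g : G)⁻¹ = zp S.z c := fun c => by
      unfold zp; split_ifs
      exacts [by simp, by rw [S.mem_H.1 (hN g.2), mul_inv_cancel_right]]
    rw [show ((g • e : Q) : G) = g * e * (g : G)⁻¹ from rfl, conj_mul, M.kv_sq, h2, ← a1] at h1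
    have h3 : zp S.z (q (g • M.kv e) + q (M.kv e)) = 1 := by
      rw [zp_add S.zz, ← h1, ← zp_add S.zz, z2_add_self, zp_zero]
    rw [zp_eq_one (z_ne_of h)] at h3
    rw [eq_neg_of_add_eq_zero_left h3, neg_eq_of_add_eq_zero_left (z2_add_self _)]
  let T : normalizer (Q : Set G) → Vb ≃+ Vb := fun g => ⟨MulAction.toPerm g, a2 g⟩
  have a5 : ∀ (g : normalizer (Q : Set G)) (v : Vb), ty v.val = 1 ∨ ty v.val = 2 →
      ty (g • v).val = 1 ∨ ty (g • v).val = 2 := fun g v hv => by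
    have h1 : ty (g • v).val ≠ 3 := q_eq_zero.1 ((a4 g v).trans (q_eq_zero.2 (by omega)))
    have h2 : ty (g • v).val ≠ 0 := fun e => by
      rw [(T g).map_eq_zero_iff.1 (ty_eq_zero.1 e), ty_eq_zero.2 rfl] at hv; omega
    have := ty_lt (g • v).val
    omega
  have a6 : ∀ {v w : Vb}, ty v.val = ty w.val → ∃ g : normalizer (Q : Set G), g • v = w :=
    fun {v w} e => by
      obtain ⟨a, ha, -, e⟩ := orbit_ty e
      obtain ⟨k, rfl⟩ := M.exists_π (X_le_Hb ha)
      exact ⟨_, (a3 k v).trans e⟩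
  have a7 : ∀ (g : normalizer (Q : Set G)) (v : Vb), ty v.val = 1 → ty (g • v).val = 1 :=
    fun g v hv => (a5 g v (Or.inl hv)).resolve_right fun h2 => by
      have o : MulAction.orbit (normalizer (Q : Set G)) (Vb.of 1408) =
          {v : Vb | ty v.val = 1 ∨ ty v.val = 2} := by
        ext w
        refine ⟨fun ⟨k, e⟩ => e ▸ a5 k _ (Or.inl ty1408), fun hw => hw.elim
          (fun hw => a6 (ty1408.trans hw.symm)) fun hw => ?_⟩
        obtain ⟨a, ha⟩ := a6 (ty1408.trans hv.symm)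
        obtain ⟨b, hb⟩ := a6 (h2.trans hw.symm)
        exact ⟨b * g * a, by simp only [mul_smul, ha, hb]⟩
      have c := (MulAction.stabilizer (normalizer (Q : Set G)) (Vb.of 1408)).index_mul_card
      rw [MulAction.index_stabilizer, o, ncard_sing] at c
      obtain ⟨k, hk⟩ := M.exists_π (X_le_Hb xb_mem_X)
      have c3 : 3 ∣ Nat.card (MulAction.stabilizer (normalizer (Q : Set G)) (Vb.of 1408)) := by
        refine (ord_xb ▸ hk ▸ orderOf_map_dvd M.π k).trans ?_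
        rw [← orderOf_injective _ (inclusion_injective hQ.sup_le_norm)]
        exact orderOf_dvd_natCard _ (by rw [MulAction.mem_stabilizer_iff, a3, hk, xb_fix])
      refine S.not_81 (Dvd.dvd.trans ?_ (card_subgroup_dvd_card (normalizer (Q : Set G))))
      rw [← c]
      exact Nat.mul_dvd_mul (show 27 ∣ 2079 by decide) c3
  have a8 : ∀ (g : normalizer (Q : Set G)) (v : Vb), ty (g • v).val = ty v.val := fun g v => by
    have := ty_lt v.val
    obtain e | e | e | e : ty v.val = 0 ∨ ty v.val = 1 ∨ ty v.val = 2 ∨ ty v.val = 3 := by omega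
    · rw [ty_eq_zero.1 e]; exact congrArg (fun v : Vb => ty v.val) (T g).map_zero
    · rw [a7 g v e, e]
    · refine ((a5 g v (Or.inr e)).resolve_left fun e1 => ?_).trans e.symm
      have := a7 g⁻¹ _ e1
      rw [inv_smul_smul] at this; omega
    · rw [e, ← q_eq_one, a4, q_eq_one, e]
  have a9 : ∀ g : normalizer (Q : Set G), (∀ v : Vb, g • v = v) → (g : G) ∈ Q := fun g hg =>
    hQ.mem_of_comm h (hN g.2) fun e he => (M.kv_eq_iff (e := g • ⟨e, he⟩) (f := ⟨e, he⟩)).1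
      ((a1 _ _).symm.trans (hg _))
  intro g hg
  have px : (M.p : G) ∈ zpowers S.x := by
    rcases M.hp with e | e <;> rw [e]
    exacts [mem_zpowers _, inv_mem (mem_zpowers _)]
  have b1 : g * M.p * g⁻¹ ∈ Q ⊔ zpowers S.x := by
    obtain ⟨k, hk, e⟩ : ∃ k : ↥(Q ⊔ S.L), (k : G) ∈ zpowers S.x ∧
        ∀ v, T ⟨g, hg⟩ (om.m v) = (M.π k).m (T ⟨g, hg⟩ v) := by
      rcases om_norm (T ⟨g, hg⟩) (a8 _) with e | e
      exacts [⟨M.p, px, by rwa [M.π_p]⟩, ⟨M.p * M.p, mul_mem px px, by rwa [map_mul, M.π_p]⟩]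
    have := a9 (⟨g, hg⟩ * inclusion hQ.sup_le_norm M.p * ⟨g, hg⟩⁻¹ *
      (inclusion hQ.sup_le_norm k)⁻¹) fun v => by
      rw [mul_smul, mul_smul, mul_smul, a3, M.π_p]
      refine (e _).trans ?_
      rw [← a3]
      exact (congrArg _ (smul_inv_smul (⟨g, hg⟩ : normalizer (Q : Set G)) _)).trans
        (smul_inv_smul _ _)
    exact (mul_mem_cancel_right (inv_mem (mem_sup_right hk))).1 (mem_sup_left this)
  have b2 : g ∈ normalizer ((Q ⊔ zpowers S.x : Subgroup G) : Set G) := by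
    refine mem_normalizer_of_cj_le ?_
    rw [cj_sup, cj_eq_self hg, cj, MonoidHom.map_zpowers]
    refine sup_le le_sup_left (zpowers_le.2 ?_)
    rcases M.hp with e | e <;> rw [e] at b1
    exacts [b1, by rw [← conj_inv] at b1; exact inv_mem_iff.1 b1]
  have : Fact (Nat.Prime 3) := ⟨by decide⟩
  have c3 : Nat.card (zpowers S.x) = 3 := by rw [Nat.card_zpowers, S.ox]
  have syl : H92.SylIn 3 (zpowers S.x) (Q ⊔ zpowers S.x) := by
    refine H92.sylIn_of_not_dvd_relIndex le_sup_right (IsPGroup.of_card (n := 1) c3) fun hd => ?_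
    have c1 := card_mul_index ((zpowers S.x).subgroupOf (Q ⊔ zpowers S.x))
    have c2 := H18.card_sup_of_le_normalizer (zpowers_le.2 (hQ.norm S.x_mem))
    rw [Nat.card_congr (subgroupOfEquivOfLe le_sup_right).toEquiv, c3] at c1
    rw [sup_comm, ← c1, c3, hQ.card h, mul_assoc] at c2
    exact absurd ((hd.mul_right _).trans (Nat.eq_of_mul_eq_mul_left (by decide) c2).dvd) (by decide)
  obtain ⟨n, hn, h1⟩ := syl.frattini b2
  exact (mul_mem_cancel_left (sup_le_sup_left le_normalizer Q hn)).1 (mem_sup_right h1)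

end Md

theorem Loc.QD.norm_le {G : Type*} [Group G] [Finite G] {S : Loc G} {Q : Subgroup G} (hQ : S.QD Q)
    (h : S.zy ≠ S.z) : normalizer (Q : Set G) ≤ Q ⊔ S.L :=
  let ⟨M⟩ := hQ.exists_md h; M.norm_le hQ h

end Cfsg.Agent.J4R
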