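/-
Project J4R.  The structure `Setup1` once the centraliser of `z` is `Q L`; the case of
characteristic 2 type.
-/
import Cfsg.Agent.J4R.MD
import Cfsg.Agent.J4P.Simple

set_option autoImplicit false

namespace Cfsg.Agent.J4R

open Subgroup Cfsg.Agent.H14 Cfsg.Agent.SGJ4 AG Cfsg.Agent.H80.J4 Cfsg.Agent.H70

namespace Loc

variable {G : Type*} [Group G] [Finite G] {S : Loc G} {Q : Subgroup G}

theorem QD.setup1 (hQ : S.QD Q) (h : S.zy ≠ S.z) (hH : S.H ≤ Q ⊔ S.L) : Nonempty (Setup1 G) := by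
  obtain ⟨M⟩ := hQ.exists_md h
  refine ⟨⟨S.z, M.p, M.π.comp (inclusion hH), oz (z_ne_of h), ?_, hQ.sup_le_H M.p.2, M.π_p,
    le_antisymm ?_ fun a ha => ?_, fun a => M.ker_π (inclusion hH a),
    fun a => M.sq_π (inclusion hH a)⟩⟩
  · rcases M.hp with e | e <;> rw [e]
    exacts [S.ox, (orderOf_inv _).trans S.ox]
  · rintro _ ⟨a, rfl⟩; exact M.π_mem _
  · obtain ⟨k, rfl⟩ := M.exists_π ha
    exact ⟨⟨k, hQ.sup_le_H k.2⟩, rfl⟩

theorem QD.zy_ne (hQ : S.QD Q) (hn : S.H ≤ normalizer (Q : Set G)) : S.zy ≠ S.z := fun h => by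
  refine hQ.ne (le_antisymm (le_of_gen (fun e => ?_) (E_le_C.trans (S.C_le_L.trans hQ.norm))
    fun g hg => ?_) (zpowers_le.2 hQ.z_mem))
  · exact absurd (hQ.not_three.symm.eq_one_of_dvd e) (by decide)
  · have h1 : g ∈ S.H := S.mem_H.2 (mul_inv_eq_iff_eq_mul.1 (by
      rcases mem_E_cases (conj_mem_of_mem_norm hg x_mem_E) with e | ⟨k, -, e⟩
      · simpa using z_conj_eq (S := S) (g := g) (h := 1) (by simpa using e)
      · rw [z_conj_eq (S := S) (g := g) (h := S.r ^ k * S.g0) (by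
          rwa [show S.r ^ k * S.g0 * S.x * (S.r ^ k * S.g0)⁻¹ = S.r ^ k * S.y * (S.r ^ k)⁻¹ by
            rw [y]; group]), show S.r ^ k * S.g0 * S.z * (S.r ^ k * S.g0)⁻¹ =
            S.r ^ k * S.zy * (S.r ^ k)⁻¹ by rw [zy]; group, h, z_comm (pow_mem r_mem k),
          mul_inv_cancel_right]))
    rw [← ESAux.cj_cent, ← cj_eq_self (hn h1), ← cj_inf, hQ.inf_C, cj_eq_self (H_le_NZ h1)]

theorem setup1_of_char (S : Loc G) (hz : S.z ≠ 1) (h2 : IsCharacteristicTwoType G) :
    Nonempty (Setup1 G) := by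
  have hT : IsPGroup 2 (zpowers S.z) :=
    IsPGroup.of_card (n := 1) (by rw [Nat.card_zpowers, oz hz]; rfl)
  have hN : normalizer (zpowers S.z : Set G) ≤ S.H := fun g hg =>
    S.mem_H.2 (mul_inv_eq_iff_eq_mul.1 ((mem_zpowers_z.1 (conj_mem_of_mem_norm hg
      (mem_zpowers _))).resolve_left fun e => hz (conj_eq_one_iff.1 e)))
  have hn := H_le_NZ.trans (le_norm_pCoreOf (p := 2) (normalizer (zpowers S.z : Set G)))
  have hQ : S.QD (pCoreOf 2 (normalizer (zpowers S.z : Set G))) :=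
    ⟨pCoreOf_isPGroup _, L_le_H.trans hn, le_pCoreOf le_normalizer le_rfl hT (mem_zpowers _),
      (pCoreOf_le _).trans hN, fun e => by
        have h3 := h2.2 _ hT (by simpa using hz)
          (show (⟨S.x, H_le_NZ (L_le_H S.x_mem)⟩ : normalizer (zpowers S.z : Set G)) ∈ _ from
            fun a ha => Subtype.ext (by
              rcases mem_zpowers_z.1 (e.le ⟨a, ha, rfl⟩) with e1 | e1
              · change (a : G) * S.x = S.x * a
                rw [show (a : G) = 1 from e1, one_mul, mul_one]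
              · change (a : G) * S.x = S.x * a
                rw [show (a : G) = S.z from e1, z_comm S.x_mem]))
        have := orderOf_dvd_of_pow_eq_one ((sq S.x).trans (sq_of_mem_z (e.le ⟨_, h3, rfl⟩)))
        rw [S.ox] at this; omega⟩
  have h := hQ.zy_ne hn
  exact hQ.setup1 h (hn.trans (hQ.norm_le h))

end Loc

end Cfsg.Agent.J4R
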