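import Mathlib

/-! Linear algebra for `J4R/No3`: a group acting on an elementary abelian 2-group. -/

set_option autoImplicit false
set_option linter.unusedSectionVars false

namespace Cfsg.Agent.J4R.N3

abbrev B4 := Bool × Bool × Bool × Bool

def ad (c d : B4) : B4 := (c.1 ^^ d.1, c.2.1 ^^ d.2.1, c.2.2.1 ^^ d.2.2.1, c.2.2.2 ^^ d.2.2.2)
def sm (t : Bool) (c : B4) : B4 := (t && c.1, t && c.2.1, t && c.2.2.1, t && c.2.2.2)
def z4 : B4 := (false, false, false, false)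
def lin (m1 m2 m3 c : B4) : B4 :=
  ad (ad (ad (c.1, false, false, false) (sm c.2.1 m1)) (sm c.2.2.1 m2)) (sm c.2.2.2 m3)
def rr (c : B4) : B4 := (c.1, c.2.2.2, c.2.1, c.2.2.1)
def ri (c : B4) : B4 := (c.1, c.2.2.1, c.2.2.2, c.2.1)
def qq (c : B4) : B4 := (c.2.1, c.1, c.2.2.2, c.2.2.1)

def dd (B : B4 → B4) (w : B4) : B4 := qq (B (qq (B w)))

/-- the square of `qq ∘ B` moves a vector with period three and fixes two vectors -/
def Gd (B : B4 → B4) : Prop :=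
  (∃ w, dd B w ≠ w ∧ dd B (dd B (dd B w)) = w) ∧
    ∃ b1, (b1 ≠ z4 ∧ dd B b1 = b1) ∧ ∃ b2, b2 ≠ z4 ∧ ad b1 b2 ≠ z4 ∧ dd B b2 = b2

set_option synthInstance.maxSize 2000 in
instance (B : B4 → B4) : Decidable (Gd B) := by unfold Gd; infer_instance

theorem key : ∀ a b c d e f g h k : Bool,
    (∀ w, lin (false, a, b, c) (false, d, e, f) (false, g, h, k)
      (lin (false, a, b, c) (false, d, e, f) (false, g, h, k) w) = w) →
    (∀ w, lin (false, a, b, c) (false, d, e, f) (false, g, h, k) (rr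
      (lin (false, a, b, c) (false, d, e, f) (false, g, h, k) (ri (ri
        (lin (false, a, b, c) (false, d, e, f) (false, g, h, k) (rr w)))))) = w) →
    (∀ w, lin (false, a, b, c) (false, d, e, f) (false, g, h, k) w = w) ∨
    Gd (lin (false, a, b, c) (false, d, e, f) (false, g, h, k)) ∨
    Gd (rr ∘ lin (false, a, b, c) (false, d, e, f) (false, g, h, k) ∘ ri) ∨
    Gd (ri ∘ lin (false, a, b, c) (false, d, e, f) (false, g, h, k) ∘ rr) := by decide +kernel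

theorem ad_eq : ∀ c d : B4, ad c d = z4 → c = d := by decide

theorem ad_sm : ∀ s t : Bool, ∀ c d : B4, c ≠ z4 → d ≠ z4 → ad c d ≠ z4 →
    ad (sm s c) (sm t d) = z4 → s = false ∧ t = false := by decide +kernel

variable {N W : Type*} [Group N] [CommGroup W] (α : N →* MulAut W)

/-- norm map -/
def nm (e : N) : W →* W := MonoidHom.id W * (α e).toMonoidHom * (α e⁻¹).toMonoidHom
/-- commutator map -/
def ph (i : N) : W →* W := MonoidHom.id W * (α i).toMonoidHom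

theorem nm_apply (e : N) (w : W) : nm α e w = w * α e w * α e⁻¹ w := rfl
theorem ph_apply (i : N) (w : W) : ph α i w = w * α i w := rfl
theorem am (g h : N) (w : W) : α g (α h w) = α (g * h) w := by rw [map_mul]; rfl

theorem nm_conj (g e : N) (w : W) : α g (nm α e w) = nm α (g * e * g⁻¹) (α g w) := by
  simp only [nm_apply, map_mul (α g), am]; congr 3 <;> group

/-- coordinates -/
def sp (a r q : N) (w : W) (c : B4) : W :=
  α a w ^ c.1.toNat * α q w ^ c.2.1.toNat * α (r * q) w ^ c.2.2.1.toNat *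
    α (r⁻¹ * q) w ^ c.2.2.2.toNat

structure Alg (x y r i q b : N) (a : W) (U : Subgroup W) : Prop where
  sq : ∀ w : W, w * w = 1
  rx : r * x * r⁻¹ = x
  bx : b * x * b⁻¹ = x
  qy : q * y * q⁻¹ = x
  ya : nm α y a = 1
  xa : α x a = a
  ra : α r a = a
  ba : α b a = a
  a1 : a ≠ 1
  r3 : r * r = r⁻¹
  q1 : α (q * q) a = a
  q2 : α (q * (r * q)) a = α (r⁻¹ * q) a
  q3 : α (q * (r⁻¹ * q)) a = α (r * q) a
  xU : ∀ u ∈ U, α x u = u
  yU : ∀ u ∈ U, α y u = u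
  iU : ∀ u ∈ U, α i u = u
  qU : ∀ u ∈ U, α q u ∈ U
  rU : ∀ u ∈ U, α r u ∈ U
  qqU : ∀ u ∈ U, α (q * q) u = u
  bU : ∀ u ∈ U, α b u = u ∨ α b u = u * a
  U2 : ∃ u ∈ U, ∃ v ∈ U, u ≠ 1 ∧ v ≠ 1 ∧ u * v ≠ 1
  ii : i * i = 1
  qi : ∀ w, α q (α i w) = α i (α q w)
  ri : r * i = i * r
  bi : b * i = i * b
  gen : ∀ B : Subgroup W, (∀ w, ph α i w = 1 ∨ ph α i w = a ∨ ph α i w = α q a ∨
    ph α i w = α (r * q) a ∨ ph α i w = α (r⁻¹ * q) a → w ∈ B) → ∀ w, w ∈ B
  aim : ∃ t, ph α i t = a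
  bb : b * b = 1
  bbb : b * (r * b * r⁻¹) * (r⁻¹ * b * r) = 1
  bne : ¬ (α b (α q a) = α q a ∧ α b (α (r * q) a) = α (r * q) a ∧
    α b (α (r⁻¹ * q) a) = α (r⁻¹ * q) a)

variable {α} {x y r i q b : N} {a : W} {U : Subgroup W}

theorem nm_fix {e : N} {w : W} (h2 : w * w = 1) (h : α e w = w) : nm α e w = w := by
  have : α e⁻¹ w = w := by
    conv_lhs => rw [← h, am, inv_mul_cancel, map_one]
    rfl
  rw [nm_apply, h, this, h2, one_mul]

namespace Alg
variable (h : Alg α x y r i q b a U)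
include h

theorem pw (w : W) (s t : Bool) : w ^ (s ^^ t).toNat = w ^ s.toNat * w ^ t.toNat := by
  cases s <;> cases t <;> simp [h.sq]

theorem sp_ad (c d : B4) : sp α 1 r q a (ad c d) = sp α 1 r q a c * sp α 1 r q a d := by
  simp only [sp, ad, h.pw]; ac_rfl

theorem sp_sm (t : Bool) (c : B4) : sp α 1 r q a (sm t c) = sp α 1 r q a c ^ t.toNat := by
  cases t <;> simp [sp, sm]

theorem sp_z : sp α 1 r q a z4 = 1 := by simp [sp, z4]

theorem im (w : W) : ∃ c, ph α i w = sp α 1 r q a c := by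
  refine h.gen ⟨⟨⟨{w | ∃ c, ph α i w = sp α 1 r q a c}, fun ⟨c, e⟩ ⟨d, e'⟩ =>
    ⟨ad c d, by rw [map_mul, e, e', h.sp_ad]⟩⟩, z4, by rw [map_one, h.sp_z]⟩, fun {w} hw =>
      inv_eq_of_mul_eq_one_right (h.sq w) ▸ hw⟩ (fun w hw => ?_) w
  rcases hw with e | e | e | e | e
  exacts [⟨z4, by rw [e, h.sp_z]⟩, ⟨(true, false, false, false), by simp [e, sp]⟩,
    ⟨(false, true, false, false), by simp [e, sp]⟩, ⟨(false, false, true, false), by simp [e, sp]⟩,
    ⟨(false, false, false, true), by simp [e, sp]⟩]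

theorem ria : α r⁻¹ a = a := by rw [← h.r3, ← am, h.ra, h.ra]

theorem r_sp (c : B4) : α r (sp α 1 r q a c) = sp α 1 r q a (rr c) := by
  simp only [sp, rr, map_mul (α r), map_pow, am, ← mul_assoc, h.r3, mul_inv_cancel,
    one_mul, h.ra, map_one, MulAut.one_apply]
  ac_rfl

theorem ri_sp (c : B4) : α r⁻¹ (sp α 1 r q a c) = sp α 1 r q a (N3.ri c) := by
  rw [← h.r3, ← am, h.r_sp, h.r_sp]; rfl

theorem q_sp (c : B4) : α q (sp α 1 r q a c) = sp α 1 r q a (qq c) := by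
  simp only [sp, qq, map_mul (α q), map_pow, am, h.q1, h.q2, h.q3, map_one,
    MulAut.one_apply]
  ac_rfl

theorem x1 : nm α x (α q a) = 1 := by rw [← h.qy, ← nm_conj, h.ya, map_one]
theorem x2 : nm α x (α (r * q) a) = 1 := by rw [← h.rx, ← am, ← nm_conj, h.x1, map_one]
theorem x3 : nm α x (α (r⁻¹ * q) a) = 1 := by
  rw [← h.r3, ← h.rx, mul_assoc r r, ← am, ← nm_conj, h.x2, map_one]

theorem x_sp (c : B4) : nm α x (sp α 1 r q a c) = a ^ c.1.toNat := by
  simp only [sp, map_mul (nm α x), map_pow, h.x1, h.x2, h.x3, map_one, MulAut.one_apply,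
    nm_fix (h.sq a) h.xa, one_pow, mul_one]

theorem fst {c : B4} (e : a ^ c.1.toNat = 1) : c.1 = false := by
  by_contra hc
  rw [Bool.not_eq_false] at hc
  exact h.a1 (by simpa [hc] using e)

theorem sp_one {c : B4} (e : sp α 1 r q a c = 1) : c = z4 := by
  have k : ∀ c, sp α 1 r q a c = 1 → c.1 = false := fun c e => h.fst (by rw [← h.x_sp, e, map_one])
  refine Prod.ext (k c e) (Prod.ext (k (qq c) ?_) (Prod.ext (k (qq (N3.ri c)) ?_) (k (qq (rr c)) ?_)))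
  · rw [← h.q_sp, e, map_one]
  · rw [← h.q_sp, ← h.ri_sp, e, map_one, map_one]
  · rw [← h.q_sp, ← h.r_sp, e, map_one, map_one]

theorem sp_inj {c d : B4} (e : sp α 1 r q a c = sp α 1 r q a d) : c = d :=
  ad_eq c d (h.sp_one (by rw [h.sp_ad, e, h.sq]))

theorem U_sp {u : W} (hu : u ∈ U) {c : B4} (e : u * sp α 1 r q a c = 1) : u = 1 := by
  have := congrArg (fun w => nm α y (nm α x w)) e
  simpa [h.x_sp, h.ya, nm_fix (h.sq u) (h.xU u hu), nm_fix (h.sq u) (h.yU u hu)] using this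

theorem ph_c {g : N} (hg : ∀ w, α g (α i w) = α i (α g w)) (w : W) :
    α g (ph α i w) = ph α i (α g w) := by rw [ph_apply, ph_apply, map_mul, hg]

theorem cr (w : W) : α r (α i w) = α i (α r w) := by rw [am, am, h.ri]
theorem cb (w : W) : α b (α i w) = α i (α b w) := by rw [am, am, h.bi]

theorem sp_im (c : B4) : ∃ t, ph α i t = sp α 1 r q a c := by
  obtain ⟨t, e⟩ := h.aim
  refine ⟨t ^ c.1.toNat * α q t ^ c.2.1.toNat * α r (α q t) ^ c.2.2.1.toNat *
    α r (α r (α q t)) ^ c.2.2.2.toNat, ?_⟩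
  simp only [map_mul (ph α i), map_pow, ← h.ph_c h.cr, ← h.ph_c h.qi, e, sp]
  simp only [am, ← mul_assoc, h.r3, map_one, MulAut.one_apply]

theorem ph_sp (c : B4) : ph α i (sp α 1 r q a c) = 1 := by
  obtain ⟨t, e⟩ := h.sp_im c
  rw [← e, ph_apply, ph_apply, map_mul, am, h.ii, map_one, MulAut.one_apply, mul_comm (α i t), h.sq]

theorem col {g : N} (hg : nm α x (α g a) = 1) (hs : ∃ c, α g a = sp α 1 r q a c) :
    ∃ s t u, α b (α g a) = sp α 1 r q a (false, s, t, u) := by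
  obtain ⟨c, e⟩ := hs
  obtain ⟨t, e'⟩ := h.sp_im c
  obtain ⟨m, hm⟩ := h.im (α b t)
  rw [← h.ph_c h.cb, e', ← e] at hm
  have := h.fst (c := m) (by rw [← h.x_sp, ← hm, ← h.bx, ← nm_conj, hg, map_one])
  exact ⟨m.2.1, m.2.2.1, m.2.2.2, this ▸ hm⟩

variable [Finite N]

theorem fin {g : N} {B : B4 → B4} (hB : ∀ c, α g (sp α 1 r q a c) = sp α 1 r q a (B c))
    (hi : ∀ w, α g (α i w) = α i (α g w)) (hU : ∀ u ∈ U, α g u = u ∨ α g u = u * a) (hG : Gd B) :
    ∃ ρ : N, orderOf ρ = 3 ∧ ∃ f : Bool × B4 → W, Function.Injective f ∧ ∀ c, α ρ (f c) = f c := by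
  obtain ⟨⟨w, w1, w3⟩, b1, ⟨n1, f1⟩, b2, n2, n3, f2⟩ := hG
  have hd : ∀ c, α (q * g * q * g) (sp α 1 r q a c) = sp α 1 r q a (dd B c) := fun c => by
    rw [← am, ← am, ← am, hB, h.q_sp, hB, h.q_sp, dd]
  have hU' : ∀ u ∈ U, ∃ c, α g u = u * sp α 1 r q a c := fun u hu => (hU u hu).elim
    (fun e => ⟨z4, by rw [e, h.sp_z, mul_one]⟩) fun e => ⟨(true, false, false, false), by simp [e, sp]⟩
  have hdU : ∀ u ∈ U, ∃ c, α (q * g * q * g) u = u * sp α 1 r q a c := fun u hu => by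
    obtain ⟨c, e⟩ := hU' u hu
    obtain ⟨c', e'⟩ := hU' _ (h.qU u hu)
    refine ⟨qq (ad c' (B (qq c))), ?_⟩
    rw [← am, ← am, ← am, e, map_mul (α q), h.q_sp, map_mul (α g), e', hB, mul_assoc, ← h.sp_ad,
      map_mul (α q), h.q_sp, am, h.qqU u hu]
  have hdi : ∀ w, α (q * g * q * g) (α i w) = α i (α (q * g * q * g) w) := fun w => by
    simp only [← am, hi, h.qi]
  generalize q * g * q * g = d at hd hdU hdi
  have fixp : ∀ w, α d w = w → ∀ n : ℕ, α (d ^ n) w = w := fun w e n => by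
    induction n with
    | zero => simp
    | succ n ih => rw [pow_succ, ← am, e, ih]
  have h3 : 3 ∣ orderOf d := by
    by_contra hn
    obtain ⟨m, hm⟩ := exists_pow_eq_self_of_coprime (x := d)
      ((Nat.Prime.coprime_iff_not_dvd Nat.prime_three).mpr hn)
    have e : α (d ^ 3) (sp α 1 r q a w) = sp α 1 r q a w := by
      rw [pow_three, ← am, ← am, hd, hd, hd, w3]
    have e2 : ∀ n : ℕ, α ((d ^ 3) ^ n) (sp α 1 r q a w) = sp α 1 r q a w := fun n => by
      induction n with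
      | zero => simp
      | succ n ih => rw [pow_succ, ← am, e, ih]
    have := e2 m
    rw [hm, hd] at this
    exact w1 (h.sp_inj this)
  have ho := orderOf_pow_orderOf_div (orderOf_pos d).ne' h3
  have g1 := fixp (sp α 1 r q a b1) (by rw [hd, f1]) (orderOf d / 3)
  have g2 := fixp (sp α 1 r q a b2) (by rw [hd, f2]) (orderOf d / 3)
  have gU : ∀ n : ℕ, ∀ u ∈ U, ∃ c, α (d ^ n) u = u * sp α 1 r q a c := fun n u hu => by
    induction n with
    | zero => exact ⟨z4, by simp [h.sp_z]⟩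
    | succ n ih =>
      obtain ⟨c, e⟩ := ih
      obtain ⟨c', e'⟩ := hdU u hu
      exact ⟨_, by rw [pow_succ', ← am, e, map_mul, e', hd, mul_assoc, ← h.sp_ad]⟩
  have gi : ∀ n : ℕ, ∀ w, α (d ^ n) (α i w) = α i (α (d ^ n) w) := fun n w => by
    induction n with
    | zero => simp
    | succ n ih => rw [pow_succ', ← am, ← am, ih, hdi]
  refine ⟨_, ho, ?_⟩
  have e3 : (d ^ (orderOf d / 3))⁻¹ = d ^ (orderOf d / 3) * d ^ (orderOf d / 3) :=
    inv_eq_of_mul_eq_one_left (by rw [← pow_three']; exact orderOf_dvd_iff_pow_eq_one.mp ho.dvd)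
  have nU : ∀ u ∈ U, ∃ c, nm α (d ^ (orderOf d / 3)) u = u * sp α 1 r q a c := fun u hu => by
    obtain ⟨c, e⟩ := gU (orderOf d / 3) u hu
    obtain ⟨c', e'⟩ := gU (orderOf d / 3 + orderOf d / 3) u hu
    refine ⟨ad c c', ?_⟩
    rw [nm_apply, e3, ← pow_add, e, e', h.sp_ad, ← mul_assoc u, h.sq, one_mul]; ac_rfl
  have ni : ∀ w, ph α i (nm α (d ^ (orderOf d / 3)) w) = nm α (d ^ (orderOf d / 3)) (ph α i w) :=
    fun w => by
      simp only [nm_apply, e3, ← pow_add, map_mul (ph α i), h.ph_c (gi _)]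
  generalize d ^ (orderOf d / 3) = ρ at g1 g2 e3 nU ni
  have nf : ∀ w, α ρ (nm α ρ w) = nm α ρ w := fun w => by
    simp only [nm_apply, map_mul (α ρ), am, ← e3, mul_inv_cancel, map_one, MulAut.one_apply]; ac_rfl
  obtain ⟨u, hu, v, hv, u1, v1, uv⟩ := h.U2
  obtain ⟨t, ht⟩ := h.sp_im b1
  refine ⟨fun c => nm α ρ t ^ c.1.toNat * (nm α ρ u ^ c.2.1.toNat * nm α ρ v ^ c.2.2.1.toNat) *
    (sp α 1 r q a b1 ^ c.2.2.2.1.toNat * sp α 1 r q a b2 ^ c.2.2.2.2.toNat), fun c c' e => ?_,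
    fun c => by simp only [map_mul (α ρ), map_pow, nf, g1, g2]⟩
  have key : ∀ s0 s1 s2 s3 s4 : Bool, nm α ρ t ^ s0.toNat *
      (nm α ρ u ^ s1.toNat * nm α ρ v ^ s2.toNat) *
      (sp α 1 r q a b1 ^ s3.toNat * sp α 1 r q a b2 ^ s4.toNat) = 1 →
      s0 = false ∧ s1 = false ∧ s2 = false ∧ s3 = false ∧ s4 = false := fun s0 s1 s2 s3 s4 e => by
    have hm := mul_mem (pow_mem hu s1.toNat) (pow_mem hv s2.toNat)
    obtain ⟨k, hk⟩ := nU _ hm
    rw [← map_pow _ u, ← map_pow _ v, ← map_mul, ← h.sp_sm, ← h.sp_sm, ← h.sp_ad] at e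
    have e0 : s0 = false := by
      have := congrArg (ph α i) e
      rw [hk, map_mul, map_mul, map_mul, h.ph_sp, h.ph_sp, ph_apply α i (_ * _), h.iU _ hm, h.sq,
        map_pow, ni, ht, nm_fix (h.sq _) g1] at this
      cases s0
      · rfl
      · exact absurd (h.sp_one (by simpa using this)) n1
    rw [e0, Bool.toNat_false, pow_zero, one_mul] at e
    have e1 := h.U_sp hm (by rwa [hk, mul_assoc, ← h.sp_ad] at e)
    rw [e1, map_one, one_mul] at e
    have e2 : s1 = false ∧ s2 = false := by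
      cases s1 <;> cases s2 <;> simp_all
    exact ⟨e0, e2.1, e2.2, ad_sm _ _ _ _ n1 n2 n3 (h.sp_one e)⟩
  obtain ⟨k0, k1, k2, k3, k4⟩ := key (c.1 ^^ c'.1) (c.2.1 ^^ c'.2.1) (c.2.2.1 ^^ c'.2.2.1)
    (c.2.2.2.1 ^^ c'.2.2.2.1) (c.2.2.2.2 ^^ c'.2.2.2.2) (by
      rw [← h.sq _, ← congrArg (· * _) e]; simp only [h.pw]; ac_rfl)
  have xe : ∀ s t : Bool, (s ^^ t) = false → s = t := by decide
  exact Prod.ext (xe _ _ k0) (Prod.ext (xe _ _ k1) (Prod.ext (xe _ _ k2)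
    (Prod.ext (xe _ _ k3) (xe _ _ k4))))

theorem main :
    ∃ ρ : N, orderOf ρ = 3 ∧ ∃ f : Bool × B4 → W, Function.Injective f ∧ ∀ c, α ρ (f c) = f c := by
  obtain ⟨a1, a2, a3, e1⟩ := h.col h.x1 ⟨(false, true, false, false), by simp [sp]⟩
  obtain ⟨b1, b2, b3, e2⟩ := h.col h.x2 ⟨(false, false, true, false), by simp [sp]⟩
  obtain ⟨c1, c2, c3, e3⟩ := h.col h.x3 ⟨(false, false, false, true), by simp [sp]⟩
  have hB : ∀ c, α b (sp α 1 r q a c) =
      sp α 1 r q a (lin (false, a1, a2, a3) (false, b1, b2, b3) (false, c1, c2, c3) c) := fun c => by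
    rw [lin, h.sp_ad, h.sp_ad, h.sp_ad, h.sp_sm, h.sp_sm, h.sp_sm, ← e1, ← e2, ← e3]
    simp [sp, h.ba]
  have cri : ∀ w, α r⁻¹ (α i w) = α i (α r⁻¹ w) := fun w => by rw [← h.r3, ← am, ← am, h.cr, h.cr]
  have riU : ∀ u ∈ U, α r⁻¹ u ∈ U := fun u hu => by rw [← h.r3, ← am]; exact h.rU _ (h.rU u hu)
  rcases key a1 a2 a3 b1 b2 b3 c1 c2 c3
    (fun w => h.sp_inj (by rw [← hB, ← hB, am, h.bb]; simp))
    (fun w => h.sp_inj (by
      rw [← hB, ← h.r_sp, ← hB, ← h.ri_sp, ← h.ri_sp, ← hB, ← h.r_sp]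
      simp only [am]
      rw [show b * (r * (b * (r⁻¹ * (r⁻¹ * (b * r))))) = 1 by rw [← h.bbb]; group]; simp))
    with H | H | H | H
  · refine absurd ⟨?_, ?_, ?_⟩ h.bne
    · simpa [H, sp] using hB (false, true, false, false)
    · simpa [H, sp] using hB (false, false, true, false)
    · simpa [H, sp] using hB (false, false, false, true)
  · exact h.fin hB h.cb h.bU H
  · refine h.fin (g := r * b * r⁻¹) (fun c => by rw [← am, ← am, h.ri_sp, hB, h.r_sp]; rfl)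
      (fun w => by simp only [← am, cri, h.cb, h.cr]) (fun u hu => ?_) H
    refine (h.bU _ (riU u hu)).imp (fun e => ?_) fun e => ?_ <;>
      rw [← am, ← am, e] <;> simp [h.ra]
  · refine h.fin (g := r⁻¹ * b * r) (fun c => by rw [← am, ← am, h.r_sp, hB, h.ri_sp]; rfl)
      (fun w => by simp only [← am, cri, h.cb, h.cr]) (fun u hu => ?_) H
    refine (h.bU _ (h.rU u hu)).imp (fun e => ?_) fun e => ?_ <;>
      rw [← am, ← am, e] <;> simp only [map_mul (α r⁻¹), h.ria, am, inv_mul_cancel, map_one,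
        MulAut.one_apply]

end Alg

end Cfsg.Agent.J4R.N3
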