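import Cfsg.Agent.J4R.NHat
import Cfsg.Agent.J4R.No3A

set_option autoImplicit false
set_option linter.unusedSectionVars false

namespace Cfsg.Agent.J4R

open Subgroup Cfsg.Agent.H14 Cfsg.Agent.SGJ4 AG Cfsg.Agent.H80.J4 Cfsg.Agent.H70

namespace N3

theorem om_word : rb * rb * xb * xb * bb * (xb * rb) * (rb * bb * (rb * rb)) *
    (rb * xb * bb * (xb * xb * (rb * rb))) * (rb * rb * xb * xb * bb * (xb * rb)) *
    (xb * bb * (xb * xb)) * bb = om :=
  cd_inj.1 (by simp only [cd_mul, cd_rb, cd_bb, cd_xb', cd_om]; decide +kernel)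

variable {G : Type*} [Group G] [Finite G] {S : Loc G}

open Loc

/-- lift of `ub k` -/
noncomputable def f (S : Loc G) (k : ℕ) : G := S.lf (ub k)

theorem rh_f (k : ℕ) : S.rh (f S k) = ub k := rh_lf (X49.ub_mem_X k)
theorem f_L (k : ℕ) : f S k ∈ S.L := lf_mem _
theorem f_F {k : ℕ} (hk : k < 16) : f S k ∈ S.F := mem_F.2 ⟨lf_mem _, k, hk, rh_f k⟩
theorem F_V : S.F ≤ S.V := V_inf_C (S := S) ▸ inf_le_left
theorem f_ne {k : ℕ} (hk : k < 16) (h0 : k ≠ 0) : f S k ≠ 1 := fun e =>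
  h0 ((ub_eq_one hk).1 (by rw [← rh_f (S := S), e, rh_one]))

theorem memL {k : G} (h : k * S.x * k⁻¹ ∈ zpowers S.x) : k ∈ S.L :=
  mem_normalizer_of_cj_le (cj_le_iff.2 fun a ⟨n, e⟩ => by
    rw [← e, ← conj_zpow]; exact zpow_mem h n)

theorem U_cent {u : G} (hu : u ∈ S.U) : u ∈ centralizer (S.E : Set G) :=
  mem_cent_E.2 ⟨u, hu, 1, one_mem _, (mul_one u).symm⟩

theorem ri_y : S.r⁻¹ * S.y * S.r = S.x * S.y := by
  rw [show S.r⁻¹ * S.y * S.r = S.r⁻¹ * (S.y * S.r * S.y⁻¹) * S.y by group, y_r]; group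
theorem r_x' : S.r * S.x * S.r⁻¹ = S.x := by rw [r_x]; group
theorem ri_x : S.r⁻¹ * S.x * S.r = S.x := by rw [mul_assoc, ← r_x]; group
theorem r_y : S.r * S.y * S.r⁻¹ = S.x⁻¹ * S.y := by
  rw [eq_inv_mul_iff_mul_eq, ← r_x', conj_mul, ← ri_y]; group

/-- the elements of `N(E)` fixing the coset `i U` -/
def Ns (S : Loc G) : Subgroup G where
  carrier := {g | g ∈ normalizer (S.E : Set G) ∧ S.i⁻¹ * (g * S.i * g⁻¹) ∈ S.U}
  one_mem' := ⟨one_mem _, by simp⟩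
  mul_mem' {g h} hg hh := ⟨mul_mem hg.1 hh.1, by
    have := mul_mem hg.2 (conj_mem_of_mem_norm (NE_le_NU hg.1) hh.2)
    rwa [show S.i⁻¹ * (g * S.i * g⁻¹) * (g * (S.i⁻¹ * (h * S.i * h⁻¹)) * g⁻¹) =
      S.i⁻¹ * (g * h * S.i * (g * h)⁻¹) by group] at this⟩
  inv_mem' {g} hg := ⟨inv_mem hg.1, by
    have := conj_mem_of_mem_norm' (NE_le_NU hg.1) (inv_mem hg.2)
    rwa [show g⁻¹ * (S.i⁻¹ * (g * S.i * g⁻¹))⁻¹ * g = S.i⁻¹ * (g⁻¹ * S.i * g⁻¹⁻¹) by group] at this⟩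

theorem r_Ns : S.r ∈ Ns S := ⟨r_mem_NE, by rw [← i_r]; simp⟩

variable (hz : S.z = 1)
include hz

theorem inj {g h : G} (hg : g ∈ S.L) (hh : h ∈ S.L) (e : S.rh g = S.rh h) : g = h := by
  simpa [hz] using (rh_eq_iff hg hh).1 e

theorem i_inv : S.i⁻¹ = S.i := inv_eq_of_mul_eq_one_right (Good.i_sq (.inl hz))

theorem f_mul {k l : ℕ} (hk : k < 16) (hl : l < 16) : f S k * f S l = f S (k ^^^ l) :=
  inj hz (mul_mem (lf_mem _) (lf_mem _)) (lf_mem _)
    (by rw [rh_mul (f_L _) (f_L _), rh_f, rh_f, rh_f, X49.ub_xor hk hl])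

theorem f_zero : f S 0 = 1 := inj hz (lf_mem _) (one_mem _) (by rw [rh_f, rh_one, ub_zero])

theorem f_conj {g : G} (hg : g ∈ S.L) {k l : ℕ} (e : S.rh g * ub k * (S.rh g)⁻¹ = ub l) :
    g * f S k * g⁻¹ = f S l :=
  inj hz (mul_mem (mul_mem hg (lf_mem _)) (inv_mem hg)) (lf_mem _)
    (by rw [rh_conj hg (f_L _), rh_f, rh_f, e])

theorem i_f {k : ℕ} (hk : k < 16) : S.i * f S k * S.i⁻¹ = f S (nthD ti 0 k) :=
  f_conj hz i_mem (rh_i (S := S) ▸ ib_ub hk)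

theorem phF {g : G} (hg : g ∈ S.F) : g * (S.i * g * S.i⁻¹) = 1 ∨ g * (S.i * g * S.i⁻¹) = f S 3 := by
  obtain ⟨hl, k, hk, e⟩ := mem_F.1 hg
  obtain rfl : g = f S k := inj hz hl (lf_mem _) (e.trans (rh_f k).symm)
  have key : ∀ k < 16, nthD ti 0 k < 16 ∧ (k ^^^ nthD ti 0 k = 0 ∨ k ^^^ nthD ti 0 k = 3) := by
    decide +kernel
  rw [i_f hz hk, f_mul hz hk (key k hk).1]
  exact (key k hk).2.imp (fun e => by rw [e, f_zero hz]) fun e => by rw [e]

theorem ph13 : f S 13 * (S.i * f S 13 * S.i⁻¹) = f S 3 := by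
  rw [i_f hz (by decide), f_mul hz (by decide) (by decide)]; rfl

theorem exists_Ns {g : G} (hg : g ∈ normalizer (S.E : Set G)) : ∃ e ∈ S.E, e * g ∈ Ns S := by
  obtain ⟨u, hu, e, he, E⟩ := (mem_cent_E (g := S.i⁻¹ * (g * S.i * g⁻¹))).1 fun e he => by
    have h1 := i_conj_E (conj_mem_of_mem_norm' hg he)
    have h2 := i_conj_E he
    calc e * (S.i⁻¹ * (g * S.i * g⁻¹)) = S.i⁻¹ * (S.i * e * S.i⁻¹) * (g * S.i * g⁻¹) := by group
      _ = S.i⁻¹ * g * (g⁻¹ * e * g)⁻¹ * S.i * g⁻¹ := by rw [h2]; group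
      _ = _ := by rw [← h1]; group
  refine ⟨e⁻¹, inv_mem he, mul_mem (le_normalizer (inv_mem he)) hg, ?_⟩
  have h1 := i_conj_E (inv_mem he)
  rw [i_inv hz, inv_inv] at h1
  rw [show S.i⁻¹ * (e⁻¹ * g * S.i * (e⁻¹ * g)⁻¹) = S.i⁻¹ * e⁻¹ * S.i * (S.i⁻¹ * (g * S.i * g⁻¹)) * e by
    group, E, i_inv hz, h1, ← mul_assoc, U_cent hu e he, mul_assoc u, mul_assoc u, ← pow_three',
    E_cube he, mul_one]
  exact hu

theorem exists_q : ∃ q ∈ Ns S, q * S.x * q⁻¹ = S.y⁻¹ ∧ q * S.y * q⁻¹ = S.x := by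
  have yx := y_x (S := S)
  obtain ⟨g0, hg0, e0⟩ := exists_NE (y_mem_E (S := S)) fun e => y_not_mem (e ▸ one_mem _)
  obtain ⟨e, he, hg⟩ := exists_Ns hz hg0
  have e1 : e * g0 * S.x * (e * g0)⁻¹ = S.y := by
    rw [show e * g0 * S.x * (e * g0)⁻¹ = e * (g0 * S.x * g0⁻¹) * e⁻¹ by group, e0,
      E_comm he y_mem_E, mul_inv_cancel_right]
  generalize e * g0 = g at hg e1
  have hs := mul_mem (mul_mem hg r_Ns) (inv_mem hg)
  have sy : g * S.r * g⁻¹ * S.y * (g * S.r * g⁻¹)⁻¹ = S.y := by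
    conv_rhs => rw [← e1, ← r_x']
    rw [← e1]; group
  obtain ⟨i, j, ew⟩ := mem_E.1 (conj_mem_of_mem_norm' hg.1 x_mem_E)
  have cxy : Commute S.x⁻¹ S.y := (show Commute S.y S.x from yx).symm.inv_left
  have sx : g * S.r * g⁻¹ * S.x * (g * S.r * g⁻¹)⁻¹ = S.x * S.y⁻¹ ^ j := by
    calc _ = g * (S.r * (g⁻¹ * S.x * g) * S.r⁻¹) * g⁻¹ := by group
      _ = g * ((g⁻¹ * S.x * g) * S.x⁻¹ ^ j) * g⁻¹ := by
          rw [ew, ← conj_mul (b := S.r), ← conj_pow, ← conj_pow, r_x', r_y, cxy.mul_pow, (cxy.pow_pow j j).eq,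
            mul_assoc (S.x ^ i)]
      _ = _ := by rw [← e1, conj_inv, conj_pow]; group
  obtain ⟨s, hs, sx, sy⟩ : ∃ s ∈ Ns S, s * S.x * s⁻¹ = S.x * S.y⁻¹ ∧ s * S.y * s⁻¹ = S.y := by
    have y3 : S.y⁻¹ ^ 3 = 1 := by rw [inv_pow, S.y_cube, inv_one]
    rw [pow_eq_pow_mod j y3] at sx
    rw [pow_eq_pow_mod j S.y_cube] at ew
    generalize g * S.r * g⁻¹ = s at hs sx sy
    obtain h | h | h : j % 3 = 0 ∨ j % 3 = 1 ∨ j % 3 = 2 := by omega
    · rw [h, pow_zero, mul_one] at ew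
      have h1 := inv_mem (memL (k := g⁻¹) (by rw [inv_inv, ew]; exact pow_mem (mem_zpowers _) i))
      exact absurd (e1 ▸ conj_mem_of_mem_norm (by simpa using h1) (mem_zpowers _)) y_not_mem
    · exact ⟨s, hs, by rw [sx, h, pow_one], sy⟩
    · refine ⟨s * s, mul_mem hs hs, ?_, ?_⟩
      · rw [show s * s * S.x * (s * s)⁻¹ = s * (s * S.x * s⁻¹) * s⁻¹ by group, sx, ← conj_mul, sx,
          ← conj_pow, ← conj_inv, sy, h, mul_assoc, ← pow_add, pow_succ, y3, one_mul]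
      · rw [show s * s * S.y * (s * s)⁻¹ = s * (s * S.y * s⁻¹) * s⁻¹ by group, sy, sy]
  refine ⟨S.r⁻¹ * s * S.r⁻¹, mul_mem (mul_mem (inv_mem r_Ns) hs) (inv_mem r_Ns), ?_, ?_⟩
  · calc _ = S.r⁻¹ * (s * (S.r⁻¹ * S.x * S.r) * s⁻¹) * S.r := by group
      _ = (S.r⁻¹ * S.x * S.r) * (S.r⁻¹ * S.y * S.r)⁻¹ := by rw [ri_x, sx]; conv_rhs => rw [← ri_x]
                                                            group
      _ = _ := by rw [ri_x, ri_y, ← yx]; group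
  · calc _ = S.r⁻¹ * (s * (S.r⁻¹ * S.y * S.r) * s⁻¹) * S.r := by group
      _ = _ := by rw [ri_y, ← conj_mul, sx, sy, inv_mul_cancel_right, ri_x]

variable (hV : S.V ≠ S.F)
include hV

omit hz in
theorem V_comm {a b : G} (ha : a ∈ S.V) (hb : b ∈ S.V) : a * b = b * a := by
  rw [← inv_eq_of_mul_eq_one_right (V_sq hV (mul_mem ha hb)), mul_inv_rev,
    inv_eq_of_mul_eq_one_right (V_sq hV ha), inv_eq_of_mul_eq_one_right (V_sq hV hb)]

omit hz in
theorem Ns_comm {g v : G} (hg : g ∈ Ns S) (hv : v ∈ S.V) :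
    g * (S.i * v * S.i⁻¹) * g⁻¹ = S.i * (g * v * g⁻¹) * S.i⁻¹ := by
  have := V_comm hV (F_V hg.2.1) (conj_mem_of_mem_norm (NE_le_NV hV hg.1) hv)
  calc _ = S.i * (S.i⁻¹ * (g * S.i * g⁻¹) * (g * v * g⁻¹)) * (g * S.i * g⁻¹)⁻¹ := by group
    _ = _ := by rw [this]; group

theorem a_eq {g h : G} (hg : g ∈ Ns S) (hh : h ∈ Ns S)
    (e : g * S.x * g⁻¹ ∈ zpowers (h * S.x * h⁻¹)) : g * f S 3 * g⁻¹ = h * f S 3 * h⁻¹ := by
  have hk := mul_mem (inv_mem hh) hg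
  have hl : h⁻¹ * g ∈ S.L := memL (by
    obtain ⟨n, e⟩ := e
    exact ⟨n, by simp only [conj_zpow] at e; rw [mul_inv_rev, inv_inv, mul_assoc h⁻¹, mul_assoc h⁻¹,
      ← mul_assoc (g * _), ← e]; group⟩)
  have h1 : h⁻¹ * g * f S 13 * (h⁻¹ * g)⁻¹ ∈ S.F := by
    rw [← V_inf_C]
    refine ⟨conj_mem_of_mem_norm (NE_le_NV hV hk.1) (F_V (f_F (by decide))), ?_⟩
    have := F_le_C (f_F (S := S) (k := 13) (by decide))
    rw [C, ← centralizer_closure, ← zpowers_eq_closure] at this ⊢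
    exact conj_mem_of_le_norm (norm_centralizer le_rfl) hl this
  have h2 := phF hz h1
  rw [← Ns_comm hV hk (F_V (f_F (by decide))), conj_mul, ph13 hz, conj_eq_one_iff] at h2
  conv_rhs => rw [← h2.resolve_left (f_ne (by decide) (by decide))]
  group

end N3

namespace Loc

open N3

variable {G : Type*} [Group G] [Finite G] {S : Loc G}

theorem V_eq_F (hz : S.z = 1) : S.V = S.F := by
  by_contra hV
  let _ : CommGroup S.V :=
    { (inferInstance : Group S.V) with mul_comm := fun a b => Subtype.ext (V_comm hV a.2 b.2) }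
  obtain ⟨q, hq, qx, qy⟩ := exists_q hz
  have bL := lf_mem (S := S) bb
  have rb' := rh_lf (S := S) bb_mem.1
  generalize S.lf bb = b at bL rb'
  have bF : b ∈ normalizer (S.F : Set G) := (mem_NF bL).2 (rb' ▸ mem_Yb_elts.2.2.2.2.1)
  have bx : b * S.x = S.x * b := S.mem_C.1 (mem_C_iff.2 ⟨bL, rb' ▸ bb_mem⟩)
  have xN := NE_le_NV hV (le_normalizer x_mem_E)
  have yN := NE_le_NV hV (le_normalizer y_mem_E)
  have rN := NE_le_NV hV r_mem_NE
  have iN := NF_le_NV ((mem_NF i_mem).2 (rh_i (S := S) ▸ mem_Yb_elts.2.2.2.1))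
  have qN := NE_le_NV hV hq.1
  have aV : f S 3 ∈ S.V := F_V (f_F (by decide))
  have r3 : S.r * S.r = S.r⁻¹ := eq_inv_of_mul_eq_one_left (by rw [← pow_three', r_cube])
  have x3 : S.x * S.x = S.x⁻¹ := eq_inv_of_mul_eq_one_left (by rw [← pow_three', S.x_cube])
  have y3 : S.y * S.y = S.y⁻¹ := eq_inv_of_mul_eq_one_left (by rw [← pow_three', S.y_cube])
  have yx := y_x (S := S)
  have xa : S.x * f S 3 * S.x⁻¹ = f S 3 := by
    rw [← S.mem_C.1 (F_le_C (f_F (by decide))), mul_inv_cancel_right]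
  have yf : ∀ k < 16, S.y * f S k * S.y⁻¹ = f S (nthD tx 0 k) := fun k hk =>
    f_conj hz S.y_mem' (S.rh_y ▸ xb_ub hk)
  have fixU : ∀ g ∈ centralizer (S.U : Set G), ∀ u ∈ S.U, g * u * g⁻¹ = u := fun g hg u hu => by
    rw [← hg u hu, mul_inv_cancel_right]
  have EU : ∀ e ∈ S.E, e ∈ centralizer (S.U : Set G) := fun e he u hu => (U_cent hu e he).symm
  have hrq := mul_mem r_Ns hq
  have hrq' := mul_mem (inv_mem r_Ns) hq
  have rqx : S.r * q * S.x * (S.r * q)⁻¹ = (S.x⁻¹ * S.y)⁻¹ := by rw [← r_y, conj_inv, ← qx]; group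
  have rqx' : S.r⁻¹ * q * S.x * (S.r⁻¹ * q)⁻¹ = (S.x * S.y)⁻¹ := by
    rw [← ri_y, mul_inv_rev (_ * _), mul_inv_rev _ S.y, ← qx]; group
  have qqx : q * q * S.x * (q * q)⁻¹ = S.x⁻¹ := by
    rw [show q * q * S.x * (q * q)⁻¹ = q * (q * S.x * q⁻¹) * q⁻¹ by group, qx, ← conj_inv, qy]
  have qqy : q * q * S.y * (q * q)⁻¹ = S.y⁻¹ := by
    rw [show q * q * S.y * (q * q)⁻¹ = q * (q * S.y * q⁻¹) * q⁻¹ by group, qy, qx]
  have EF : S.E ≤ normalizer (S.F : Set G) := (closure_le _).2 (by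
    rintro _ (rfl | rfl)
    exacts [(mem_NF S.x_mem).2 (S.rh_x ▸ mem_Yb_elts.1), (mem_NF S.y_mem').2 (S.rh_y ▸ mem_Yb_elts.2.1)])
  have fU : ∀ k ∈ [0, 2, 4, 6], f S k ∈ S.U := fun k hk => mem_U.2 ⟨lf_mem _, k, hk, rh_f k⟩
  have alg : Alg S.V.normalizerMonoidHom ⟨_, xN⟩ ⟨_, yN⟩ ⟨_, rN⟩ ⟨_, iN⟩ ⟨q, qN⟩ ⟨b, NF_le_NV bF⟩
      ⟨_, aV⟩ (S.U.subgroupOf S.V) := by
    refine ⟨fun w => Subtype.ext (V_sq hV w.2), Subtype.ext r_x', Subtype.ext (mul_inv_eq_iff_eq_mul.2 bx),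
      Subtype.ext qy, Subtype.ext ?_, Subtype.ext xa, Subtype.ext (f_conj hz r_mem ?_),
      Subtype.ext (f_conj hz bL ?_), fun e => f_ne (by decide) (by decide) (congrArg Subtype.val e),
      Subtype.ext r3, Subtype.ext ?_, Subtype.ext (a_eq hz hV (g := q * (S.r * q)) (h := S.r⁻¹ * q) (mul_mem hq hrq) hrq' ?_),
      Subtype.ext (a_eq hz hV (g := q * (S.r⁻¹ * q)) (h := S.r * q) (mul_mem hq hrq') hrq ?_),
      fun u hu => Subtype.ext (fixU _ (EU _ x_mem_E) u hu),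
      fun u hu => Subtype.ext (fixU _ (EU _ y_mem_E) u hu),
      fun u hu => Subtype.ext (fixU _ (Good.i_cent_U (.inl hz)) u hu),
      fun u hu => conj_mem_of_mem_norm (NE_le_NU hq.1) hu,
      fun u hu => conj_mem_of_mem_norm (NE_le_NU r_mem_NE) hu,
      fun u hu => Subtype.ext (fixU (q * q) ?_ u hu), fun u hu => ?_,
      ⟨⟨_, F_V (f_F (k := 2) (by decide))⟩, fU 2 (by decide), ⟨_, F_V (f_F (k := 4) (by decide))⟩,
        fU 4 (by decide), fun e => f_ne (by decide) (by decide) (congrArg Subtype.val e),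
        fun e => f_ne (by decide) (by decide) (congrArg Subtype.val e),
        fun e => f_ne (k := 2 ^^^ 4) (by decide) (by decide)
          ((f_mul hz (by decide) (by decide)).symm.trans (congrArg Subtype.val e))⟩,
      Subtype.ext (Good.i_sq (.inl hz)), fun w => Subtype.ext (Ns_comm hV hq w.2), Subtype.ext i_r.symm,
      Subtype.ext (inj hz (mul_mem bL i_mem) (mul_mem i_mem bL) ?_), fun B hB w => ?_,
      ⟨⟨_, F_V (f_F (k := 13) (by decide))⟩, Subtype.ext (ph13 hz)⟩,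
      Subtype.ext (inj hz (mul_mem bL bL) (one_mem _) ?_), Subtype.ext (inj hz (mul_mem (mul_mem bL
        (mul_mem (mul_mem r_mem bL) (inv_mem r_mem))) (mul_mem (mul_mem (inv_mem r_mem) bL) r_mem))
        (one_mem _) ?_), fun ⟨h1, h2, h3⟩ => ?_⟩
    · change f S 3 * (S.y * f S 3 * S.y⁻¹) * (S.y⁻¹ * f S 3 * S.y⁻¹⁻¹) = 1
      rw [← y3, show S.y * S.y * f S 3 * (S.y * S.y)⁻¹ = S.y * (S.y * f S 3 * S.y⁻¹) * S.y⁻¹ by group,
        y3, yf 3 (by decide), yf _ (by decide), f_mul hz (by decide) (by decide),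
        f_mul hz (by decide) (by decide)]
      exact f_zero hz
    · rw [rh_r]; exact rb_ub (by decide)
    · rw [rb']; exact bb_ub (by decide)
    · simpa using a_eq hz hV (mul_mem hq hq) (one_mem _) (by rw [qqx]; simp)
    · rw [rqx', show q * (S.r * q) * S.x * (q * (S.r * q))⁻¹ = q * (S.r * q * S.x * (S.r * q)⁻¹) * q⁻¹ by
        group, rqx, ← conj_inv, ← conj_mul, ← conj_inv, qx, qy, inv_inv, yx]
      exact mem_zpowers _
    · rw [rqx, show q * (S.r⁻¹ * q) * S.x * (q * (S.r⁻¹ * q))⁻¹ =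
        q * (S.r⁻¹ * q * S.x * (S.r⁻¹ * q)⁻¹) * q⁻¹ by group, rqx', ← conj_inv, ← conj_mul, qx, qy,
        zpowers_inv, mul_inv_rev, inv_inv]
      exact mem_zpowers _
    · obtain ⟨u, hu, e, he, E⟩ := (mem_cent_E (g := S.i * (q * q))).1 (by
        rw [Loc.E, centralizer_closure]
        have k : ∀ e : G, q * q * e * (q * q)⁻¹ = e⁻¹ → S.i * e * S.i⁻¹ = e⁻¹ →
            e * (S.i * (q * q)) = S.i * (q * q) * e := fun e e1 e2 => by
          rw [← mul_inv_eq_iff_eq_mul.1 (show S.i * (q * q) * e * (S.i * (q * q))⁻¹ = e by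
            rw [show S.i * (q * q) * e * (S.i * (q * q))⁻¹ = S.i * (q * q * e * (q * q)⁻¹) * S.i⁻¹ by
              group, e1, ← conj_inv, e2, inv_inv])]
        rintro _ (rfl | rfl)
        exacts [k _ qqx i_x, k _ qqy i_y])
      rw [eq_inv_mul_iff_mul_eq.2 E]
      exact mul_mem (inv_mem (Good.i_cent_U (.inl hz)))
        (mul_mem (fun v hv => F_comm hv.1 hu.1) (EU e he))
    · obtain ⟨hl, k, hk, e⟩ := mem_U.1 hu
      have e' : (u : G) = f S k := inj hz hl (lf_mem _) (e.trans (rh_f k).symm)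
      have key : ∀ k ∈ [0, 2, 4, 6], k < 16 ∧ (nthD tb' 0 k = k ∨ nthD tb' 0 k = k ^^^ 3) := by
        decide +kernel
      have h1 := f_conj hz bL (rb' ▸ bb_ub (key k hk).1)
      refine (key k hk).2.imp (fun h => Subtype.ext ?_) fun h => Subtype.ext ?_
      · change b * u * b⁻¹ = u; rw [e', h1, h]
      · change b * u * b⁻¹ = u * f S 3; rw [e', h1, h, f_mul hz (key k hk).1 (by decide)]
    · change S.rh (b * S.i) = S.rh (S.i * b)
      rw [rh_mul bL i_mem, rh_mul i_mem bL, rb', rh_i, ib_bb]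
    · refine (mem_map_iff_mem S.V.subtype_injective).1 (V_le hV (B := B.map S.V.subtype)
        (fun g hg v hv => ?_) w.2)
      obtain ⟨e, he, hg'⟩ := exists_Ns hz hg
      have h1 : (e * g)⁻¹ * v * (e * g) ∈ S.F := by
        have := conj_mem_of_mem_norm' (EF (conj_mem_of_mem_norm' hg he)) (mem_cj.1 hv)
        rwa [show (g⁻¹ * e * g)⁻¹ * (g⁻¹ * v * g) * (g⁻¹ * e * g) = (e * g)⁻¹ * v * (e * g) by
          group] at this
      generalize e * g = k at hg' h1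
      have h2 := Ns_comm hV hg' (F_V h1)
      have h3 : k * (k⁻¹ * v * k) * k⁻¹ = v := by group
      have hv' : v ∈ S.V := h3 ▸ conj_mem_of_mem_norm (NE_le_NV hV hg'.1) (F_V h1)
      refine ⟨⟨v, hv'⟩, hB _ ?_, rfl⟩
      simp only [Subtype.ext_iff]
      change v * (S.i * v * S.i⁻¹) = 1 ∨ v * (S.i * v * S.i⁻¹) = f S 3 ∨
        v * (S.i * v * S.i⁻¹) = q * f S 3 * q⁻¹ ∨ v * (S.i * v * S.i⁻¹) = S.r * q * f S 3 * (S.r * q)⁻¹ ∨
        v * (S.i * v * S.i⁻¹) = S.r⁻¹ * q * f S 3 * (S.r⁻¹ * q)⁻¹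
      rw [← h3, ← h2, conj_mul]
      rcases phF hz h1 with E | E <;> rw [E]
      · simp
      rcases mem_E_cases (conj_mem_of_mem_norm hg'.1 x_mem_E) with H | ⟨j, hj, H⟩
      · exact .inr (.inl (by simpa using a_eq hz hV hg' (one_mem _) (by simpa using H)))
      have h4 := a_eq hz hV hg' (mul_mem (pow_mem r_Ns j) hq) (by
        rwa [show S.r ^ j * q * S.x * (S.r ^ j * q)⁻¹ = S.r ^ j * (q * S.x * q⁻¹) * (S.r ^ j)⁻¹ by group,
          qx, ← conj_inv, zpowers_inv])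
      rw [h4]
      interval_cases j
      · simp
      · simp
      · simp [sq, r3]
    · change S.rh (b * b) = S.rh 1
      rw [rh_mul bL bL, rb', bb_sq, rh_one]
    · change S.rh (b * (S.r * b * S.r⁻¹) * (S.r⁻¹ * b * S.r)) = S.rh 1
      rw [rh_mul (mul_mem bL (mul_mem (mul_mem r_mem bL) (inv_mem r_mem)))
        (mul_mem (mul_mem (inv_mem r_mem) bL) r_mem), rh_mul bL (mul_mem (mul_mem r_mem bL) (inv_mem r_mem)),
        rh_conj r_mem bL, rh_mul (mul_mem (inv_mem r_mem) bL) r_mem, rh_mul (inv_mem r_mem) bL,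
        rh_inv r_mem, rb', rh_r, bb_rb, rh_one]
    · have c : ∀ v : G, b * v * b⁻¹ = v → b * (S.x * v * S.x⁻¹) * b⁻¹ = S.x * v * S.x⁻¹ :=
        fun v e => by
          rw [← conj_mul, ← conj_mul, ← conj_inv, mul_inv_eq_iff_eq_mul.2 bx, e]
      have k : ∀ w w' : G, w * w' = 1 → b * (w' * (q * f S 3 * q⁻¹) * w'⁻¹) * b⁻¹ =
          w' * (q * f S 3 * q⁻¹) * w'⁻¹ → w * b * w' ∈ centralizer {q * f S 3 * q⁻¹} :=
        fun w w' e1 e2 => by
          rw [mem_centralizer_singleton_iff, eq_inv_of_mul_eq_one_left e1, ← mul_inv_eq_iff_eq_mul]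
          calc _ = w'⁻¹ * (b * (w' * (q * f S 3 * q⁻¹) * w'⁻¹) * b⁻¹) * w' := by group
            _ = _ := by rw [e2]; group
      have cx : ∀ g : G, g * S.x * g⁻¹ * (g * f S 3 * g⁻¹) * (g * S.x * g⁻¹)⁻¹ = g * f S 3 * g⁻¹ :=
        fun g => by conv_rhs => rw [← xa]
                    group
      have g1 : b * (q * f S 3 * q⁻¹) * b⁻¹ = q * f S 3 * q⁻¹ := congrArg Subtype.val h1
      have g2 := c (S.r * q * f S 3 * (S.r * q)⁻¹) (congrArg Subtype.val h2)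
      have g3 : b * (S.r⁻¹ * q * f S 3 * (S.r⁻¹ * q)⁻¹) * b⁻¹ = S.r⁻¹ * q * f S 3 * (S.r⁻¹ * q)⁻¹ :=
        congrArg Subtype.val h3
      have m1 := k (S.r * S.r * S.y * S.y) (S.y * S.r) (by rw [mul_assoc _ S.y S.y, r3, y3]; group) (by
        have e := cx (S.r * q)
        rw [rqx] at e
        have e' : S.y * (S.r * q * f S 3 * (S.r * q)⁻¹) * S.y⁻¹ =
            S.x * (S.r * q * f S 3 * (S.r * q)⁻¹) * S.x⁻¹ := by
          conv_lhs => rw [← e]
          group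
        rw [← e'] at g2
        convert g2 using 1 <;> group)
      have m2 := k S.r (S.r * S.r) (by rw [r3]; group) (by rw [r3]; convert g3 using 1 <;> group)
      have m3 := k (S.r * S.y) (S.y * S.y * (S.r * S.r)) (by rw [r3, y3]; group) (by
        have := c _ g3
        rw [← cx (S.r⁻¹ * q), rqx', ← yx] at this
        rw [r3, y3]; convert this using 1 <;> group)
      have m4 := k S.y (S.y * S.y) (by rw [y3]; group) (by rw [y3, ← qx, cx, g1])
      have m5 := mul_mem (mul_mem (mul_mem (mul_mem (mul_mem m1 m2) m3) m1) m4)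
        (mem_centralizer_singleton_iff.2 (mul_inv_eq_iff_eq_mul.1 g1))
      replace m5 : S.x ∈ centralizer {q * f S 3 * q⁻¹} := by
        convert m5 using 1
        refine inj hz S.x_mem
          (by repeat' first | exact bL | exact r_mem | exact S.y_mem' | apply mul_mem) ?_
        simp (disch := repeat' first | exact bL | exact r_mem | exact S.y_mem' | apply mul_mem)
          only [rh_mul]
        rw [rh_r, rh_y, rb', rh_x, om_word]
      rw [mem_centralizer_singleton_iff, ← qy, conj_mul, conj_mul,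
        mul_left_inj, mul_right_inj, ← mul_inv_eq_iff_eq_mul, yf 3 (by decide)] at m5
      refine f_ne (S := S) (k := nthD tx 0 3 ^^^ 3) (by decide) (by decide) ?_
      rw [← f_mul hz (by decide) (by decide), m5, f_mul hz (by decide) (by decide)]
      exact f_zero hz
  obtain ⟨ρ, hρ, φ, hφ, hf⟩ := alg.main
  obtain ⟨g, hg⟩ := exists_conj_x S (e := ρ) (by rw [orderOf_coe, hρ])
  have h1 := rank_C (A := cj g⁻¹ (S.V ⊓ centralizer {(ρ : G)})) (fun a ha => by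
      rw [mem_cj, inv_inv, ← hg] at ha
      have := mem_centralizer_singleton_iff.1 ha.2
      rwa [conj_mul, conj_mul, mul_left_inj, mul_right_inj, ← S.mem_C] at this)
    (fun a ha => by
      rw [mem_cj, inv_inv] at ha
      have := V_sq hV ha.1
      rwa [conj_mul, conj_eq_one_iff] at this) fun _ => hz
  have h2 := Nat.card_le_card_of_injective (β := ↥(S.V ⊓ centralizer {(ρ : G)}))
    (fun c => ⟨φ c, (φ c).2, mem_centralizer_singleton_iff.2
      (mul_inv_eq_iff_eq_mul.1 (congrArg Subtype.val (hf c))).symm⟩)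
    fun c c' e => hφ (Subtype.ext (congrArg Subtype.val e :))
  rw [card_cj] at h1
  have h3 := Nat.le_of_dvd (by decide) h1
  simp only [Nat.card_eq_fintype_card, Fintype.card_prod, Fintype.card_bool] at h2
  omega

end Loc

end Cfsg.Agent.J4R
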