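import Cfsg.Agent.J4R.NotF
import Cfsg.Agent.J4R.No3
import Cfsg.Agent.H35.PrimeOrder

/-! Project J4R (notes/J4R.md sections Quot and Simple). -/

set_option autoImplicit false
set_option linter.unusedSectionVars false

namespace Cfsg.Agent.J4R

open Subgroup Cfsg.Agent.H14 Cfsg.Agent.SGJ4 AG Cfsg.Agent.H80.J4 Cfsg.Agent.H70
open Cfsg.Agent.H92 (SylIn)

namespace Loc

variable {G : Type*} [Group G] [Finite G] {S : Loc G}

theorem z_ne_one (S : Loc G) : S.z ≠ 1 := fun hz => Good.V_ne_F (Or.inl hz) (V_eq_F hz)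

namespace QS

theorem x_ne : S.x ≠ 1 := fun e => by simpa [e] using S.ox

theorem eq_of_cube {a b : G} (hb : b ∈ S.L) (h1 : a ^ 3 = 1) (h2 : b ^ 3 = 1) (e : a = b ∨ a = b * S.z) :
    a = b := by
  rcases e with e | e
  · exact e
  · exact eq_of_odd (e ▸ mul_mem hb S.z_mem) hb (n := 3) (by decide) h1 h2 (by rw [e, rh_mul_z hb])

theorem pow4 {a g : G} (ha : a ∈ S.L) (h : a ^ 3 = 1) (e : g = a ∨ g = a * S.z) : g ^ 4 = a := by
  rcases e with rfl | rfl
  · rw [pow_succ, h, one_mul]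
  · rw [(show Commute a S.z from z_comm ha).mul_pow, pow_succ a, h, one_mul, show 4 = 2 * 2 from rfl,
      pow_mul, sq S.z, S.zz, one_pow, mul_one]

/-- the configuration in a quotient of `H` by `z` -/
theorem exists_quot {Γ : Type*} [Group Γ] [Finite Γ] (f : S.H →* Γ) (hf : Function.Surjective f)
    (hk : ∀ h, f h = 1 ↔ (h : G) = 1 ∨ (h : G) = S.z) (h0 : S.g0 ∈ S.H) : ∃ T : Loc Γ, T.z = 1 := by
  have : Fact (Nat.Prime 3) := ⟨by norm_num⟩
  let ψ : S.L →* Γ := f.comp (inclusion L_le_H)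
  let x : S.L := ⟨S.x, S.x_mem⟩
  have m : ∀ l, ψ l ∈ normalizer (zpowers (ψ x) : Set Γ) := fun l => by
    obtain ⟨n, e⟩ := H35.mem_normalizer_zpowers_iff.1 l.2
    refine H35.mem_normalizer_zpowers_iff.2 ⟨n, ?_⟩
    simp only [← map_zpow, ← map_inv, ← map_mul]
    exact congrArg ψ (Subtype.ext e)
  let φ := ψ.codRestrict _ m
  have sφ : Function.Surjective φ := by
    rintro ⟨g, hg⟩
    obtain ⟨h, rfl⟩ := hf g
    obtain ⟨n, e⟩ := H35.mem_normalizer_zpowers_iff.1 hg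
    refine ⟨⟨h, H35.mem_normalizer_zpowers_iff.2 ⟨n, (eq_of_cube (zpow_mem S.x_mem n) ?_ ?_ ?_).symm⟩⟩, rfl⟩
    · rw [conj_pow, S.x_cube, mul_one, mul_inv_cancel]
    · rw [← zpow_natCast, zpow_comm, zpow_natCast, S.x_cube, one_zpow]
    · have := (hk ((inclusion L_le_H x ^ n)⁻¹ * (h * inclusion L_le_H x * h⁻¹))).1 (by
        simp only [map_mul, map_inv, map_zpow]
        exact inv_mul_eq_one.2 e)
      exact this.imp (fun k => (inv_mul_eq_one.1 k).symm) fun k => inv_mul_eq_iff_eq_mul.1 k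
  have kφ : ∀ l, φ l = 1 ↔ S.ρ l = 1 := fun l => by
    rw [S.ker_ρ, Subtype.ext_iff]; exact hk _
  let ρ := φ.liftOfSurjective sφ ⟨S.ρ, fun l hl => (kφ l).1 hl⟩
  have eρ : ∀ l, ρ (φ l) = S.ρ l := MonoidHom.liftOfRightInverse_comp_apply _ _ _ _
  have ey : f ⟨S.g0, h0⟩ * ψ x * (f ⟨S.g0, h0⟩)⁻¹ = ψ ⟨_, S.y_mem⟩ := by
    simp only [ψ, MonoidHom.comp_apply, ← map_inv, ← map_mul]; rfl
  refine ⟨⟨ψ x, 1, f ⟨S.g0, h0⟩, ρ, orderOf_eq_prime ?_ fun e => ?_, one_mul _, one_mem _, ?_, fun l => ?_,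
    (eρ x).trans S.ρ_x, ey ▸ m _, (congrArg ρ (Subtype.ext ey)).trans ((eρ ⟨_, S.y_mem⟩).trans S.ρ_y)⟩, rfl⟩
  · rw [← map_pow, show x ^ 3 = 1 from Subtype.ext S.x_cube, map_one]
  · exact om_ne_one (S.ρ_x.symm.trans ((kφ x).1 (Subtype.ext e)))
  · rw [← S.range_ρ]
    refine le_antisymm ?_ ?_
    · rintro _ ⟨l, rfl⟩
      obtain ⟨l, rfl⟩ := sφ l
      exact ⟨l, (eρ l).symm⟩
    · rintro _ ⟨l, rfl⟩
      exact ⟨φ l, eρ l⟩
  · obtain ⟨l, rfl⟩ := sφ l
    rw [eρ, ← kφ, or_self, Subtype.ext_iff]; rfl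

theorem bar_cases (N : Subgroup G) [hN : N.Normal] :
    S.bar (N ⊓ S.C) ≤ zpowers om ∨ S.bar (N ⊓ S.C) = X0 := by
  refine normal_cases (fun b hb => ?_) (le_norm_iff_cj.2 fun a ha => cj_le_iff.2 fun b hb => ?_)
  · obtain ⟨g, h1, -, rfl⟩ := mem_bar.1 hb
    exact (mem_C_iff.1 h1.2).2
  · obtain ⟨g, h1, h2, rfl⟩ := mem_bar.1 hb
    have hc : S.lf a ∈ S.C := mem_C_iff.2 ⟨lf_mem a, by rwa [rh_lf ha.1]⟩
    rw [← rh_lf (S := S) ha.1, ← rh_conj (lf_mem a) h2]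
    exact rh_mem_bar ⟨hN.conj_mem g h1.1 _, S.C.mul_mem (S.C.mul_mem hc h1.2) (S.C.inv_mem hc)⟩
      (mul_mem (mul_mem (lf_mem a) h2) (inv_mem (lf_mem a)))

theorem over_om {g : G} (hg : g ∈ S.L) (h : S.rh g ∈ zpowers om) :
    ∃ a ∈ zpowers S.x, a ^ 3 = 1 ∧ (g = a ∨ g = a * S.z) := by
  obtain ⟨n, e⟩ := mem_powers_iff_mem_zpowers.2 h
  exact ⟨S.x ^ n, pow_mem (mem_zpowers _) n, by rw [← pow_mul, mul_comm, pow_mul, S.x_cube, one_pow],
    (rh_eq_iff hg (pow_mem S.x_mem n)).1 (by rw [rh_pow S.x_mem, rh_x]; exact e.symm)⟩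

theorem norm_le {P : Subgroup G} (hP : P ≤ S.C) (hc : Nat.card P = 27) (hx : S.x ∈ P) :
    normalizer (P : Set G) ≤ S.L := fun h hh => by
  have m := conj_mem_of_mem_norm hh hx
  refine H35.mem_normalizer_zpowers_iff.2 ((three_C (hP m) (by
    rw [conj_pow, S.x_cube, mul_one, mul_inv_cancel])).resolve_right ?_)
  rintro ⟨c, hc', e⟩
  have : cj c P ≤ S.E := cj_le_iff.2 fun a ha => by
    obtain ⟨u, hu, b, hb, k⟩ := (mem_cent_E (g := c * a * c⁻¹)).1 (by
      rw [E, centralizer_closure]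
      rintro _ (rfl | rfl)
      · exact (S.mem_C.1 (mul_mem (mul_mem hc' (hP ha)) (inv_mem hc'))).symm
      · have := S.mem_C.1 (hP (conj_mem_of_mem_norm' hh ha))
        rw [← e]
        calc _ = c * h * (S.x * (h⁻¹ * a * h)) * h⁻¹ * c⁻¹ := by group
          _ = _ := by rw [← this]; group)
    have u2 := F_sq hu.1
    have cm : Commute u b := by
      have : u ∈ centralizer (S.E : Set G) := mem_cent_E.2 ⟨u, hu, 1, one_mem _, (mul_one u).symm⟩
      exact (this b hb).symm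
    have p : (c * a * c⁻¹) ^ 27 = 1 := by
      rw [conj_pow, show a ^ 27 = 1 from congrArg Subtype.val (hc ▸ pow_card_eq_one' (x := (⟨a, ha⟩ : P))),
        mul_one, mul_inv_cancel]
    rw [k, cm.mul_pow, show 27 = 3 * 9 from rfl, pow_mul b, E_cube hb, one_pow, mul_one,
      show 3 * 9 = 2 * 13 + 1 from rfl, pow_succ, pow_mul, pow_two, u2, one_pow, one_mul] at p
    rwa [k, p, one_mul]
  have := card_le_of_le this
  rw [card_cj, hc, card_E] at this
  omega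

end QS

open QS

theorem zy_ne (S : Loc G) : S.zy ≠ S.z := fun e => by
  have : ((zpowers S.z).subgroupOf S.H).Normal := ⟨fun a ha g => by
    have c : Commute (g : G) a := by
      obtain ⟨n, e⟩ := ha
      exact (show S.z ^ n = (a : G) from e) ▸ Commute.zpow_right (S.mem_H.1 g.2) n
    rwa [mem_subgroupOf, coe_mul, coe_mul, c.eq, coe_inv, mul_inv_cancel_right]⟩
  obtain ⟨T, k⟩ := exists_quot (QuotientGroup.mk' ((zpowers S.z).subgroupOf S.H))
    (QuotientGroup.mk'_surjective _) (fun h => (QuotientGroup.eq_one_iff h).trans mem_zpowers_z)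
    (S.mem_H.2 (mul_inv_eq_iff_eq_mul.1 e))
  exact T.z_ne_one k

theorem simple (S : Loc G) (hp : ⁅S.C, S.C⁆ = S.C) : IsSimpleGroup G := by
  have : Fact (Nat.Prime 3) := ⟨by norm_num⟩
  have : Nontrivial G := ⟨⟨_, _, x_ne (S := S)⟩⟩
  refine ⟨fun N hN => ?_⟩
  by_cases h3 : 3 ∣ Nat.card N
  swap
  · have t : ∀ a ∈ N, a ^ 3 = 1 → a = 1 := fun a ha e => by_contra fun k =>
      h3 (orderOf_eq_prime e k ▸ N.orderOf_dvd_natCard ha)
    have k : ∀ g ∈ N ⊓ S.C, g = 1 ∨ g = S.z := fun g hg => by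
      rcases bar_cases (S := S) N with e | e
      · obtain ⟨a, ha, a3, k⟩ := over_om (S.C_le_L hg.2) (e (rh_mem_bar hg (S.C_le_L hg.2)))
        simpa [t a (pow4 (zpowers_le.2 S.x_mem ha) a3 k ▸ pow_mem hg.1 4) a3] using k
      · obtain ⟨a, ha, hl, e⟩ := mem_bar.1 (e.ge om_mem_X0)
        exact absurd (t _ (pow4 S.x_mem S.x_cube ((rh_eq_iff hl S.x_mem).1 (e.trans S.rh_x.symm)) ▸
          pow_mem ha.1 4) S.x_cube) x_ne
    left
    by_cases hz : S.z ∈ N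
    · refine ((k S.zy ⟨hN.conj_mem _ hz _, S.mem_C.2 ?_⟩).elim
        (fun e => S.z_ne_one (conj_eq_one_iff.1 e)) S.zy_ne).elim
      have := z_comm (S.C_le_L (S.mem_C.2 (show S.g0⁻¹ * S.x * S.g0 * S.x = S.x * (S.g0⁻¹ * S.x * S.g0) by
        calc _ = S.g0⁻¹ * (S.x * S.y) * S.g0 := by rw [y]; group
          _ = _ := by rw [← y_x, y]; group)))
      calc _ = S.g0 * (S.z * (S.g0⁻¹ * S.x * S.g0)) * S.g0⁻¹ := by rw [zy]; group
        _ = _ := by rw [← this, zy]; group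
    · refine eq_bot_iff.2 (le_of_gen (S := S) h3 norm_of_normal fun g _ a ha => ?_)
      have := (k (g⁻¹ * a * g) ⟨hN.conj_mem' a ha.1 g, S.mem_C.2 (by
        have := mem_centralizer_singleton_iff.1 ha.2
        calc _ = g⁻¹ * (a * (g * S.x * g⁻¹)) * g := by group
          _ = _ := by rw [this]; group)⟩).resolve_right fun e => hz (e ▸ hN.conj_mem' a ha.1 g)
      rw [mem_bot, ← conj_eq_one_iff (a := g⁻¹), inv_inv, this]
  right
  obtain ⟨e, he⟩ := exists_prime_orderOf_dvd_card' 3 h3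
  obtain ⟨g, hg⟩ := S.exists_conj_x ((orderOf_coe e).trans he)
  have xN : S.x ∈ N := by simpa [← hg, mul_assoc] using hN.conj_mem' _ e.2 g
  have b := (bar_cases (S := S) N).resolve_left fun k => by
    obtain ⟨a, ha, a3, k⟩ := over_om S.y_mem' (k (rh_mem_bar ⟨hN.conj_mem _ xN _, y_mem_C⟩ S.y_mem'))
    exact y_not_mem (eq_of_cube (zpowers_le.2 S.x_mem ha) S.y_cube a3 k ▸ ha)
  have dec : ∀ c ∈ S.C, ∃ n ∈ N ⊓ S.C, c = n ∨ c = n * S.z := fun c hc => by
    obtain ⟨n, hn, hl, e⟩ := mem_bar.1 (b.ge (mem_C_iff.1 hc).2)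
    exact ⟨n, hn, (rh_eq_iff (S.C_le_L hc) hl).1 e.symm⟩
  have CN : S.C ≤ N := hp.ge.trans (commutator_le.2 fun c hc d hd => by
    obtain ⟨n, hn, rfl | rfl⟩ := dec c hc
    · exact commutator_le_left N ⊤ (commutator_mem_commutator hn.1 (mem_top d))
    · rw [commutatorElement_mul_left_eq_conj_mul, commutatorElement_eq_one_iff_mul_comm.2
        (z_comm (S.C_le_L hd)).symm, mul_one, mul_inv_cancel, one_mul]
      exact commutator_le_left N ⊤ (commutator_mem_commutator hn.1 (mem_top d)))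
  have LN : S.L ≤ N := fun l hl => by
    by_cases hc : l ∈ S.C
    · exact CN hc
    obtain ⟨c, hc', e⟩ := (three_C (S := S) (inv_mem y_mem_C) (by rw [inv_pow, S.y_cube, inv_one])).resolve_left
      fun k => y_not_mem (inv_mem_iff.1 k)
    refine (N.mul_mem_cancel_left (hN.conj_mem' c (CN hc') S.g0)).1 (CN (S.mem_C.2 ?_))
    calc _ = S.g0⁻¹ * (c * (S.g0 * (l * S.x * l⁻¹) * S.g0⁻¹) * c⁻¹) * c * S.g0 * l := by group
      _ = _ := by rw [inv_of_not_mem_C hl hc, ← conj_inv, ← y, e, y]; group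
  obtain ⟨P, hP⟩ := Sylow.exists_subgroup_card_pow_prime 3 (G := S.C) (n := 3) (by
    rw [← pre_X0, card_pre X0_le_X, card_X0]; exact Dvd.dvd.mul_left (by norm_num) _)
  have cP : Nat.card (P.map S.C.subtype) = 27 := (card_map_of_injective S.C.subtype_injective).trans hP
  have PC := map_subtype_le P
  have syl : SylIn 3 (P.map S.C.subtype) ⊤ := H92.sylIn_of_not_dvd_relIndex le_top
    (IsPGroup.of_card (n := 3) cP) fun k => S.not_81 (by
      rw [relIndex_top_right] at k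
      rw [← (P.map S.C.subtype).card_mul_index, cP]
      exact Nat.mul_dvd_mul_left 27 k)
  have xP : S.x ∈ P.map S.C.subtype := le_sylIn_of_norm' syl le_top
    (IsPGroup.of_card (n := 1) (by rw [Nat.card_zpowers, S.ox, pow_one]))
    (norm_of_cent (zpowers_le.2 fun a ha => S.mem_C.1 (PC ha))) (mem_zpowers _)
  have := frattini_arg (syl.mono (PC.trans CN) le_top) le_top norm_of_normal
  exact eq_top_iff.2 (this.ge.trans (sup_le le_rfl (inf_le_right.trans ((norm_le PC cP xP).trans LN))))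

end Loc

end Cfsg.Agent.J4R
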