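import Cfsg.Agent.J4R.ES
import Cfsg.Agent.H49.Hall

set_option autoImplicit false

namespace Cfsg.Agent.J4R

open Subgroup Cfsg.Agent.H14 Cfsg.Agent.SGJ4 AG Cfsg.Agent.H80.J4 Cfsg.Agent.H70

namespace Loc

variable {G : Type*} [Group G] [Finite G] {S : Loc G}

variable {Q : Subgroup G}

theorem QD.rep3 (hQ : S.QD Q) {e : G} (he : e ∈ Q ⊔ S.L) (o : orderOf e = 3) :
    ∃ k ∈ Q ⊔ S.L, k * e * k⁻¹ = S.x ∨ k * e * k⁻¹ = S.y := by
  have := Fact.mk Nat.prime_two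
  have hn : Q ⊔ S.L ≤ normalizer (Q : Set G) := sup_le le_normalizer hQ.norm
  obtain ⟨m, hm⟩ := hQ.two.exists_card_eq
  obtain ⟨n, hn1, hn2⟩ := H49.sz_subJ (A := zpowers e) (N := Q) (H := S.L) (zpowers_le.2 (hn he))
    (by rw [Nat.card_zpowers, o, hm]; exact Nat.Coprime.pow_right _ (by decide))
    (Or.inl (H49.solvable_of_abelian inferInstance)) hQ.norm (zpowers_le.2 he)
  have h1 : n * e * n⁻¹ ∈ S.L := hn2 (H49.conj_mem_cj.2 (mem_zpowers e))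
  have o1 : orderOf (n * e * n⁻¹) = 3 := by rw [← MulAut.conj_apply, MulEquiv.orderOf_eq, o]
  have h3 : (n * e * n⁻¹) ^ 3 = 1 := by rw [← o1, pow_orderOf_eq_one]
  rcases three_C (mem_C_of_odd h1 (by decide) h3) h3 with k | ⟨c, hc, k⟩
  · obtain ⟨j, hj, e1⟩ : ∃ j < 3, S.x ^ j = n * e * n⁻¹ := by
      obtain ⟨j, hj⟩ := mem_powers_iff_mem_zpowers.2 k
      exact ⟨j % 3, Nat.mod_lt _ (by decide), by rw [← hj, ← S.ox, pow_mod_orderOf]⟩
    interval_cases j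
    · rw [← e1, pow_zero, orderOf_one] at o1
      exact absurd o1 (by decide)
    · exact ⟨n, mem_sup_left hn1, Or.inl (by rw [← e1, pow_one])⟩
    · refine ⟨S.i * n, mul_mem (mem_sup_right i_mem) (mem_sup_left hn1), Or.inl ?_⟩
      calc S.i * n * e * (S.i * n)⁻¹ = S.i * (n * e * n⁻¹) * S.i⁻¹ := by group
        _ = S.x := by
          rw [← e1, ← conj_pow, i_x, inv_pow, inv_eq_iff_mul_eq_one, ← pow_succ, S.x_cube]
  · exact ⟨c * n, mul_mem (mem_sup_right (S.C_le_L hc)) (mem_sup_left hn1),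
      Or.inr (by rw [← k]; group)⟩

theorem QD.norm_y (hQ : S.QD Q) (h : S.zy ≠ S.z) :
    S.H ⊓ normalizer (zpowers S.y : Set G) ≤ Q ⊔ S.L := by
  have z1 : S.z ≠ 1 := fun e => h (by rw [zy, e]; group)
  set M := S.H ⊓ normalizer (zpowers S.y : Set G) with hM
  have uC : S.g0⁻¹ * S.z * S.g0 ∈ S.C := S.mem_C.2 (by
    have := z_comm (S := S) S.y_mem'
    rw [y] at this
    calc S.g0⁻¹ * S.z * S.g0 * S.x = S.g0⁻¹ * (S.z * (S.g0 * S.x * S.g0⁻¹)) * S.g0 := by group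
      _ = _ := by rw [← this]; group)
  have uL := S.C_le_L uC
  have c1 : Nat.card M ≤ 4608 := by
    have u2 : S.rh (S.g0⁻¹ * S.z * S.g0) * S.rh (S.g0⁻¹ * S.z * S.g0) = 1 := by
      rw [← rh_mul uL uL, show S.g0⁻¹ * S.z * S.g0 * (S.g0⁻¹ * S.z * S.g0) =
        S.g0⁻¹ * (S.z * S.z) * S.g0 by group, S.zz, mul_one, inv_mul_cancel, rh_one]
    have u1 : S.rh (S.g0⁻¹ * S.z * S.g0) ≠ 1 := fun e => by
      rcases (rh_eq_one uL).1 e with k | k
      · exact z1 (conj_eq_one_iff.1 (by rw [inv_inv]; exact k : S.g0⁻¹ * S.z * S.g0⁻¹⁻¹ = 1))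
      · exact h (by rw [zy]; nth_rewrite 1 [← k]; group)
    have k1 := card_pre (S := S) (inf_le_left : X ⊓ centralizer {S.rh (S.g0⁻¹ * S.z * S.g0)} ≤ X)
    rw [(card_cent_inv (mem_C_iff.1 uC).2 u2 u1).1, oz z1] at k1
    rw [← card_cj S.g0⁻¹ M]
    refine (card_le_of_le (cj_le_iff.2 fun m hm => ?_)).trans k1.le
    have mL : S.g0⁻¹ * m * S.g0⁻¹⁻¹ ∈ S.L := by
      have := conj_mem_cj S.g0⁻¹ hm.2
      rwa [cj_normalizer, show cj S.g0⁻¹ (zpowers S.y) = zpowers S.x from by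
        rw [cj, MonoidHom.map_zpowers]
        congr 1
        change S.g0⁻¹ * (S.g0 * S.x * S.g0⁻¹) * S.g0⁻¹⁻¹ = _
        group] at this
    refine mem_pre.2 ⟨mL, rh_mem _, mem_centralizer_singleton_iff.2 ?_⟩
    rw [← rh_mul mL uL, ← rh_mul uL mL]
    congr 1
    calc _ = S.g0⁻¹ * (m * S.z) * S.g0 := by group
      _ = _ := by rw [S.mem_H.1 hm.1]; group
  have k2 := card_pre (S := S) (inf_le_left : X ⊓ normalizer (zpowers xb : Set AG) ≤ X)
  rw [card_norm_xb, oz z1] at k2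
  have hA : Q ⊓ centralizer {S.y} ≤ M ⊓ (Q ⊔ S.L) := le_inf (le_inf (inf_le_left.trans hQ.le_H)
    (inf_le_right.trans (by
      rw [← centralizer_closure, ← zpowers_eq_closure]; exact centralizer_le_normalizer _)))
    (inf_le_left.trans le_sup_left)
  have hB : S.pre (X ⊓ normalizer (zpowers xb : Set AG)) ≤ M ⊓ (Q ⊔ S.L) := fun g hg => by
    obtain ⟨gL, -, hn⟩ := mem_pre.1 hg
    refine ⟨⟨L_le_H gL, mem_normalizer_of_cj_le ?_⟩, mem_sup_right gL⟩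
    rw [cj, MonoidHom.map_zpowers, zpowers_le]
    obtain ⟨j, hj⟩ := mem_powers_iff_mem_zpowers.2 (conj_mem_of_mem_norm hn (mem_zpowers xb))
    have : g * S.y * g⁻¹ = S.y ^ j := conj_three gL S.y_mem' (pow_mem S.y_mem' j) S.y_cube
      (by rw [← pow_mul, mul_comm, pow_mul, S.y_cube, one_pow])
      (by rw [rh_pow S.y_mem', rh_y]; exact hj.symm)
    change g * S.y * g⁻¹ ∈ _
    rw [this]
    exact npow_mem_zpowers S.y j
  have k3 := H49.card_mul_le hA hB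
  have k4 : Nat.card ↥(Q ⊓ centralizer {S.y} ⊓ S.pre (X ⊓ normalizer (zpowers xb : Set AG))) ≤ 2 := by
    rw [← oz z1, ← Nat.card_zpowers]
    exact card_le_of_le ((inf_le_inf inf_le_left (pre_le_L _)).trans (normal_two inf_le_right
      (hQ.two.to_le inf_le_left) (norm_inf (S.C_le_L.trans hQ.norm) (norm_of_le S.C_le_L))))
  rw [hQ.card_inf h, k2] at k3
  have k5 := k3.trans (Nat.mul_le_mul_left _ k4)
  exact inf_eq_left.1 (eq_of_le_of_card_ge inf_le_left (by omega))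

theorem QD.strong (hQ : S.QD Q) (h : S.zy ≠ S.z) {g e : G} (hg : g ∈ S.H) (he : e ∈ Q ⊔ S.L)
    (o : orderOf e = 3) (h' : g * e * g⁻¹ ∈ Q ⊔ S.L) : g ∈ Q ⊔ S.L := by
  have hle : Q ⊔ S.L ≤ S.H := sup_le hQ.le_H L_le_H
  obtain ⟨k, hk, e1⟩ := hQ.rep3 he o
  obtain ⟨k', hk', e2⟩ := hQ.rep3 h' (by rw [← MulAut.conj_apply, MulEquiv.orderOf_eq, o])
  have hm : k' * g * k⁻¹ ∈ S.H := mul_mem (mul_mem (hle hk') hg) (inv_mem (hle hk))
  have e3 : k' * g * k⁻¹ * (k * e * k⁻¹) * (k' * g * k⁻¹)⁻¹ = k' * (g * e * g⁻¹) * k'⁻¹ := by group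
  suffices k' * g * k⁻¹ ∈ Q ⊔ S.L by
    simpa [mul_assoc] using mul_mem (mul_mem (inv_mem hk') this) hk
  generalize k' * g * k⁻¹ = m at hm e3
  have xy : ∀ m ∈ S.H, m * S.x * m⁻¹ ≠ S.y := fun m hm e => h (by
    rw [zy, ← z_conj_eq (g := m) (by rw [e]; exact mem_zpowers _), S.mem_H.1 hm,
      mul_inv_cancel_right])
  rcases e1 with e1 | e1 <;> rcases e2 with e2 | e2 <;> rw [e1, e2] at e3
  · exact mem_sup_right (S.C_le_L (S.mem_C.2 (mul_inv_eq_iff_eq_mul.1 e3)))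
  · exact absurd e3 (xy m hm)
  · exact absurd (by rw [← e3]; group) (xy _ (inv_mem hm))
  · refine hQ.norm_y h ⟨hm, mem_normalizer_of_cj_le ?_⟩
    rw [cj, MonoidHom.map_zpowers, zpowers_le]
    change m * S.y * m⁻¹ ∈ _
    rw [e3]
    exact mem_zpowers _

end Loc

end Cfsg.Agent.J4R
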