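/- Project J4R, section NHat: the group `V`. -/
import Cfsg.Agent.J4R.Basic
import Mathlib.GroupTheory.Transfer

set_option autoImplicit false
set_option linter.unusedSectionVars false

namespace Cfsg.Agent.J4R

open Subgroup Cfsg.Agent.H14 Cfsg.Agent.SGJ4 AG Cfsg.Agent.H80.J4 Cfsg.Agent.H70

namespace Loc

variable {G : Type*} [Group G] [Finite G] {S : Loc G}

namespace NH

theorem F_le_K : S.F ≤ centralizer (S.F : Set G) := fun _ hf _ hg => F_comm hg hf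

theorem x_mem_K : S.x ∈ centralizer (S.F : Set G) := fun _ hg => S.mem_C.1 (F_le_C hg)

theorem x_ne_one : S.x ≠ 1 := fun e => by have := S.ox; rw [e, orderOf_one] at this; omega

theorem x_ne_inv : S.x⁻¹ ≠ S.x := fun e => x_ne_one (S := S) (by
  have := S.x_cube
  rwa [pow_three, show S.x * S.x = 1 from mul_eq_one_iff_inv_eq.2 e, mul_one] at this)

theorem i_not_mem_C : S.i ∉ S.C := fun h => x_ne_inv (S := S) (by
  rw [← i_x, S.mem_C.1 h, mul_inv_cancel_right])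

theorem cent_F_L {g : G} (hl : g ∈ S.L) (h : g ∈ centralizer (S.F : Set G)) :
    ∃ f ∈ S.F, ∃ n : ℕ, g = f * S.x ^ n := by
  obtain ⟨k, hk, n, e⟩ := cent_Ub (rh_mem g) fun u hu => by
    have h1 := lf_mem_pre (S := S) (Ub_le_X hu) hu
    rw [← rh_lf (S := S) (Ub_le_X hu), ← rh_mul hl (lf_mem _), ← h _ h1, rh_mul (lf_mem _) hl]
  refine ⟨g * (S.x ^ n)⁻¹, mem_F.2 ⟨mul_mem hl (inv_mem (pow_mem S.x_mem n)), k, hk, ?_⟩, n, by group⟩
  rw [rh_mul hl (inv_mem (pow_mem S.x_mem n)), rh_inv (pow_mem S.x_mem n), rh_pow S.x_mem, rh_x, e,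
    mul_inv_cancel_right]

theorem isP_x : IsPGroup 3 (zpowers S.x) :=
  IsPGroup.of_card (n := 1) (by rw [Nat.card_zpowers, S.ox, pow_one])

theorem syl_x : H92.SylIn 3 (zpowers S.x) (centralizer (S.F : Set G)) := by
  haveI : Fact (Nat.Prime 3) := ⟨Nat.prime_three⟩
  refine ⟨zpowers_le.2 x_mem_K, isP_x, fun Q hQ h3 hle =>
    (eq_of_inf_norm_le h3 hle fun g hg => ?_).symm⟩
  obtain ⟨f, hf, n, e⟩ := cent_F_L hg.2 (hQ hg.1)
  have h1 : f ∈ Q := (Q.mul_mem_cancel_right (hle (pow_mem (mem_zpowers _) n))).1 (e ▸ hg.1)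
  obtain ⟨k, hk⟩ := isPGroup_iff_mem.1 h3 f h1
  have : f = 1 := eq_of_odd (S.C_le_L (F_le_C hf)) (one_mem _) (n := 1) odd_one (by
    obtain ⟨m, hm⟩ : Odd (3 ^ k) := Odd.pow (by decide)
    rwa [hm, pow_succ, pow_mul, sq, F_sq hf, one_pow, one_mul, ← pow_one f] at hk) (by simp) (by
    obtain ⟨m, hm⟩ : Odd (3 ^ k) := Odd.pow (by decide)
    rw [hm, pow_succ, pow_mul, sq, F_sq hf, one_pow, one_mul] at hk; rw [hk])
  rw [e, this, one_mul]
  exact pow_mem (mem_zpowers _) n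

theorem not_three : ¬ 3 ∣ Nat.card (pResidualOf 3 (centralizer (S.F : Set G))) := by
  haveI : Fact (Nat.Prime 3) := ⟨Nat.prime_three⟩
  set K := centralizer (S.F : Set G)
  let P := (syl_x (S := S)).toSylow
  have hP : normalizer (P : Set K) ≤ centralizer (P : Set K) := fun g hg a ha => by
    have h1 : (g : G) ∈ S.L := mem_normalizer_of_cj_le (cj_le_iff.2 fun b hb =>
      (mem_normalizer_iff.1 hg ⟨b, zpowers_le.2 x_mem_K hb⟩).1 hb)
    obtain ⟨f, hf, n, e⟩ := cent_F_L h1 g.2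
    have h2 : (g : G) ∈ S.C := e ▸ mul_mem (F_le_C hf) (pow_mem (S.mem_C.2 rfl) n)
    obtain ⟨m, hm⟩ : (a : G) ∈ zpowers S.x := ha
    exact Subtype.ext (by
      change (a : G) * g = g * a
      rw [← hm]; exact ((show Commute (g : G) S.x from S.mem_C.1 h2).zpow_right m).eq.symm)
  refine fun hd => MonoidHom.not_dvd_card_ker_transferSylow P hP (hd.trans ?_)
  rw [← card_map_of_injective K.subtype_injective]
  refine card_dvd_of_le (pRes_le_iff.2 fun x hx hc => ⟨⟨x, hx⟩, ?_, rfl⟩)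
  obtain ⟨k, hk⟩ := P.isPGroup' (MonoidHom.transferSylow P hP ⟨x, hx⟩)
  refine orderOf_eq_one_iff.1 (Nat.eq_one_of_dvd_coprimes (hc.pow_right k)
    ((orderOf_map_dvd _ _).trans (by rw [← orderOf_coe])) (orderOf_dvd_of_pow_eq_one hk))

theorem mem_N_of_two {g : G} (hg : g ∈ centralizer (S.F : Set G)) {n : ℕ} (h : g ^ 2 ^ n = 1) :
    g ∈ pResidualOf 3 (centralizer (S.F : Set G)) :=
  mem_pRes hg ((Nat.Coprime.pow_left n (by decide)).coprime_dvd_left (orderOf_dvd_of_pow_eq_one h))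

theorem E_le_NF : S.E ≤ normalizer (S.F : Set G) := (closure_le _).2 (by
  rintro _ (rfl | rfl)
  · exact (mem_NF S.x_mem).2 (S.rh_x ▸ mem_Yb_elts.1)
  · exact (mem_NF S.y_mem').2 (S.rh_y ▸ mem_Yb_elts.2.1))

theorem r_mem_NF : S.r ∈ normalizer (S.F : Set G) :=
  (mem_NF r_mem).2 (rh_r (S := S) ▸ mem_Yb_elts.2.2.1)

theorem U_le_F : S.U ≤ S.F := inf_le_left

/-- transport of an element of `C(F)` commuting with a conjugate of `x` -/
theorem conj_mem {g a : G} (hg : g ∈ normalizer (S.E : Set G)) (ha : a ∈ centralizer (S.F : Set G))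
    (hc : a ∈ centralizer {g * S.x * g⁻¹}) :
    g⁻¹ * a * g ∈ S.C ∧ g⁻¹ * a * g ∈ centralizer (S.U : Set G) := by
  refine ⟨S.mem_C.2 ?_, conj_mem_of_mem_norm' (norm_centralizer NE_le_NU hg) (cent_anti U_le_F ha)⟩
  calc g⁻¹ * a * g * S.x = g⁻¹ * (a * (g * S.x * g⁻¹)) * g := by group
    _ = _ := by rw [mem_centralizer_singleton_iff.1 hc]; group

theorem isP_E : IsPGroup 3 S.E := IsPGroup.of_card (n := 2) card_E

theorem isP_N : IsPGroup 2 (pResidualOf 3 (centralizer (S.F : Set G))) := by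
  haveI : Fact (Nat.Prime 3) := ⟨Nat.prime_three⟩
  have hn : S.E ≤ normalizer (pResidualOf 3 (centralizer (S.F : Set G)) : Set G) :=
    norm_pRes (norm_centralizer E_le_NF)
  refine IsPGroup.of_card (Nat.eq_prime_pow_of_unique_prime_dvd Nat.card_pos.ne'
    fun {q} hq hd => by_contra fun h2 => ?_)
  haveI : Fact q.Prime := ⟨hq⟩
  have h3 : q ≠ 3 := fun e => not_three (e ▸ hd)
  obtain ⟨Q, -, hQ⟩ := H46.exists_invariant_sylow_ge isP_E not_three hn q (R := ⊥) IsPGroup.of_bot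
    bot_le (by rw [normalizer_eq_top]; exact le_top)
  refine Q.ne_bot_of_dvd_card hd (map_subtype_eq_bot_iff.1 (eq_bot_iff.2 (le_of_gen
    (fun h => not_three (h.trans (card_dvd_of_le (map_subtype_le _)))) hQ fun g hg a ha => ?_)))
  obtain ⟨h4, h5⟩ := conj_mem hg (pRes_le _ (map_subtype_le _ ha.1)) ha.2
  obtain ⟨k, hk⟩ := isPGroup_iff_mem.1 (Q.isPGroup'.map _) a ha.1
  have h6 : (g⁻¹ * a * g) ^ 6 = 1 := by
    obtain ⟨f, hf, e, he, h | h⟩ := mem_L_cent_U (S.C_le_L h4) h5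
    · have := pow_mul_inv_mem_of_norm hf (E_le_NF he) 3
      rw [E_cube he, inv_one, mul_one, ← h] at this
      rw [show 6 = 3 + 3 from rfl, pow_add, F_sq this]
    · exact absurd ((S.C.mul_mem_cancel_left (mul_mem (F_le_C hf) (E_le_C he))).1 (h ▸ h4))
        i_not_mem_C
  have h7 : a ^ 6 = 1 := by
    have := conj_pow (a := g⁻¹) (b := a) (i := 6)
    rw [inv_inv, h6] at this
    have := conj_eq_one_iff.1 (show g⁻¹ * a ^ 6 * g⁻¹⁻¹ = 1 by rw [inv_inv, ← this])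
    exact this
  refine mem_bot.2 (orderOf_eq_one_iff.1 (Nat.eq_one_of_dvd_coprimes (Nat.Coprime.pow_left k ?_)
    (orderOf_dvd_of_pow_eq_one hk) (orderOf_dvd_of_pow_eq_one h7)))
  exact (Nat.Coprime.mul_right ((Nat.coprime_primes hq Nat.prime_two).2 h2)
    ((Nat.coprime_primes hq Nat.prime_three).2 h3) : q.Coprime (2 * 3))

theorem isP_V : IsPGroup 2 S.V := pCoreOf_isPGroup _

theorem V_le_K : S.V ≤ centralizer (S.F : Set G) := pCoreOf_le _

theorem N_eq : pResidualOf 3 (centralizer (S.F : Set G)) = S.V :=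
  le_antisymm (le_pCoreOf (pRes_le _) (le_norm_pRes _) isP_N) fun v hv => by
    obtain ⟨k, hk⟩ := isPGroup_iff_mem.1 isP_V v hv
    exact mem_N_of_two (V_le_K hv) hk

theorem F_le_V : S.F ≤ S.V := fun f hf =>
  N_eq (S := S) ▸ mem_N_of_two (F_le_K hf) (n := 1) (by rw [pow_one, sq, F_sq hf])

theorem inf_le {g : G} (hg : g ∈ normalizer (S.E : Set G)) :
    S.V ⊓ centralizer {g * S.x * g⁻¹} ≤ cj g S.F := fun a ha => by
  obtain ⟨h4, h5⟩ := conj_mem hg (V_le_K ha.1) ha.2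
  obtain ⟨k, hk⟩ := isPGroup_iff_mem.1 isP_V a ha.1
  refine mem_cj.2 (mem_F_of_two h4 h5 (n := k) ?_)
  have := conj_pow (a := g⁻¹) (b := a) (i := 2 ^ k)
  rw [inv_inv] at this
  rw [this, hk]; group

theorem lf_mem_U {k : ℕ} (hk : k ∈ [0, 2, 4, 6]) : S.lf (ub k) ∈ S.U :=
  mem_U.2 ⟨lf_mem _, k, hk, rh_lf (X49.ub_mem_X k)⟩

theorem mem_NF_of {g : G} (hg : g ∈ normalizer (S.E : Set G)) (hl : g ∈ S.L) :
    g ∈ normalizer (S.F : Set G) := by
  have h1 := U_le_F (conj_mem_of_mem_norm (NE_le_NU hg) (lf_mem_U (S := S) (k := 2) (by simp)))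
  refine (mem_NF hl).2 (mem_Yb_of_conj (rh_mem g) (ub_mem (k := 2) (by decide))
    (fun e => by simpa using (ub_eq_one (k := 2) (by decide)).1 e) ?_)
  rw [← rh_lf (S := S) (X49.ub_mem_X 2), ← rh_conj hl (lf_mem _)]
  exact (mem_pre.1 h1).2

theorem mem_L_of {g : G} (h : g * S.x * g⁻¹ ∈ zpowers S.x) : g ∈ S.L :=
  mem_normalizer_of_cj_le (cj_le_iff.2 fun _ ⟨n, e⟩ => by
    rw [← e]; dsimp only; rw [← conj_zpow]; exact zpow_mem h n)

theorem mem_L_of' {g h : G} (e : g * S.x * g⁻¹ ∈ zpowers (h * S.x * h⁻¹)) : h⁻¹ * g ∈ S.L := by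
  obtain ⟨n, e⟩ := e
  refine mem_L_of ⟨n, ?_⟩
  dsimp only at e ⊢
  calc S.x ^ n = h⁻¹ * (h * S.x * h⁻¹) ^ n * h := by rw [conj_zpow]; group
    _ = _ := by rw [e]; group

theorem zp_eq {a b : G} (ha : orderOf a = 3) (hb : orderOf b = 3) (h : a ∈ zpowers b) :
    zpowers a = zpowers b :=
  eq_of_le_of_card_ge (zpowers_le.2 h) (by rw [Nat.card_zpowers, Nat.card_zpowers, ha, hb])

theorem o_conj (g : G) : orderOf (g * S.x * g⁻¹) = 3 := by
  rw [← MulAut.conj_apply, MulEquiv.orderOf_eq, S.ox]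

theorem U_cent_E : S.U ≤ centralizer (S.E : Set G) := fun u hu =>
  mem_cent_E.2 ⟨u, hu, 1, one_mem _, (mul_one u).symm⟩

theorem cases {g : G} (hg : g ∈ normalizer (S.E : Set G)) :
    S.V ⊓ centralizer {g * S.x * g⁻¹} ≤ S.U ∨ cj g S.F ≤ S.V := by
  refine or_iff_not_imp_left.2 fun hn => ?_
  obtain ⟨a, ha, haU⟩ := SetLike.not_le_iff_exists.1 hn
  have hA : S.E ≤ normalizer ((S.V ⊓ centralizer {g * S.x * g⁻¹} : Subgroup G) : Set G) :=
    norm_inf (E_le_NF.trans (norm_pCoreOf (norm_centralizer le_rfl))) fun e he =>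
      le_normalizer (mem_centralizer_singleton_iff.2
        (E_comm he (conj_mem_of_mem_norm hg x_mem_E)))
  set A := cj g⁻¹ (S.V ⊓ centralizer {g * S.x * g⁻¹}) with hAd
  have h1 : A ≤ S.F := cj_le_iff_le_cj_inv.2 (by rw [inv_inv]; exact inf_le hg)
  have h2 : S.U ≤ A := fun u hu => by
    have := conj_mem_of_mem_norm (NE_le_NU hg) hu
    rw [mem_cj, inv_inv]
    exact ⟨F_le_V (U_le_F this), mem_centralizer_singleton_iff.2
      (U_cent_E this _ (conj_mem_of_mem_norm hg x_mem_E)).symm⟩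
  have h3 : ∀ b ∈ A, S.y * b * S.y⁻¹ ∈ A := fun b hb => by
    rw [mem_cj, inv_inv] at hb ⊢
    have := conj_mem_of_mem_norm (hA (conj_mem_of_mem_norm hg y_mem_E)) hb
    convert this using 1; group
  have hAL : A ≤ S.L := h1.trans (pre_le_L _)
  have h4 : ∀ k < 16, ub k ∈ S.bar A → ub (nthD tx 0 k) ∈ S.bar A := fun k hk h => by
    obtain ⟨b, hb, hl, e⟩ := mem_bar.1 h
    rw [← xb_ub hk, ← e, ← S.rh_y, ← rh_conj S.y_mem' hl]
    exact rh_mem_bar (h3 b hb) (hAL (h3 b hb))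
  have h5 : ∀ k ∈ [0, 2, 4, 6], ub k ∈ S.bar A := fun k hk =>
    rh_lf (S := S) (X49.ub_mem_X k) ▸ rh_mem_bar (h2 (lf_mem_U hk)) (lf_mem _)
  have h6 : g⁻¹ * a * g⁻¹⁻¹ ∈ A := conj_mem_cj _ ha
  obtain ⟨-, k, hk, e⟩ := mem_F.1 (h1 h6)
  have h7 : k ∉ [0, 2, 4, 6] := fun h => haU (by
    simpa [mul_assoc] using conj_mem_of_mem_norm (NE_le_NU hg) (mem_U.2 ⟨hAL h6, k, h, e⟩))
  have h8 : ub k ∈ S.bar A := e ▸ rh_mem_bar h6 (hAL h6)
  have tab1 : ∀ k < 16, nthD tx 0 k < 16 := by decide +kernel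
  have tab : ∀ k < 16, ∀ j < 16, k ∈ [0, 2, 4, 6] ∨ ∃ u ∈ [0, 2, 4, 6], u < 16 ∧ (j = u ∨
      j = u ^^^ k ∨ j = u ^^^ nthD tx 0 k ∨ j = u ^^^ nthD tx 0 (nthD tx 0 k)) := by
    set_option synthInstance.maxSize 2000 in decide +kernel
  have t1 := tab1 k hk
  have t2 := tab1 _ t1
  have t3 := fun j hj => (tab k hk j hj).resolve_left h7
  have h9 : Ub ≤ S.bar A := fun b hb => by
    obtain ⟨j, hj, rfl⟩ := mem_Ub.1 hb
    obtain ⟨u, hu, u16, rfl | rfl | rfl | rfl⟩ := t3 j hj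
    · exact h5 _ hu
    · rw [ub_xor u16 hk]; exact mul_mem (h5 u hu) h8
    · rw [ub_xor u16 t1]; exact mul_mem (h5 u hu) (h4 k hk h8)
    · rw [ub_xor u16 t2]; exact mul_mem (h5 u hu) (h4 _ t1 (h4 k hk h8))
  have h10 : S.F ≤ A := pre_bar hAL (h2 ⟨z_mem_F, mem_centralizer_singleton_iff.2
    (z_comm S.y_mem').symm⟩) ▸ pre_mono h9
  exact (cj_le_iff_le_cj_inv.2 h10).trans inf_le_left

end NH

open NH

theorem mem_cent_F {g : G} (h : g ∈ centralizer (S.F : Set G)) :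
    ∃ v ∈ S.V, ∃ n : ℕ, g = v * S.x ^ n := by
  haveI : Fact (Nat.Prime 3) := ⟨Nat.prime_three⟩
  rw [← pRes_sup_sylIn syl_x, mem_sup_of_norm' (syl_x.le.trans (le_norm_pRes _)), N_eq] at h
  obtain ⟨v, hv, b, hb, rfl⟩ := h
  obtain ⟨n, rfl⟩ := (mem_powers_iff_mem_zpowers.2 hb : b ∈ Submonoid.powers S.x)
  exact ⟨v, hv, n, rfl⟩

theorem V_inf_C : S.V ⊓ S.C = S.F := by
  refine le_antisymm ?_ (le_inf F_le_V F_le_C)
  simpa using inf_le (S := S) (one_mem _)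

theorem NF_le_NV : normalizer (S.F : Set G) ≤ normalizer (S.V : Set G) :=
  norm_pCoreOf (norm_centralizer le_rfl)

theorem NH.V_le' {B : Subgroup G}
    (hB : ∀ g ∈ normalizer (S.E : Set G), S.V ⊓ centralizer {g * S.x * g⁻¹} ≤ B) : S.V ≤ B :=
  le_of_gen (N_eq (S := S) ▸ not_three) (E_le_NF.trans NF_le_NV) hB

theorem NH.cj_le_V (h : S.V ≠ S.F) {g : G} (hg : g ∈ normalizer (S.E : Set G)) :
    cj g S.F ≤ S.V := by
  have h0 : ∀ g ∈ normalizer (S.E : Set G), g * S.x * g⁻¹ ∈ zpowers S.x → cj g S.F = S.F :=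
    fun g hg e => cj_eq_self (mem_NF_of hg (mem_L_of e))
  obtain ⟨a, ha, h1, h2⟩ : ∃ a ∈ normalizer (S.E : Set G), a * S.x * a⁻¹ ∉ zpowers S.x ∧
      cj a S.F ≤ S.V := by
    by_contra hn
    push Not at hn
    refine h (le_antisymm (V_le' fun a ha => ?_) F_le_V)
    by_cases e : a * S.x * a⁻¹ ∈ zpowers S.x
    · exact h0 a ha e ▸ inf_le ha
    · exact ((cases ha).resolve_right (hn a ha e)).trans U_le_F
  by_cases e : g * S.x * g⁻¹ ∈ zpowers S.x
  · exact (h0 g hg e).le.trans F_le_V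
  have key : ∀ b ∈ normalizer (S.E : Set G), b * S.x * b⁻¹ ∉ zpowers S.x →
      ∃ c ∈ normalizer (S.E : Set G), c ∈ normalizer (S.F : Set G) ∧
        zpowers (c * b * S.x * (c * b)⁻¹) = zpowers S.y := fun b hb hn => by
    obtain ⟨k, -, n, e⟩ := (mem_E_cases (conj_mem_of_mem_norm hb x_mem_E)).resolve_left hn
    refine ⟨(S.r ^ k)⁻¹, inv_mem (pow_mem r_mem_NE k), inv_mem (pow_mem r_mem_NF k),
      zp_eq (o_conj _) S.oy ⟨n, ?_⟩⟩
    dsimp only at e ⊢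
    rw [conj_zpow] at e
    calc S.y ^ n = (S.r ^ k)⁻¹ * (S.r ^ k * S.y ^ n * (S.r ^ k)⁻¹) * S.r ^ k := by group
      _ = _ := by rw [e]; group
  obtain ⟨c, c1, c2, c3⟩ := key a ha h1
  obtain ⟨d, d1, d2, d3⟩ := key g hg e
  have h3 := mem_NF_of (mul_mem (inv_mem (mul_mem c1 ha)) (mul_mem d1 hg))
    (mem_L_of' (c3 ▸ d3 ▸ mem_zpowers _))
  have h4 : cj (d * g) S.F ≤ S.V := by
    rw [cj_eq_cj_iff.2 h3, cj_mul]; exact cj_le_of_mem_norm (NF_le_NV c2) h2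
  have := cj_le_of_mem_norm (NF_le_NV (inv_mem d2)) h4
  rwa [← cj_mul, inv_mul_cancel_left] at this

theorem V_le (h : S.V ≠ S.F) {B : Subgroup G}
    (hB : ∀ g ∈ normalizer (S.E : Set G), cj g S.F ≤ B) : S.V ≤ B :=
  V_le' fun g hg => (inf_le hg).trans (hB g hg)

theorem NE_le_NV (h : S.V ≠ S.F) : normalizer (S.E : Set G) ≤ normalizer (S.V : Set G) :=
  fun g hg => mem_normalizer_of_cj_le (cj_le_iff_le_cj_inv.2 (V_le h fun a ha =>
    cj_le_iff_le_cj_inv.1 (cj_mul g a S.F ▸ cj_le_V h (mul_mem hg ha))))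

theorem V_sq (h : S.V ≠ S.F) {v : G} (hv : v ∈ S.V) : v * v = 1 := by
  have h1 : S.V ≤ centralizer (S.V : Set G) := V_le h fun g hg => cent_comm.1 (by
    rw [← cj_centralizer, ← cj_eq_self (NE_le_NV h hg)]; exact cj_mono g V_le_K)
  let B : Subgroup G :=
    { carrier := {a | a ∈ S.V ∧ a * a = 1}
      one_mem' := ⟨one_mem _, one_mul 1⟩
      mul_mem' := fun {a b} ha hb => ⟨mul_mem ha.1 hb.1, by
        calc a * b * (a * b) = a * (b * a) * b := by group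
          _ = a * a * (b * b) := by rw [h1 ha.1 b hb.1]; group
          _ = 1 := by rw [ha.2, hb.2, one_mul]⟩
      inv_mem' := fun {a} ha => ⟨inv_mem ha.1, by rw [← mul_inv_rev, ha.2, inv_one]⟩ }
  refine (V_le h (B := B) (fun g hg a ha => ⟨cj_le_V h hg ha, ?_⟩) hv).2
  have := F_sq (mem_cj.1 ha)
  calc a * a = g * (g⁻¹ * a * g * (g⁻¹ * a * g)) * g⁻¹ := by group
    _ = 1 := by rw [this]; group

end Loc

end Cfsg.Agent.J4R
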