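/- Project J4R, section NotF, first part: lemmas that do not use `V = F`. -/
import Cfsg.Agent.J4R.NHat
import Cfsg.Agent.H42.Index2

set_option autoImplicit false
set_option linter.unusedSectionVars false

namespace Cfsg.Agent.J4R

open Subgroup Cfsg.Agent.H14 Cfsg.Agent.SGJ4 AG Cfsg.Agent.H80.J4 Cfsg.Agent.H70

namespace NF

theorem not_invert {M : Type*} [Group M] (hM : Nat.card M = 2304) {e x f g : M}
    (he : orderOf e = 3) (hn : ∀ a, a ∈ normalizer (zpowers e : Set M)) (x3 : x ^ 3 = 1)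
    (hx : x ∉ zpowers e) (f2 : f * f = 1) (hf : f * x = x * f)
    (h : g * f * g⁻¹ * x * (g * f * g⁻¹)⁻¹ = x⁻¹) : False := by
  haveI : Finite M := Nat.finite_of_card_ne_zero (by omega)
  haveI : Fact (Nat.Prime 2) := ⟨Nat.prime_two⟩
  haveI : Fact (Nat.Prime 3) := ⟨Nat.prime_three⟩
  obtain ⟨P⟩ : Nonempty (Sylow 2 M) := inferInstance
  set H := zpowers e ⊔ (P : Subgroup M) with hH
  have hxH : x ∉ H := fun hm => by
    obtain ⟨n, h1, p, hp, rfl⟩ := (mem_sup_of_norm' fun a _ => hn a).1 hm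
    obtain ⟨k, hk⟩ := isPGroup_iff_mem.1 P.isPGroup' p hp
    have := pow_mul_inv_mem_of_norm h1 (hn p) (2 ^ k)
    rw [hk, inv_one, mul_one] at this
    exact hx (mem_of_pow_mem_coprime (Nat.Coprime.pow_left k (by decide : Nat.Coprime 2 3)) this
      (x3 ▸ one_mem _))
  have c1 : 256 ∣ Nat.card H := by
    refine Dvd.dvd.trans ?_ (card_dvd_of_le (le_sup_right : (P : Subgroup M) ≤ H))
    exact P.pow_dvd_card_of_pow_dvd_card (n := 8) (by rw [hM]; norm_num)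
  have c2 : 3 ∣ Nat.card H := by
    rw [← he, ← Nat.card_zpowers]; exact card_dvd_of_le le_sup_left
  obtain ⟨m, hm⟩ := Nat.Coprime.mul_dvd_of_dvd_of_dvd (by decide) c1 c2
  have c3 := H.card_mul_index
  rw [hm, hM] at c3
  have c4 : H.index = 3 := ((Nat.dvd_prime Nat.prime_three).1 ⟨m, by linarith⟩).resolve_left
    fun e => hxH (index_eq_one.1 e ▸ mem_top x)
  let φ := MulAction.toPermHom M (M ⧸ H)
  have c5 : Nat.card (Equiv.Perm (M ⧸ H)) = 6 := by rw [Nat.card_perm, ← index, c4]; rfl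
  have x1 : φ x ≠ 1 := fun e => hxH (normalCore_le H (normalCore_eq_ker H ▸ e))
  have ox : orderOf (φ x) = 3 := orderOf_eq_prime (by rw [← map_pow, x3, map_one]) x1
  have key : φ x = (φ x)⁻¹ := by
    have h1 := congrArg φ h
    simp only [map_mul, map_inv] at h1
    by_cases f1 : φ f = 1
    · simpa [f1] using h1
    have of : orderOf (φ f) = 2 := orderOf_eq_prime (by rw [sq, ← map_mul, f2, map_one]) f1
    have hc : Commute (φ f) (φ x) := by rw [Commute, SemiconjBy, ← map_mul, hf, map_mul]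
    have := isCyclic_of_orderOf_eq_card (φ f * φ x) (by
      rw [hc.orderOf_mul_eq_mul_orderOf_of_coprime (by rw [of, ox]; decide), of, ox, c5])
    rw [← h1, IsCyclic.isMulCommutative.is_comm.comm _ (φ x), mul_inv_cancel_right]
  have : 3 ∣ 2 := ox ▸ orderOf_dvd_of_pow_eq_one (by rw [sq]; exact mul_eq_one_iff_eq_inv.2 key)
  omega

theorem k2_xb : kb * kb * xb * (kb * kb)⁻¹ = om * om * xb * xb := by
  rw [mul_inv_eq_iff_eq_mul]
  exact cd_inj.1 (by simp only [cd_mul, cd_om, cd_kb, cd_xb']; decide +kernel)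

theorem ub_ne {k l : ℕ} (hk : k < 16) (hl : l < 16) (h : k ≠ l) : ub k ≠ ub l :=
  fun e => h (ub_inj hk hl (by rw [e]))

end NF

namespace Loc

variable {G : Type*} [Group G] [Finite G] {S : Loc G}

open NH J4R.NF

namespace NF

theorem eq_one_of {a : G} {m n : ℕ} (h : m.Coprime n) (h1 : a ^ m = 1) (h2 : a ^ n = 1) : a = 1 :=
  mem_bot.1 (mem_of_pow_mem_coprime h (mem_bot.2 h1) (mem_bot.2 h2))

theorem r_y : S.r * S.y * S.r⁻¹ = S.x⁻¹ * S.y := by
  rw [eq_inv_mul_iff_mul_eq]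
  calc _ = S.x * S.r * S.y * S.r⁻¹ := by group
    _ = _ := by rw [← r_x, ← y_r]; group

theorem or' : orderOf S.r = 3 := by
  haveI : Fact (Nat.Prime 3) := ⟨Nat.prime_three⟩
  refine orderOf_eq_prime r_cube fun e => x_ne_one (S := S) ?_
  have := y_r (S := S)
  rw [e] at this
  simpa using this.symm

theorem x_not_mem_r : S.x ∉ zpowers S.r := fun h => by
  have h1 : S.r ∈ zpowers S.x := zp_eq S.ox or' h ▸ mem_zpowers _
  have h2 := E_comm y_mem_E (zpowers_le.2 x_mem_E h1)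
  have := y_r (S := S)
  rw [h2, mul_inv_cancel_right] at this
  exact x_ne_one (left_eq_mul.1 this)

theorem ry_not_mem : S.r * S.y * S.r⁻¹ ∉ zpowers S.x := fun h => y_not_mem (S := S) (by
  rw [r_y] at h; exact (mul_mem_cancel_left (inv_mem (mem_zpowers _))).1 h)

theorem ry_not_mem' : S.r * S.y * S.r⁻¹ ∉ zpowers S.y := fun h => y_not_mem (S := S) (by
  rw [r_y] at h
  rw [zp_eq S.ox S.oy (inv_mem_iff.1 ((mul_mem_cancel_right (mem_zpowers _)).1 h))]
  exact mem_zpowers _)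

/-- an element of `N(E) ∩ C(U)` fixing a non-trivial element of `E` centralises `E` -/
theorem cent_E {w e : G} (h1 : w ∈ normalizer (S.E : Set G)) (h2 : w ∈ centralizer (S.U : Set G))
    (he : e ∈ S.E) (e1 : e ≠ 1) (hc : w * e = e * w) : w ∈ centralizer (S.E : Set G) := by
  obtain ⟨g, hg, rfl⟩ := exists_NE he e1
  have h3 : g⁻¹ * w * g ∈ S.C := S.mem_C.2 (by
    calc g⁻¹ * w * g * S.x = g⁻¹ * (w * (g * S.x * g⁻¹)) * g := by group
      _ = _ := by rw [hc]; group)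
  have h4 := conj_mem_of_mem_norm' (norm_centralizer NE_le_NU hg) h2
  have h5 := mul_mem (mul_mem (inv_mem hg) h1) hg
  obtain ⟨f, hf, a, ha, h | h⟩ := mem_L_cent_U (S.C_le_L h3) h4
  swap
  · exact absurd ((S.C.mul_mem_cancel_left (mul_mem (F_le_C hf) (E_le_C ha))).1 (h ▸ h3))
      i_not_mem_C
  have h6 : f ∈ normalizer (S.E : Set G) := (mul_mem_cancel_right (le_normalizer ha)).1 (h ▸ h5)
  have h7 : f * S.y * f⁻¹ * S.y⁻¹ = 1 := by
    refine eq_one_of (by decide : Nat.Coprime 2 3) ?_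
      (E_cube (mul_mem (conj_mem_of_mem_norm h6 y_mem_E) (inv_mem y_mem_E)))
    have := F_sq (mul_mem hf (conj_mem_of_mem_norm (E_le_NF y_mem_E) (inv_mem hf)))
    rw [sq]; simpa only [mul_assoc] using this
  rw [mul_inv_eq_one, mul_inv_eq_iff_eq_mul] at h7
  have h8 := conj_mem_of_mem_norm (norm_centralizer le_rfl hg)
    (h ▸ mem_cent_E.2 ⟨f, ⟨hf, mem_centralizer_singleton_iff.2 h7⟩, a, ha, rfl⟩)
  simpa [mul_assoc] using h8

theorem cent_E_le_L : centralizer (S.E : Set G) ≤ S.L := fun _ h =>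
  S.C_le_L (S.mem_C.2 (h _ x_mem_E).symm)

theorem mem_L_of_sq {w : G} (h1 : w ∈ normalizer (S.E : Set G))
    (h2 : w ∈ centralizer (S.U : Set G)) (w2 : w * w = 1) : w ∈ S.L := by
  have h3 := conj_mem_of_mem_norm h1 x_mem_E
  by_cases e : S.x * (w * S.x * w⁻¹) = 1
  · exact mem_L_of (by rw [eq_inv_of_mul_eq_one_right e]; exact inv_mem (mem_zpowers _))
  refine cent_E_le_L (cent_E h1 h2 (mul_mem x_mem_E h3) e ?_)
  have wi : w⁻¹ = w := inv_eq_of_mul_eq_one_right w2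
  calc w * (S.x * (w * S.x * w⁻¹)) = w * S.x * w⁻¹ * (w * w) * S.x * w⁻¹ := by group
    _ = w * S.x * w⁻¹ * S.x * w := by rw [w2, mul_one, mul_assoc _ _ w⁻¹, wi, ← mul_assoc]
    _ = _ := by rw [← E_comm x_mem_E h3]

theorem le_cent_of_odd {q : ℕ} [hq : Fact q.Prime] (h2 : q ≠ 2) {Q : Subgroup G}
    (hQ : IsPGroup q Q) (h1 : Q ≤ normalizer (S.E : Set G)) (h3 : Q ≤ centralizer (S.U : Set G)) :
    Q ≤ centralizer (S.E : Set G) := by
  letI : MulAction Q {e : S.E // e ≠ 1} :=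
    { smul := fun u n => ⟨⟨u * n.1 * (u : G)⁻¹, conj_mem_of_mem_norm (h1 u.2) n.1.2⟩, fun e =>
        n.2 (Subtype.ext (conj_eq_one_iff.1 (congrArg Subtype.val e)))⟩
      one_smul := fun n => Subtype.ext (Subtype.ext (by
        change ((1 : Q) : G) * n.1 * ((1 : Q) : G)⁻¹ = n.1; simp))
      mul_smul := fun u v n => Subtype.ext (Subtype.ext (by
        change ((u * v : Q) : G) * n.1 * ((u * v : Q) : G)⁻¹ =
          u * (v * n.1 * (v : G)⁻¹) * (u : G)⁻¹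
        simp [mul_assoc])) }
  have hc : Nat.card {e : S.E // e ≠ 1} = 2 ^ 3 := by
    classical
    have := Fintype.ofFinite S.E
    rw [Nat.card_eq_fintype_card, Fintype.card_subtype_compl, Fintype.card_subtype_eq,
      ← Nat.card_eq_fintype_card, card_E]
    rfl
  obtain ⟨e, he⟩ := hQ.nonempty_fixed_point_of_prime_not_dvd_card {e : S.E // e ≠ 1} fun h =>
    h2 ((Nat.prime_dvd_prime_iff_eq hq.out Nat.prime_two).1 (hq.out.dvd_of_dvd_pow (hc ▸ h)))
  exact fun u hu => cent_E (h1 hu) (h3 hu) e.1.2 (fun h => e.2 (Subtype.ext h))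
    (mul_inv_eq_iff_eq_mul.1 (congrArg (fun a => (a.1 : G)) (he ⟨u, hu⟩)))

theorem k2_mem : S.lf (kb * kb) ∈ normalizer (S.E : Set G) := by
  have h0 : S.rh (S.lf (kb * kb)) = kb * kb := rh_lf (mul_mem kb_mem.1 kb_mem.1)
  have h1 : S.lf (kb * kb) ∈ S.C := mem_C_iff.2 ⟨lf_mem _, by
    rw [h0]; exact mul_mem kb_mem kb_mem⟩
  have h2 : S.x * S.x * S.y * S.y ∈ S.E :=
    mul_mem (mul_mem (mul_mem x_mem_E x_mem_E) y_mem_E) y_mem_E
  refine mem_normalizer_of_cj_le (cj_le_iff_le_cj_inv.2 ((closure_le _).2 ?_))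
  rintro _ (rfl | rfl) <;> rw [SetLike.mem_coe, mem_cj, inv_inv]
  · rw [S.mem_C.1 h1, mul_inv_cancel_right]; exact x_mem_E
  · rwa [conj_three (lf_mem _) S.y_mem' (S.C_le_L (E_le_C h2)) S.y_cube (E_cube h2)]
    rw [h0, rh_mul (mul_mem (mul_mem S.x_mem S.x_mem) S.y_mem') S.y_mem',
      rh_mul (mul_mem S.x_mem S.x_mem) S.y_mem', rh_mul S.x_mem S.x_mem, rh_x, rh_y, k2_xb]

/-- for `z = 1` the group `N(E) ∩ C(U)` is transitive on the subgroups of order 3 of `E` -/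
theorem exists_J (hz : S.z = 1) {g : G} (hg : g ∈ normalizer (S.E : Set G)) :
    ∃ m ∈ S.L, g * m ∈ normalizer (S.E : Set G) ∧ g * m ∈ centralizer (S.U : Set G) := by
  have inj : ∀ {a b : G}, a ∈ S.L → b ∈ S.L → S.rh a = S.rh b → a = b := fun ha hb e => by
    simpa [hz] using (rh_eq_iff ha hb).1 e
  have rl : ∀ k, S.rh (S.lf (ub k)) = ub k := fun k => rh_lf (X49.ub_mem_X k)
  let A : ℕ → ℕ → Prop := fun a b => ∃ m ∈ S.L, m ∈ normalizer (S.E : Set G) ∧
    m * S.lf (ub 2) * m⁻¹ = S.lf (ub a) ∧ m * S.lf (ub 4) * m⁻¹ = S.lf (ub b)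
  have step : ∀ c ∈ S.L, c ∈ normalizer (S.E : Set G) → ∀ a b a' b', A a b →
      S.rh c * ub a * (S.rh c)⁻¹ = ub a' → S.rh c * ub b * (S.rh c)⁻¹ = ub b' → A a' b' := by
    rintro c c1 c2 a b a' b' ⟨m, m1, m2, m3, m4⟩ e1 e2
    have key : ∀ a a', S.rh c * ub a * (S.rh c)⁻¹ = ub a' → c * S.lf (ub a) * c⁻¹ = S.lf (ub a') :=
      fun a a' e => inj (mul_mem (mul_mem c1 (lf_mem _)) (inv_mem c1)) (lf_mem _)
        (by rw [rh_conj c1 (lf_mem _), rl, rl, e])
    exact ⟨c * m, mul_mem c1 m1, mul_mem c2 m2, by rw [← key a a' e1, ← m3]; group,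
      by rw [← key b b' e2, ← m4]; group⟩
  have sr := fun a b (ha : a < 16) (hb : b < 16) h => step S.r r_mem r_mem_NE a b _ _ h
    (rh_r (S := S) ▸ rb_ub ha) (rh_r (S := S) ▸ rb_ub hb)
  have h0 : S.rh (S.lf (kb * kb)) = kb * kb := rh_lf (mul_mem kb_mem.1 kb_mem.1)
  have a24 : A 2 4 := ⟨1, one_mem _, one_mem _, by simp, by simp⟩
  have a46 : A 4 6 := sr 2 4 (by decide) (by decide) a24
  have a62 : A 6 2 := sr 4 6 (by decide) (by decide) a46
  have a64 : A 6 4 := step _ (lf_mem _) k2_mem 2 4 _ _ a24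
    (by rw [h0]; exact kb2_ub (by decide)) (by rw [h0]; exact kb2_ub (by decide))
  have a26 : A 2 6 := sr 6 4 (by decide) (by decide) a64
  have a42 : A 4 2 := sr 2 6 (by decide) (by decide) a26
  have img : ∀ k ∈ [0, 2, 4, 6], ∃ a ∈ [0, 2, 4, 6], g⁻¹ * S.lf (ub k) * g = S.lf (ub a) :=
    fun k hk => by
    obtain ⟨h1, a, ha, e⟩ := mem_U.1 (conj_mem_of_mem_norm' (NE_le_NU hg) (lf_mem_U hk))
    exact ⟨a, ha, inj h1 (lf_mem _) (by rw [e, rl])⟩
  have l0 : S.lf (ub 0) = 1 := inj (lf_mem _) (one_mem _) (by rw [rl, rh_one, ub_zero])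
  have ne1 : ∀ k < 16, k ≠ 0 → g⁻¹ * S.lf (ub k) * g ≠ S.lf (ub 0) := fun k hk k0 e => by
    have : S.lf (ub k) = 1 := conj_eq_one_iff.1 (by rw [← l0, ← e, inv_inv] : g⁻¹ * _ * g⁻¹⁻¹ = 1)
    exact k0 ((ub_eq_one hk).1 (by rw [← rl, this, rh_one]))
  obtain ⟨a, ha, e1⟩ := img 2 (by simp)
  obtain ⟨b, hb, e2⟩ := img 4 (by simp)
  have a0 : a ≠ 0 := fun e => ne1 2 (by decide) (by decide) (e ▸ e1)
  have b0 : b ≠ 0 := fun e => ne1 4 (by decide) (by decide) (e ▸ e2)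
  have ab : a ≠ b := fun e => ub_ne (k := 2) (l := 4) (by decide) (by decide) (by decide) (by
    rw [← rl, ← rl 4, mul_left_cancel (mul_right_cancel (e1.trans (e ▸ e2.symm)))])
  obtain ⟨m, m1, m2, m3, m4⟩ : A a b := by
    simp only [List.mem_cons, List.not_mem_nil, or_false] at ha hb
    rcases ha with rfl | rfl | rfl | rfl <;> rcases hb with rfl | rfl | rfl | rfl <;>
      first | assumption | omega
  have c2 : g * m * S.lf (ub 2) * (g * m)⁻¹ = S.lf (ub 2) := by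
    calc _ = g * (m * S.lf (ub 2) * m⁻¹) * g⁻¹ := by group
      _ = _ := by rw [m3, ← e1]; group
  have c4 : g * m * S.lf (ub 4) * (g * m)⁻¹ = S.lf (ub 4) := by
    calc _ = g * (m * S.lf (ub 4) * m⁻¹) * g⁻¹ := by group
      _ = _ := by rw [m4, ← e2]; group
  refine ⟨m, m1, mul_mem hg m2, fun u hu => (mul_inv_eq_iff_eq_mul.1 ?_).symm⟩
  obtain ⟨h1, k, hk, e⟩ := mem_U.1 hu
  simp only [List.mem_cons, List.not_mem_nil, or_false] at hk
  rcases hk with rfl | rfl | rfl | rfl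
  · rw [inj h1 (one_mem _) (by rw [e, rh_one, ub_zero])]; group
  · rwa [inj h1 (lf_mem _) (e.trans (rl _).symm)]
  · rwa [inj h1 (lf_mem _) (e.trans (rl _).symm)]
  · rw [inj h1 (mul_mem (lf_mem (ub 2)) (lf_mem (ub 4))) (by
      rw [e, rh_mul (lf_mem _) (lf_mem _), rl, rl, ← ub_xor (by decide) (by decide)]; rfl)]
    calc _ = g * m * S.lf (ub 2) * (g * m)⁻¹ * (g * m * S.lf (ub 4) * (g * m)⁻¹) := by group
      _ = _ := by rw [c2, c4]

end NF

end Loc

end Cfsg.Agent.J4R
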