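/- Project J4R, section NotF: `V ≠ F`. -/
import Cfsg.Agent.J4R.NotFA

set_option autoImplicit false
set_option linter.unusedSectionVars false

namespace Cfsg.Agent.J4R

open Subgroup Cfsg.Agent.H14 Cfsg.Agent.SGJ4 AG Cfsg.Agent.H80.J4 Cfsg.Agent.H70

namespace Loc

variable {G : Type*} [Group G] [Finite G] {S : Loc G}

open NH J4R.NF

namespace NF

variable (S) in
/-- the group generated by `F` and `i` -/
noncomputable def S1 : Subgroup G := S.F ⊔ zpowers S.i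
variable (S) in
/-- a lift of `ub 13` -/
noncomputable def f : G := S.lf (ub 13)
variable (S) in
/-- the commutator of `f` and `i` -/
noncomputable def a0 : G := f S * (S.i * f S * S.i⁻¹)

theorem i_NF : S.i ∈ normalizer (S.F : Set G) :=
  (mem_NF i_mem).2 (rh_i (S := S) ▸ mem_Yb_elts.2.2.2.1)
theorem rh_f : S.rh (f S) = ub 13 := rh_lf (X49.ub_mem_X 13)
theorem f_mem : f S ∈ S.F := mem_F.2 ⟨lf_mem _, 13, by decide, rh_f⟩
theorem FL {a : G} (h : a ∈ S.F) : a ∈ S.L := (mem_F.1 h).1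
theorem F_inv {a : G} (h : a ∈ S.F) : a⁻¹ = a := inv_eq_of_mul_eq_one_right (F_sq h)
theorem a0_mem : a0 S ∈ S.F := mul_mem f_mem (conj_mem_of_mem_norm i_NF f_mem)
theorem rh_a0 : S.rh (a0 S) = ub 3 := by
  rw [a0, rh_mul (FL f_mem) (FL (conj_mem_of_mem_norm i_NF f_mem)), rh_conj i_mem (FL f_mem), rh_f,
    rh_i, ib_ub (by decide), ← ub_xor (by decide) (by decide +kernel)]
  rfl
theorem a0_ne : a0 S ≠ 1 := fun e => by
  have := rh_a0 (S := S)
  rw [e, rh_one] at this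
  simpa using (ub_eq_one (k := 3) (by decide)).1 this.symm
theorem r_f : f S * S.r = S.r * f S := comm_of_odd (FL f_mem) r_mem (n := 3) (by decide) r_cube (by
  rw [rh_f, rh_r]; exact (mul_inv_eq_iff_eq_mul.1 (rb_ub (k := 13) (by decide))).symm)
theorem r_a0 : a0 S * S.r = S.r * a0 S :=
  comm_of_odd (FL a0_mem) r_mem (n := 3) (by decide) r_cube (by
    rw [rh_a0, rh_r]; exact (mul_inv_eq_iff_eq_mul.1 (rb_ub (k := 3) (by decide))).symm)
theorem F_le_J : S.F ≤ centralizer (S.U : Set G) := F_le_K.trans (cent_anti U_le_F)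
theorem isP_F : IsPGroup 2 S.F := isP_V.to_le F_le_V

theorem nr {a b : G} (e : a * b = b * a) : a ∈ normalizer (zpowers b : Set G) :=
  centralizer_le_normalizer _ (mem_centralizer_iff.2 fun _ ⟨n, e'⟩ => e' ▸
    ((show Commute b a from e.symm).zpow_left n).eq)

theorem NF_le_L (hV : S.V = S.F) : normalizer (S.F : Set G) ≤ S.L := fun g hg => by
  obtain ⟨v, hv, n, e⟩ := mem_cent_F (conj_mem_of_mem_norm (norm_centralizer le_rfl hg) x_mem_K)
  rw [hV] at hv
  have h1 : (g * S.x * g⁻¹) ^ 3 = 1 := by rw [conj_pow, S.x_cube]; group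
  rw [e, ((show Commute v S.x from S.mem_C.1 (F_le_C hv)).pow_right n).mul_pow, ← pow_mul,
    mul_comm n, pow_mul, S.x_cube, one_pow, mul_one] at h1
  refine mem_L_of ?_
  rw [e, eq_one_of (by decide : Nat.Coprime 2 3) (by rw [sq, F_sq hv]) h1, one_mul]
  exact pow_mem (mem_zpowers _) n

variable (h : S.Good)
include h

theorem i_inv : S.i⁻¹ = S.i := inv_eq_of_mul_eq_one_right h.i_sq

theorem mem_S1 {g : G} : g ∈ S1 S ↔ g ∈ S.F ∨ g * S.i⁻¹ ∈ S.F :=
  H42.mem_sup_zpowers i_NF (h.i_sq ▸ one_mem _)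

theorem card_S1 : Nat.card (S1 S) = 2 * Nat.card S.F :=
  H42.card_sup_zpowers i_NF (h.i_sq ▸ one_mem _) fun e => i_not_mem_C (F_le_C e)

theorem isP_S1 : IsPGroup 2 (S1 S) := isPGroup_sup_of_norm' isP_F (isPGroup_iff_mem.2 fun a ha =>
  ⟨1, by rcases (H42.mem_zpowers_of_mul_self h.i_sq).1 ha with rfl | rfl
         exacts [one_pow _, by rw [pow_one, sq, h.i_sq]]⟩) (zpowers_le.2 i_NF)

theorem S1_le_J : S1 S ≤ centralizer (S.U : Set G) := sup_le F_le_J (zpowers_le.2 h.i_cent_U)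

theorem idx {a b : G} (ha : a ∈ S1 S) (hb : b ∈ S1 S) (ha' : a ∉ S.F) (hb' : b ∉ S.F) :
    a⁻¹ * b ∈ S.F := by
  have h1 := ((mem_S1 h).1 ha).resolve_left ha'
  have h2 := ((mem_S1 h).1 hb).resolve_left hb'
  have := conj_mem_of_mem_norm' i_NF (mul_mem (inv_mem h1) h2)
  convert this using 1; group

theorem i_a0 : S.i * a0 S * S.i⁻¹ = a0 S := by
  calc _ = S.i * f S * S.i⁻¹ * (S.i * S.i * f S * (S.i * S.i)⁻¹) := by rw [a0]; group
    _ = _ := by
      rw [h.i_sq, one_mul, inv_one, mul_one, F_comm (conj_mem_of_mem_norm i_NF f_mem) f_mem, a0]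

theorem fix_of_lt {w : G} (hw : w ∈ S.L) {k : ℕ} (hk : k < 8) (e : S.rh w = ub k) :
    S.i * w * S.i⁻¹ = w := by
  have tab : ∀ k < 8, k ∈ [0, 2, 4, 6] ∨ k ^^^ 3 ∈ [0, 2, 4, 6] := by decide
  have hu : ∀ u ∈ S.U, S.i * u * S.i⁻¹ = u := fun u hu => by
    rw [← h.i_cent_U u hu, mul_inv_cancel_right]
  rcases tab k hk with t | t
  · exact hu w (mem_U.2 ⟨hw, k, t, e⟩)
  · have := hu _ (mem_U.2 ⟨mul_mem hw (FL a0_mem), _, t, by
      rw [rh_mul hw (FL a0_mem), e, rh_a0, ub_xor (by omega) (by decide)]⟩)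
    refine mul_right_cancel (b := a0 S) ?_
    rw [← this]
    calc _ = S.i * w * S.i⁻¹ * (S.i * a0 S * S.i⁻¹) := by rw [i_a0 h]
      _ = _ := by group

theorem comm_i {w : G} (hw : w ∈ S.F) : S.i * w * S.i⁻¹ = w ∨ w * (S.i * w * S.i⁻¹) = a0 S := by
  obtain ⟨h1, k, hk, e⟩ := mem_F.1 hw
  have tab : ∀ k < 16, k < 8 ∨ k ^^^ 13 < 8 := by decide
  refine (tab k hk).imp (fun t => fix_of_lt h h1 t e) fun t => ?_
  have := fix_of_lt h (mul_mem h1 (FL f_mem)) t (by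
    rw [rh_mul h1 (FL f_mem), e, rh_f, ub_xor hk (by decide)])
  have h2 := conj_mem_of_mem_norm i_NF (f_mem (S := S))
  calc _ = w * (S.i * (w * f S) * S.i⁻¹) * (S.i * f S * S.i⁻¹)⁻¹ := by group
    _ = _ := by rw [this, F_inv h2, ← mul_assoc w, F_sq hw, one_mul, a0]

/-- the elementary abelian subgroups of `S1` of order `|F|` -/
theorem eq_F1 {g : G} (h1 : cj g S.F ≤ S1 S) (hn : g ∉ normalizer (S.F : Set G)) :
    cj g S.F = S1 S ⊓ centralizer {S.i} := by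
  have sq : ∀ a ∈ cj g S.F, a * a = 1 := fun a ha => by
    calc a * a = g * (g⁻¹ * a * g * (g⁻¹ * a * g)) * g⁻¹ := by group
      _ = 1 := by rw [F_sq (mem_cj.1 ha)]; group
  have key : ∀ a ∈ cj g S.F, a ∉ S.F → a * S.i = S.i * a := fun a ha ha' => by
    have h2 := ((mem_S1 h).1 (h1 ha)).resolve_left ha'
    have h3 := F_sq h2
    rw [i_inv h] at h3
    rw [eq_inv_of_mul_eq_one_left h3, mul_inv_rev, i_inv h, inv_eq_of_mul_eq_one_right (sq a ha)]
  obtain ⟨a, ha, ha'⟩ := SetLike.not_le_iff_exists.1 fun e => hn (mem_normalizer_of_cj_le e)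
  refine eq_of_le_of_card_ge (fun b hb => ⟨h1 hb, mem_centralizer_singleton_iff.2 ?_⟩) ?_
  · by_cases hb' : b ∈ S.F
    · have e1 := key a ha ha'
      have e2 := key _ (mul_mem hb ha) fun e => ha' ((mul_mem_cancel_left hb').1 e)
      refine mul_right_cancel (b := a) ?_
      rw [mul_assoc, ← e1, ← mul_assoc, e2, mul_assoc]
    · exact key b hb hb'
  · have hlt : S1 S ⊓ centralizer {S.i} < S1 S := lt_of_le_of_ne inf_le_left fun e => a0_ne (S := S)
      (by rw [a0, ← mem_centralizer_singleton_iff.1 (e.ge (mem_sup_left f_mem)).2,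
        mul_inv_cancel_right, F_sq f_mem])
    obtain ⟨m, hm⟩ := card_dvd_of_le hlt.le
    have h2 : m ≠ 1 := fun e => hlt.ne (eq_of_le_of_card_ge hlt.le (by rw [hm, e, mul_one]))
    have h3 : m ≠ 0 := fun e => Nat.card_pos.ne' (by rw [hm, e, mul_zero])
    rw [card_S1 h] at hm
    rw [card_cj]
    nlinarith [show 2 ≤ m by omega]

theorem mem_NF_of_odd {d : G} (h1 : d ∈ normalizer (S1 S : Set G)) {n : ℕ} (h2 : Nat.Coprime 2 n)
    (h3 : d ^ n = 1) : d ∈ normalizer (S.F : Set G) := by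
  by_contra hn
  have e1 := eq_F1 h (cj_le_of_mem_norm h1 le_sup_left) hn
  have e2 := eq_F1 h (cj_le_of_mem_norm (inv_mem h1) le_sup_left) fun e => hn (inv_mem_iff.1 e)
  have := cj_eq_cj_iff.1 (e1.trans e2.symm)
  rw [inv_inv, ← sq] at this
  exact hn (mem_of_pow_mem_coprime h2 this (h3 ▸ one_mem _))

variable (hV : S.V = S.F)
include hV

theorem exists_g : ∃ g ∈ normalizer (S1 S : Set G), g ∉ normalizer (S.F : Set G) := by
  haveI : Fact (Nat.Prime 2) := ⟨Nat.prime_two⟩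
  by_contra hn
  push Not at hn
  have hS : H92.SylIn 2 (S1 S) (centralizer (S.U : Set G)) := ⟨S1_le_J h, isP_S1 h,
    fun Q hQ h2 hle => (eq_of_inf_norm_le h2 hle fun g hg => by
      have iS : S.i ∈ S1 S := mem_sup_right (mem_zpowers _)
      have key : ∀ a ∈ S.F, ∀ e ∈ S.E, a * e ∈ Q → a * e ∈ S1 S := fun a ha e he hm => by
        obtain ⟨k, hk⟩ := isPGroup_iff_mem.1 h2 e
          ((mul_mem_cancel_left (hle (mem_sup_left ha))).1 hm)
        rw [eq_one_of (Nat.Coprime.pow_left k (by decide : Nat.Coprime 2 3)) hk (E_cube he), mul_one]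
        exact mem_sup_left ha
      obtain ⟨a, ha, e, he, rfl | rfl⟩ := mem_L_cent_U (NF_le_L hV (hn g hg.2)) (hQ hg.1)
      · exact key a ha e he hg.1
      · exact mul_mem (key a ha e he ((mul_mem_cancel_right (hle iS)).1 hg.1)) iS).symm⟩
  obtain ⟨g, hg, gx⟩ := exists_NE (S := S) y_mem_E fun e => y_not_mem (e ▸ one_mem _)
  have hg' := mul_mem r_mem_NE hg
  have gx' : S.r * g * S.x * (S.r * g)⁻¹ = S.r * S.y * S.r⁻¹ := by rw [← gx]; group
  have notL : ∀ a b : G, a * S.x * a⁻¹ ∉ zpowers (b * S.x * b⁻¹) → b⁻¹ * a ∉ S.L := fun a b h1 h2 => by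
    obtain ⟨n, e⟩ := conj_mem_of_mem_norm h2 (mem_zpowers S.x)
    refine h1 ⟨n, ?_⟩
    dsimp only at e ⊢
    rw [conj_zpow, e]; group
  rcases h with hz | hz
  · set J := normalizer (S.E : Set G) ⊓ centralizer (S.U : Set G) with hJ
    obtain ⟨T, hT⟩ := H92.exists_sylIn 2 J
    have hJT : J ≤ T ⊔ centralizer (S.E : Set G) := H46.le_of_forall_sylow_le fun q _ _ => by
      by_cases h2 : q = 2
      · subst h2
        exact ⟨hT.toSylow, (map_subtype_subgroupOf hT.le).le.trans le_sup_left⟩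
      · obtain ⟨Q⟩ : Nonempty (Sylow q J) := inferInstance
        exact ⟨Q, (le_cent_of_odd h2 (Q.isPGroup'.map _) ((map_subtype_le _).trans inf_le_left)
          ((map_subtype_le _).trans inf_le_right)).trans le_sup_right⟩
    have ex : ∀ a ∈ normalizer (S.E : Set G), ∃ t ∈ T, a⁻¹ * t ∈ S.L := fun a ha => by
      obtain ⟨m, m1, m2⟩ := exists_J hz ha
      obtain ⟨t, ht, c, hc, e⟩ := (mem_sup_of_norm (norm_centralizer (hT.le.trans inf_le_left))).1
        (hJT m2)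
      refine ⟨t, ht, ?_⟩
      rw [eq_mul_inv_of_mul_eq e, mul_assoc, inv_mul_cancel_left]
      exact mul_mem m1 (inv_mem (cent_E_le_L hc))
    obtain ⟨t, ht, t1⟩ := ex g hg
    obtain ⟨s, hs, s1⟩ := ex _ hg'
    obtain ⟨a, ha, hT1⟩ := hS.exists_conj (hT.le.trans inf_le_right) hT.pgroup
    have out : ∀ w ∈ T, w ∉ S.L → a * w * a⁻¹ ∉ S.F := fun w hw h1 h2 =>
      h1 (mem_L_of_sq (hT.le hw).1 (hT.le hw).2 (conj_eq_one_iff.1 (by
        rw [← F_sq h2]; group : a * (w * w) * a⁻¹ = 1)))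
    have n1 := notL g 1 (by simpa [gx] using y_not_mem)
    have n2 := notL (S.r * g) 1 (by rw [gx']; simpa using ry_not_mem (S := S))
    have n3 := notL (S.r * g) g (by rw [gx, gx']; exact ry_not_mem')
    refine out _ (mul_mem (inv_mem ht) hs) (fun e => n3 ?_) (by
      have := idx (Or.inl hz) (hT1 t ht) (hT1 s hs) (out t ht fun e => n1 ?_) (out s hs fun e => n2 ?_)
      · convert this using 1; group
      · convert mul_mem e (inv_mem t1) using 1; group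
      · convert mul_mem e (inv_mem s1) using 1; group)
    convert mul_mem (mul_mem t1 e) (inv_mem s1) using 1; group
  · have key : ∀ a ∈ normalizer (S.E : Set G), ∀ b ∈ normalizer (S.E : Set G),
        ∀ c ∈ centralizer (S.U : Set G), b⁻¹ * c * a ∈ normalizer (S.F : Set G) →
        a * S.x * a⁻¹ ∈ zpowers (b * S.x * b⁻¹) := fun a ha b hb c hc h1 => by
      by_contra h2
      have h3 := mul_mem (inv_mem hb) ha
      refine conj_z_ne hz (E_le_C (conj_mem_of_mem_norm h3 x_mem_E))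
        (fun e => notL a b h2 (mem_L_of e)) ?_
      calc _ = b⁻¹ * (a * S.z * a⁻¹ * c) * c⁻¹ * b := by group
        _ = b⁻¹ * c * a * S.z * (b⁻¹ * c * a)⁻¹ := by rw [hc _ (conj_z_mem_U ha)]; group
        _ = _ := by rw [z_comm (NF_le_L hV h1), mul_inv_cancel_right]
    have ex : ∀ a ∈ normalizer (S.E : Set G), a * S.x * a⁻¹ ∉ zpowers S.x →
        ∃ c ∈ centralizer (S.U : Set G), cj (c * a) S.F = S1 S ⊓ centralizer {S.i} := fun a ha h1 => by
      obtain ⟨c, hc, h2⟩ := sylIn_exists_cj_le hS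
        (cj_le_of_mem_norm (norm_centralizer NE_le_NU ha) F_le_J) (isPGroup_cj a isP_F)
      exact ⟨c, hc, eq_F1 (Or.inr hz) (cj_mul c a S.F ▸ h2) fun e => h1 (by
        simpa using key a ha 1 (one_mem _) c hc (by simpa using e))⟩
    obtain ⟨c, hc, e1⟩ := ex g hg (gx ▸ y_not_mem)
    obtain ⟨d, hd, e2⟩ := ex _ hg' (gx' ▸ ry_not_mem)
    refine ry_not_mem' (S := S) (gx' ▸ gx ▸ key _ hg' g hg _ (mul_mem (inv_mem hc) hd) ?_)
    convert cj_eq_cj_iff.1 (e2.trans e1.symm) using 1; group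

theorem exists_g' : ∃ g ∈ normalizer (S1 S : Set G), g ∉ normalizer (S.F : Set G) ∧
    g ∈ normalizer (zpowers S.r : Set G) := by
  haveI : Fact (Nat.Prime 3) := ⟨Nat.prime_three⟩
  obtain ⟨g, hg, hn⟩ := exists_g h hV
  have hr : S.r ∈ normalizer (S1 S : Set G) := norm_sup (zpowers_le.2 r_mem_NF)
    (zpowers_le.2 (nr i_r.symm)) (mem_zpowers _)
  have p3 : ∀ a : G, orderOf a = 3 → IsPGroup 3 (zpowers a) := fun a ha =>
    IsPGroup.of_card (n := 1) (by rw [Nat.card_zpowers, ha, pow_one])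
  have hS : H92.SylIn 3 (zpowers S.r) (normalizer (S1 S : Set G)) := by
    refine ⟨zpowers_le.2 hr, p3 _ or', fun Q hQ h3 hle => by_contra fun hne => ?_⟩
    obtain ⟨k, hk⟩ := IsPGroup.iff_card.1 h3
    have h1 := card_dvd_of_le hle
    rw [Nat.card_zpowers, or', hk] at h1
    have h2 : 2 ≤ k := by
      rcases k with _ | _ | k
      · simp at h1
      · exact absurd (eq_of_le_of_card_ge hle (by rw [Nat.card_zpowers, or', hk]; rfl)).symm hne
      · omega
    obtain ⟨K, hK⟩ := Sylow.exists_subgroup_card_pow_prime (G := Q) 3 (hk ▸ pow_dvd_pow 3 h2)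
    have c9 : Nat.card (K.map Q.subtype) = 9 := by
      rw [card_map_of_injective Q.subtype_injective, hK]; rfl
    have h4 := hQ (map_subtype_le _ (x_mem_of_nine (S := S) (fun a ha => by
      obtain ⟨m, hm⟩ := isPGroup_iff_mem.1 h3 a (map_subtype_le _ ha)
      exact NF_le_L hV (mem_NF_of_odd h (hQ (map_subtype_le _ ha))
        (Nat.Coprime.pow_right m (by decide)) hm)) c9))
    have iS : S.i ∈ S1 S := mem_sup_right (mem_zpowers _)
    have h5 := mul_mem (conj_mem_of_mem_norm' h4 iS) (inv_mem iS)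
    rw [mul_assoc, mul_assoc, ← mul_assoc S.i, i_x] at h5
    obtain ⟨m, hm⟩ := isPGroup_iff_mem.1 (isP_S1 h) _ h5
    have := eq_one_of (Nat.Coprime.pow_left m (by decide : Nat.Coprime 2 3)) hm
      (E_cube (mul_mem (inv_mem x_mem_E) (inv_mem x_mem_E)))
    exact x_ne_inv (S := S) (by rw [eq_inv_of_mul_eq_one_left this, inv_inv])
  have h0 := mul_mem (mul_mem (inv_mem hg) hr) (inv_mem (inv_mem hg))
  obtain ⟨n, h1, h2⟩ := (hS.mono (le_inf hS.le (zpowers_le.2 r_mem_NF)) inf_le_left).exists_conj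
    (zpowers_le.2 ⟨h0, mem_NF_of_odd h h0 (by decide : Nat.Coprime 2 3) (by
      rw [conj_pow, r_cube]; group)⟩)
    (p3 _ (by rw [← MulAut.conj_apply, MulEquiv.orderOf_eq, or']))
  refine ⟨n * g⁻¹, mul_mem h1.1 (inv_mem hg), fun e => hn (inv_mem_iff.1
    ((mul_mem_cancel_left (mem_inf.1 h1).2).1 e)), mem_normalizer_of_cj_le (cj_le_iff.2 fun _ ⟨m, e⟩ => ?_)⟩
  have := zpow_mem (h2 _ (mem_zpowers _)) m
  rw [conj_zpow, conj_zpow] at this
  rw [← e]
  convert this using 1; group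

omit hV in
theorem a0_ne_z {k : G} (hk : k * S.x * k⁻¹ = S.r) : k⁻¹ * a0 S * k ≠ S.z := fun e => by
  have hz : S.z ≠ 1 := fun e1 => a0_ne (S := S) (conj_eq_one_iff.1 (by
    rw [inv_inv, e, e1] : k⁻¹ * a0 S * k⁻¹⁻¹ = 1))
  have hy := h.resolve_left hz
  have hs : S.rh (S.lf sb) = sb := rh_lf sb_mem.1
  have sL := lf_mem (S := S) sb
  have s1 : S.lf sb * S.y * (S.lf sb)⁻¹ = S.r :=
    conj_three sL S.y_mem' r_mem S.y_cube r_cube (by rw [hs, rh_y, rh_r, sb_xb])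
  have s2 : S.lf sb * S.r * (S.lf sb)⁻¹ = S.y⁻¹ :=
    conj_three sL r_mem (inv_mem S.y_mem') r_cube (by rw [inv_pow, S.y_cube, inv_one])
      (by rw [hs, rh_inv S.y_mem', rh_y, rh_r, sb_rb])
  have s3 := z_comm sL
  generalize S.lf sb = s at s1 s2 s3
  have e1 : s * S.zy * s⁻¹ = a0 S := by
    have := z_conj_eq (S := S) (g := s * S.g0) (h := k) (by
      rw [hk, ← s1, y]; convert mem_zpowers _ using 1; group)
    calc _ = s * S.g0 * S.z * (s * S.g0)⁻¹ := by rw [zy]; group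
      _ = _ := by rw [this, ← e]; group
  have e2 : a0 S * (S.y⁻¹ * a0 S * S.y) * (S.y * a0 S * S.y⁻¹) = S.z := by
    have e3 : S.y = s * S.r⁻¹ * s⁻¹ := by rw [← inv_inv S.y, ← s2]; group
    calc _ = s * (S.zy * (S.r * S.zy * S.r⁻¹) * (S.r⁻¹ * S.zy * S.r)) * s⁻¹ := by
          rw [← e1, e3]; group
      _ = _ := by rw [zy_prod hy, s3, mul_inv_cancel_right]
  have yF := E_le_NF (S := S) y_mem_E
  have h1 := conj_mem_of_mem_norm yF a0_mem
  have h2 := conj_mem_of_mem_norm' yF a0_mem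
  have e4 : S.i * (S.y * a0 S * S.y⁻¹) * S.i⁻¹ = S.y⁻¹ * a0 S * S.y := by
    calc _ = S.i * S.y * S.i⁻¹ * (S.i * a0 S * S.i⁻¹) * (S.i * S.y * S.i⁻¹)⁻¹ := by group
      _ = _ := by rw [i_y, i_a0 h, inv_inv]
  have e5 : S.rh (S.y * a0 S * S.y⁻¹) = ub 13 := by
    rw [rh_conj S.y_mem' (FL a0_mem), rh_y, rh_a0, xb_ub (by decide)]; rfl
  rcases comm_i h h1 with e6 | e6
  · have := congrArg S.rh e6
    rw [rh_conj i_mem (FL h1), e5, rh_i, ib_ub (by decide)] at this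
    exact ub_ne (by decide +kernel) (by decide) (by decide +kernel) this
  · rw [e4, F_comm h1 h2] at e6
    exact hz (by rw [← e2, mul_assoc, e6, F_sq a0_mem])

end NF

open NF in
theorem Good.V_ne_F (h : S.Good) : S.V ≠ S.F := fun hV => by
  obtain ⟨g, g1, g2, g3⟩ := exists_g' h hV
  have e1 := eq_F1 h (cj_le_of_mem_norm g1 le_sup_left) g2
  have e2 := eq_F1 h (cj_le_of_mem_norm (inv_mem g1) le_sup_left) fun e => g2 (inv_mem_iff.1 e)
  have hj : g * f S * g⁻¹ ∈ S1 S ⊓ centralizer {S.i} := e1 ▸ conj_mem_cj g f_mem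
  have hw : g * S.i * g⁻¹ ∈ S.F := by
    have : S.i ∈ cj g⁻¹ S.F :=
      e2 ▸ ⟨mem_sup_right (mem_zpowers _), mem_centralizer_singleton_iff.2 rfl⟩
    rwa [mem_cj, inv_inv] at this
  have ea : g * a0 S * g⁻¹ =
      g * f S * g⁻¹ * (g * S.i * g⁻¹) * (g * f S * g⁻¹)⁻¹ * (g * S.i * g⁻¹)⁻¹ := by
    rw [a0]; nth_rewrite 2 [← F_inv f_mem]; group
  have ne : g * a0 S * g⁻¹ ≠ 1 := fun e => a0_ne (conj_eq_one_iff.1 e)
  have jF : g * f S * g⁻¹ ∉ S.F := fun e => ne (by rw [ea, F_comm e hw]; group)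
  have hv := ((mem_S1 h).1 hj.1).resolve_left jF
  have jx : g * f S * g⁻¹ * S.x * (g * f S * g⁻¹)⁻¹ = S.x⁻¹ :=
    inv_of_not_mem_C (mul_mem_cancel_right (inv_mem i_mem) |>.1 (FL hv)) fun e =>
      i_not_mem_C (inv_mem_iff.1 ((mul_mem_cancel_left e).1 (F_le_C hv)))
  have ga : g * a0 S * g⁻¹ = a0 S := by
    have hw' := conj_mem_of_mem_norm i_NF hw
    have : g * a0 S * g⁻¹ = g * S.i * g⁻¹ * (S.i * (g * S.i * g⁻¹) * S.i⁻¹) := by
      rw [ea, F_inv hw]
      generalize g * f S * g⁻¹ = j at hv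
      generalize g * S.i * g⁻¹ = w at hw hw'
      calc _ = j * S.i⁻¹ * (S.i * w * S.i⁻¹) * (j * S.i⁻¹)⁻¹ * w := by group
        _ = _ := by rw [F_comm hv hw', mul_inv_cancel_right, F_comm hw' hw]
    rcases comm_i h hw with e | e
    · exact absurd (by rw [this, e, F_sq hw]) ne
    · rw [this, e]
  obtain ⟨k, hk⟩ := S.exists_conj_x or'
  have toL : ∀ a ∈ normalizer (zpowers S.r : Set G), k⁻¹ * a * k ∈ S.L := fun a ha => by
    obtain ⟨n, e⟩ := conj_mem_of_mem_norm ha (mem_zpowers S.r)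
    refine mem_L_of ⟨n, ?_⟩
    dsimp only at e ⊢
    calc S.x ^ n = k⁻¹ * (k * S.x * k⁻¹) ^ n * k := by rw [conj_zpow]; group
      _ = _ := by rw [hk, e, ← hk]; group
  have tC : k⁻¹ * a0 S * k ∈ S.C := S.mem_C.2 (by
    calc _ = k⁻¹ * (a0 S * (k * S.x * k⁻¹)) * k := by group
      _ = k⁻¹ * (k * S.x * k⁻¹ * a0 S) * k := by rw [hk, r_a0]
      _ = _ := by group)
  have tL := S.C_le_L tC
  have t0 := (mem_C_iff.1 tC).2
  have hM := (card_cent_inv t0 (by
    rw [← rh_mul tL tL, ← rh_one (S := S)]; congr 1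
    calc _ = k⁻¹ * (a0 S * a0 S) * k := by group
      _ = 1 := by rw [F_sq a0_mem]; group) fun e => ((rh_eq_one tL).1 e).elim (fun e => a0_ne (S := S)
        (conj_eq_one_iff.1 (by rw [inv_inv, e] : k⁻¹ * a0 S * k⁻¹⁻¹ = 1))) (a0_ne_z h hk)).1
  have toM : ∀ a ∈ normalizer (zpowers S.r : Set G), a * a0 S = a0 S * a →
      S.rh (k⁻¹ * a * k) ∈ X ⊓ centralizer {S.rh (k⁻¹ * a0 S * k)} := fun a ha e =>
    ⟨rh_mem _, mem_centralizer_singleton_iff.2 (by
      rw [← rh_mul (toL a ha) tL, ← rh_mul tL (toL a ha)]; congr 1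
      calc _ = k⁻¹ * (a * a0 S) * k := by group
        _ = _ := by rw [e]; group)⟩
  have xr := nr (r_x (S := S)).symm
  have fr := nr (r_f (S := S))
  have x3 : (k⁻¹ * S.x * k) ^ 3 = 1 := by
    have := conj_pow (a := k⁻¹) (b := S.x) (i := 3)
    rw [inv_inv] at this; rw [this, S.x_cube]; group
  refine not_invert hM (e := ⟨om, om_mem_X0.1, mem_centralizer_singleton_iff.2
      ((mem_X0_iff (X0_le_Hb t0)).1 t0).symm⟩)
    (x := ⟨_, toM _ xr (S.mem_C.1 (F_le_C a0_mem)).symm⟩)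
    (f := ⟨_, toM _ fr (F_comm f_mem a0_mem)⟩) (g := ⟨_, toM _ g3 (mul_inv_eq_iff_eq_mul.1 ga)⟩)
    ?_ (fun a => ?_) (Subtype.ext ?_) (fun e => ?_) (Subtype.ext ?_) (Subtype.ext ?_)
    (Subtype.ext ?_)
  · haveI : Fact (Nat.Prime 3) := ⟨Nat.prime_three⟩
    exact orderOf_eq_prime (Subtype.ext H80.J4.om_cube) fun e => om_ne_one (congrArg Subtype.val e)
  · haveI : Finite ↥(X ⊓ centralizer {S.rh (k⁻¹ * a0 S * k)}) :=
      Nat.finite_of_card_ne_zero (by omega)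
    refine mem_normalizer_of_cj_le (cj_le_iff.2 fun _ ⟨n, e⟩ => ?_)
    obtain ⟨m, hm⟩ := conj_mem_of_mem_norm (lf_mem (S := S) a) (mem_zpowers S.x)
    have h1 : om ^ m = a * om * (a : AG)⁻¹ := by
      have := congrArg S.rh hm
      rw [rh_conj (lf_mem _) S.x_mem, rh_lf a.2.1, rh_x, S.rh_eq (zpow_mem S.x_mem m)] at this
      rw [← this, ← S.ρ_x, ← map_zpow]; rfl
    rw [← e]; dsimp only
    rw [← conj_zpow]
    exact zpow_mem (mem_zpowers_iff.2 ⟨m, Subtype.ext h1⟩) n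
  · change S.rh _ ^ 3 = 1
    rw [← rh_pow (toL _ xr), x3, rh_one]
  · obtain ⟨n, e⟩ := e
    have h1 : S.rh (S.x ^ n) = S.rh (k⁻¹ * S.x * k) := by
      rw [S.rh_eq (zpow_mem S.x_mem n)]
      refine Eq.trans ?_ (congrArg Subtype.val e)
      change _ = om ^ n
      rw [← S.ρ_x, ← map_zpow]; rfl
    have h2 := eq_of_odd (zpow_mem S.x_mem n) (toL _ xr) (n := 3) (by decide)
      (E_cube (zpow_mem x_mem_E n)) x3 h1
    refine x_not_mem_r (S := S) ⟨n, ?_⟩
    dsimp only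
    rw [← hk, conj_zpow, h2]; group
  · change S.rh _ * S.rh _ = 1
    rw [← rh_mul (toL _ fr) (toL _ fr), ← rh_one (S := S)]; congr 1
    calc _ = k⁻¹ * (f S * f S) * k := by group
      _ = 1 := by rw [F_sq f_mem]; group
  · change S.rh _ * S.rh _ = S.rh _ * S.rh _
    rw [← rh_mul (toL _ fr) (toL _ xr), ← rh_mul (toL _ xr) (toL _ fr)]; congr 1
    calc _ = k⁻¹ * (f S * S.x) * k := by group
      _ = _ := by rw [S.mem_C.1 (F_le_C f_mem)]; group
  · change S.rh _ * S.rh _ * (S.rh _)⁻¹ * S.rh _ * (S.rh _ * S.rh _ * (S.rh _)⁻¹)⁻¹ = (S.rh _)⁻¹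
    have h1 := toL _ g3
    have h2 := toL _ fr
    rw [← rh_conj h1 h2, ← rh_conj (mul_mem (mul_mem h1 h2) (inv_mem h1)) (toL _ xr),
      ← rh_inv (toL _ xr)]
    congr 1
    calc _ = k⁻¹ * (g * f S * g⁻¹ * S.x * (g * f S * g⁻¹)⁻¹) * k := by group
      _ = _ := by rw [jx]; group

end Loc

end Cfsg.Agent.J4R
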