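import Cfsg.Agent.J4R.Mod
import Cfsg.Agent.S2036
import Cfsg.Agent.ON.Gen
import Cfsg.Agent.H80.J4R

set_option autoImplicit false

namespace Cfsg.Agent.J4R

open Subgroup Cfsg.Agent.H14 Cfsg.Agent.SGJ4 AG Cfsg.Agent.H80.J4 Cfsg.Agent.H70

namespace Rho

/-- the map from `X0` onto M22 -/
def sg : X0 →* Spor.M22 where
  toFun a := ⟨a.1.p, a.2.2⟩
  map_one' := rfl
  map_mul' _ _ := rfl

theorem sg_surj : Function.Surjective sg := fun g =>
  let ⟨a, ha, e⟩ := exists_lift0 g.2; ⟨⟨a, ha⟩, Subtype.ext e⟩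

theorem mem_ker_sg {a : X0} : a ∈ sg.ker ↔ (a : AG) ∈ zpowers om := by
  rw [← X_inf_ker]
  exact ⟨fun h => ⟨a.2.1, congrArg Subtype.val h⟩, fun h => Subtype.ext h.2⟩

theorem comm_om {a b : AG} (ha : a ∈ X0) (hb : b ∈ zpowers om) : a * b = b * a := by
  obtain ⟨k, rfl⟩ := hb
  exact Commute.zpow_right ((mem_X0_iff (X0_le_Hb ha)).1 ha) k

theorem ker_sg_le : sg.ker ≤ center X0 := fun _ h =>
  mem_center_iff.2 fun b => Subtype.ext (comm_om b.2 (mem_ker_sg.1 h))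

theorem card_ker_sg : Nat.card sg.ker = 3 := by
  have := sg.ker.card_mul_index
  rw [index_ker, MonoidHom.range_eq_top.2 sg_surj, card_top, card_M22, card_X0] at this
  exact Nat.eq_of_mul_eq_mul_right (m := 443520) (by norm_num) this

theorem mem_om_of_cent {b : AG} (hb : b ∈ X0) {n : ℕ} (h3 : b ^ 3 ^ n = 1)
    (h : ∀ r ∈ Rb, r * b = b * r) : b ∈ zpowers om := by
  have := Fact.mk Nat.prime_three
  have hR : IsPGroup 3 Rb := IsPGroup.of_card (n := 3) card_Rb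
  have h1 : IsPGroup 3 (zpowers b) := by
    obtain ⟨k, -, hk⟩ := (Nat.dvd_prime_pow Nat.prime_three).1 (orderOf_dvd_of_pow_eq_one h3)
    exact IsPGroup.of_card (by rw [Nat.card_zpowers, hk])
  have h2 : IsPGroup 3 ↥(zpowers b ⊔ Rb) := h1.to_sup_of_normal_right' hR
    (zpowers_le.2 (H42.mem_normalizer_of_conj_mem fun r hr => by
      rw [← h r hr, mul_inv_cancel_right]; exact hr))
  obtain ⟨k, hk⟩ := IsPGroup.iff_card.1 h2
  have h4 := card_dvd_of_le (sup_le (zpowers_le.2 hb) Rb_le_X0)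
  rw [hk, card_X0] at h4
  have h5 : k ≤ 3 := by
    by_contra hn
    exact absurd ((pow_dvd_pow 3 (by omega : 4 ≤ k)).trans h4) (by decide)
  have h6 : Rb = zpowers b ⊔ Rb := eq_of_le_of_card_ge le_sup_right
    (by rw [hk, card_Rb]; exact Nat.pow_le_pow_right (by norm_num) h5)
  have h7 : zpowers om = (center Rb).map Rb.subtype := eq_of_le_of_card_ge
    (zpowers_le.2 ⟨⟨_, om_mem_Rb⟩, mem_center_iff.2 fun g =>
      Subtype.ext (comm_om (Rb_le_X0 g.2) (mem_zpowers _)), rfl⟩)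
    (by rw [card_subtype, (H73.isExtraspecial_of_card_eq_cube (p := 3) card_Rb
      ⟨⟨_, xb_mem⟩, ⟨_, yb_mem⟩, fun e => xb_yb_ne (congrArg Subtype.val e)⟩).2, Nat.card_zpowers,
      orderOf_om])
  rw [h7]
  exact ⟨⟨b, h6 ▸ mem_sup_left (mem_zpowers b)⟩,
    mem_center_iff.2 fun r => Subtype.ext (h r r.2), rfl⟩

/-- the central extension `C` modulo the element `z` is `X0` -/
theorem exists_eta {C : Type*} [Group C] [Finite C] (hp : Group.IsPerfect C)
    (hZ : IsCyclic (center C)) (hZc : Nat.card (center C) = 3 ∨ Nat.card (center C) = 6)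
    (e : C ⧸ center C ≃* Spor.M22) {x : C} (hx : orderOf x = 3) (hxc : x ∈ center C) :
    ∃ (z : C) (η : C →* X0), z * z = 1 ∧ z ∈ center C ∧ (Nat.card (center C) = 6 → z ≠ 1) ∧
      Function.Surjective η ∧ (∀ c, η c = 1 ↔ c = 1 ∨ c = z) ∧ (η x : AG) = om := by
  obtain ⟨w, hw⟩ := hZ.exists_generator
  have ho : orderOf (w : C) = Nat.card (center C) := by
    rw [orderOf_coe, orderOf_eq_card_of_forall_mem_zpowers hw]
  set z : C := (w : C) ^ 3 with hz
  have hzz : z * z = 1 := by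
    rw [hz, ← pow_add]
    exact orderOf_dvd_iff_pow_eq_one.1 (by rw [ho]; rcases hZc with h | h <;> rw [h] <;> norm_num)
  have hzc : z ∈ center C := pow_mem w.2 3
  have hN : (zpowers z).Normal := ⟨fun n hn g => by
    rw [mem_center_iff.1 ((zpowers_le.2 hzc) hn) g, mul_inv_cancel_right]; exact hn⟩
  have hmem : ∀ c : C, c ∈ zpowers z ↔ c = 1 ∨ c = z := fun c =>
    ⟨fun ⟨k, hk⟩ => by
      have h2 : z ^ (2 : ℤ) = 1 := by rw [zpow_two, hzz]
      rcases Int.emod_two_eq_zero_or_one k with h | h <;>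
        simp [← hk, zpow_eq_zpow_emod k h2, h],
    by rintro (rfl | rfl); exacts [one_mem _, mem_zpowers _]⟩
  let σ0 : C →* Spor.M22 := e.toMonoidHom.comp (QuotientGroup.mk' _)
  have hσ0 : ∀ c, σ0 c = 1 ↔ c ∈ center C := fun c =>
    (MulEquiv.map_eq_one_iff e).trans (QuotientGroup.eq_one_iff c)
  let σ1 : C ⧸ zpowers z →* Spor.M22 :=
    QuotientGroup.lift _ σ0 fun c hc => (hσ0 c).2 ((zpowers_le.2 hzc) hc)
  have s1 : Function.Surjective σ1 := fun m => by
    obtain ⟨c, hc⟩ := (e.surjective.comp (QuotientGroup.mk'_surjective _)) m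
    exact ⟨c, hc⟩
  obtain ⟨η', hs, hη⟩ := ON.cover_surj S2036.result (W := X0) (G := C ⧸ zpowers z)
    (isPerfect_iff.2 perfect_X0) (hp.ofSurjective (QuotientGroup.mk'_surjective _))
    sg_surj s1 ker_sg_le (fun c hc => by
      obtain ⟨c, rfl⟩ := QuotientGroup.mk_surjective c
      refine mem_center_iff.2 fun d => ?_
      obtain ⟨d, rfl⟩ := QuotientGroup.mk_surjective d
      rw [← QuotientGroup.mk_mul, ← QuotientGroup.mk_mul, mem_center_iff.1 ((hσ0 c).1 hc)]) 3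
    (fun a ha => by
      obtain ⟨k, hk⟩ := mem_ker_sg.1 ha
      exact Subtype.ext (by
        rw [coe_pow, ← hk, ← zpow_natCast, ← zpow_mul, mul_comm, zpow_mul, zpow_natCast, H80.J4.om_cube,
          one_zpow]; rfl))
    (fun c hc => by
      obtain ⟨c, rfl⟩ := QuotientGroup.mk_surjective c
      obtain ⟨k, hk⟩ := hw ⟨c, (hσ0 c).1 hc⟩
      rw [← QuotientGroup.mk_pow, QuotientGroup.eq_one_iff]
      refine ⟨k, ?_⟩
      have : c = (w : C) ^ k := (congrArg Subtype.val hk).symm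
      rw [this, hz]
      simp only [← zpow_natCast, ← zpow_mul, mul_comm])
    {Multiplicative.ofAdd 0, Multiplicative.ofAdd 1, Multiplicative.ofAdd 2} (by decide)
    (by rw [card_ker_sg]; decide)
  have hη' : ∀ a, σ1 (η' a) = sg a := fun a => DFunLike.congr_fun hη a
  have hx1 : (x : C ⧸ zpowers z) ≠ 1 := fun h => by
    have : x * x = 1 := by
      rcases (hmem x).1 ((QuotientGroup.eq_one_iff x).1 h) with h | h <;> rw [h]
      exacts [one_mul _, hzz]
    have := orderOf_dvd_of_pow_eq_one ((sq x).trans this)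
    rw [hx] at this
    omega
  obtain ⟨a, ha⟩ := hs x
  have ha' : (a : AG) ∈ zpowers om := mem_ker_sg.1 (by
    rw [MonoidHom.mem_ker, ← hη', ha]; exact (hσ0 x).2 hxc)
  have hom : η' ⟨om, om_mem_X0⟩ ≠ 1 := fun h => hx1 (by
    obtain ⟨k, hk⟩ := ha'
    rw [← ha, show a = ⟨om, om_mem_X0⟩ ^ k from Subtype.ext hk.symm, map_zpow, h, one_zpow])
  have hi : Function.Injective η' := (injective_iff_map_eq_one _).2 fun b hb => by
    rcases mem_zpowers_om.1 (mem_ker_sg.1 (show sg b = 1 by rw [← hη', hb, map_one])) with h | h | h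
    · exact Subtype.ext h
    · exact absurd ((show b = ⟨om, om_mem_X0⟩ from Subtype.ext h) ▸ hb) hom
    · refine absurd ?_ hom
      rw [show (⟨om, om_mem_X0⟩ : X0) = b⁻¹ from Subtype.ext (by
        rw [coe_inv, h, ← om_inv, inv_inv]), map_inv, hb, inv_one]
  let f := MulEquiv.ofBijective η' ⟨hi, hs⟩
  let η : C →* X0 := f.symm.toMonoidHom.comp (QuotientGroup.mk' _)
  have h1 : Function.Surjective η := f.symm.surjective.comp (QuotientGroup.mk'_surjective _)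
  have h2 : ∀ c, η c = 1 ↔ c = 1 ∨ c = z := fun c =>
    (MulEquiv.map_eq_one_iff f.symm).trans ((QuotientGroup.eq_one_iff c).trans (hmem c))
  have h3 : η x = a := f.symm_apply_eq.2 ha.symm
  have h6 : Nat.card (center C) = 6 → z ≠ 1 := fun h h' => by
    have := orderOf_dvd_of_pow_eq_one (hz ▸ h')
    rw [ho, h] at this
    omega
  rcases mem_zpowers_om.1 ha' with h | h | h
  · exact absurd (by rw [← ha, show a = 1 from Subtype.ext h, map_one]) hx1
  · exact ⟨z, η, hzz, hzc, h6, h1, h2, h3 ▸ h⟩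
  · have hn : ib ∈ normalizer (X0 : Set AG) := H42.mem_normalizer_of_conj_mem fun b hb =>
      mem_X0.2 ⟨mul_mem (mul_mem ib_mem hb.1) (inv_mem ib_mem),
        (X49.inner_conj (X_le_Hb ib_mem) (X0_le_Hb hb)).2 (mem_X0.1 hb).2⟩
    let φ := X0.normalizerMonoidHom ⟨ib, hn⟩
    refine ⟨z, φ.toMonoidHom.comp η, hzz, hzc, h6, φ.surjective.comp h1,
      fun c => (MulEquiv.map_eq_one_iff φ).trans (h2 c), ?_⟩
    change ib * (η x : AG) * ib⁻¹ = om
    rw [h3, h, ← om_inv, ← conj_inv, ib_om, inv_inv]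

section Eta

variable {G : Type*} [Group G] [Finite G] {x : G} {z : centralizer ({x} : Set G)}
  {η : centralizer ({x} : Set G) →* X0}

theorem eq_of_odd (hzz : z * z = 1) (hzc : z ∈ center _) (hk : ∀ c, η c = 1 ↔ c = 1 ∨ c = z)
    {c d : centralizer ({x} : Set G)} {n : ℕ} (hn : Odd n) (h1 : c ^ n = 1) (h2 : d ^ n = 1)
    (e : η c = η d) : c = d := by
  rcases (hk (d⁻¹ * c)).1 (by rw [map_mul, map_inv, e, inv_mul_cancel]) with h | h
  · exact (inv_mul_eq_one.1 h).symm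
  · obtain ⟨k, rfl⟩ := hn
    have h3 : c = d * z := by rw [← h, mul_inv_cancel_left]
    rw [h3, (show Commute d z from mem_center_iff.1 hzc d).mul_pow, h2, one_mul, pow_succ, pow_mul,
      sq, hzz, one_pow, one_mul] at h1
    rw [h3, h1, mul_one]

theorem mem_x (hx : orderOf x = 3) (hzz : z * z = 1) (hzc : z ∈ center _)
    (hk : ∀ c, η c = 1 ↔ c = 1 ∨ c = z)
    (hη : (η ⟨x, mem_centralizer_singleton_iff.2 rfl⟩ : AG) = om)
    {c : centralizer ({x} : Set G)} {n : ℕ} (h3 : c ^ 3 ^ n = 1) (h : (η c : AG) ∈ zpowers om) :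
    (c : G) ∈ zpowers x := by
  obtain ⟨k, hk'⟩ := h
  refine ⟨k, congrArg Subtype.val (eq_of_odd hzz hzc hk (n := 3 ^ (n + 1))
    (c := ⟨x, mem_centralizer_singleton_iff.2 rfl⟩ ^ k) (Odd.pow (by decide)) (Subtype.ext ?_)
    (by rw [pow_succ, pow_mul, h3, one_pow]) (Subtype.ext ?_))⟩
  · rw [coe_pow, coe_zpow, ← zpow_natCast, ← zpow_mul, mul_comm, zpow_mul, zpow_natCast, pow_succ',
      pow_mul, ← hx, pow_orderOf_eq_one, one_pow, one_zpow]; rfl
  · rw [map_zpow, coe_zpow, hη]; exact hk'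

theorem cases_x (hx : orderOf x = 3) {u : G} (hu : u ∈ zpowers x) (h1 : u ≠ 1) :
    u = x ∨ u = x⁻¹ := by
  obtain ⟨k, rfl⟩ := hu
  have h3 : x ^ (3 : ℤ) = 1 := by exact_mod_cast hx ▸ pow_orderOf_eq_one x
  have : k % 3 = 0 ∨ k % 3 = 1 ∨ k % 3 = 2 := by omega
  simp only [zpow_eq_zpow_emod k h3] at h1 ⊢
  rcases this with h | h | h <;> rw [h] at h1 ⊢
  · exact absurd (zpow_zero x) h1
  · exact Or.inl (zpow_one x)
  · exact Or.inr (eq_inv_of_mul_eq_one_left (by rw [← zpow_add_one]; exact h3))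

/-- a Sylow 3-subgroup whose centre lies in `⟨x⟩` -/
theorem exists_syl (hx : orderOf x = 3) (hzz : z * z = 1) (hzc : z ∈ center _)
    (hs : Function.Surjective η) (hk : ∀ c, η c = 1 ↔ c = 1 ∨ c = z)
    (hη : (η ⟨x, mem_centralizer_singleton_iff.2 rfl⟩ : AG) = om) :
    ∃ P : Sylow 3 G, ∀ t ∈ P, (∀ s ∈ P, s * t = t * s) → t ∈ zpowers x := by
  have := Fact.mk Nat.prime_three
  let A := (Rb.subgroupOf X0).comap η
  let f : A →* Rb := (X0.subtype.comp (η.comp A.subtype)).codRestrict Rb fun a => a.2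
  have hf : Function.Surjective f := fun r => by
    obtain ⟨c, hc⟩ := hs ⟨r, Rb_le_X0 r.2⟩
    exact ⟨⟨c, show (η c : AG) ∈ Rb from hc ▸ r.2⟩, Subtype.ext (congrArg (fun u : X0 => (u : AG)) hc)⟩
  obtain ⟨Q⟩ : Nonempty (Sylow 3 A) := inferInstance
  have hQ : (Q : Subgroup A).map f = ⊤ :=
    ((Q.mapSurjective hf).is_maximal' ((IsPGroup.of_card (n := 3) card_Rb).to_subgroup ⊤) le_top).symm
  obtain ⟨P, hP⟩ := ((Q.isPGroup'.map A.subtype).map (centralizer ({x} : Set G)).subtype).exists_le_sylow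
  have hl : ∀ r ∈ Rb, ∃ c : centralizer ({x} : Set G), (c : G) ∈ P ∧ (η c : AG) = r := fun r hr => by
    obtain ⟨q, hq, e⟩ := hQ.ge (mem_top ⟨r, hr⟩)
    exact ⟨q, hP ⟨q, ⟨q, hq, rfl⟩, rfl⟩, congrArg Subtype.val e⟩
  have hpow : ∀ c : centralizer ({x} : Set G), (c : G) ∈ P → ∃ n : ℕ, c ^ 3 ^ n = 1 := fun c hc =>
    let ⟨n, hn⟩ := P.isPGroup' ⟨c, hc⟩; ⟨n, Subtype.ext (congrArg (fun u : P => (u : G)) hn)⟩
  refine ⟨P, fun t ht hc => ?_⟩
  obtain ⟨c, hcP, e⟩ := hl om om_mem_Rb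
  obtain ⟨n, hn⟩ := hpow c hcP
  have htx : t ∈ centralizer ({x} : Set G) := mem_centralizer_singleton_iff.2 (by
    rcases cases_x hx (mem_x hx hzz hzc hk hη hn (e ▸ mem_zpowers _)) (fun h => om_ne_one (by
      rw [← e, show c = 1 from Subtype.ext h, map_one]; rfl)) with h | h
    · rw [← h, hc c hcP]
    · rw [← inv_inv x, ← h, hc _ (inv_mem hcP)])
  obtain ⟨m, hm⟩ := hpow ⟨t, htx⟩ ht
  refine mem_x hx hzz hzc hk hη hm (mem_om_of_cent (η _).2 (n := m) ?_ fun r hr => ?_)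
  · rw [← coe_pow, ← map_pow, hm, map_one]; rfl
  · obtain ⟨d, hd, rfl⟩ := hl r hr
    rw [← coe_mul, ← coe_mul, ← map_mul, ← map_mul]
    exact congrArg (fun u => (η u : AG)) (Subtype.ext (hc d hd))

end Eta

/-- a conjugate of `x` in `C(x)` outside `⟨x⟩` -/
theorem exists_conj {G : Type*} [Group G] [Finite G] {x : G} (hx : orderOf x = 3) (P₁ : Sylow 3 G)
    (h₁ : ∀ t ∈ P₁, (∀ s ∈ P₁, s * t = t * s) → t ∈ zpowers x) (P : Sylow 3 G) (g : G)
    (hng : ((center ↥(P : Subgroup G)).map (P : Subgroup G).subtype).map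
      (MulAut.conj g).toMonoidHom ≤ (P : Subgroup G))
    (hne : ((center ↥(P : Subgroup G)).map (P : Subgroup G).subtype).map
      (MulAut.conj g).toMonoidHom ≠ (center ↥(P : Subgroup G)).map (P : Subgroup G).subtype) :
    ∃ h : G, h * x * h⁻¹ ∈ centralizer ({x} : Set G) ∧ h * x * h⁻¹ ∉ zpowers x := by
  have := Fact.mk Nat.prime_three
  obtain ⟨k, rfl⟩ := MulAction.exists_smul_eq G P P₁
  have hk : ∀ s, s ∈ k • P ↔ k⁻¹ * s * k ∈ P := fun s => by
    change s ∈ ((k • P : Sylow 3 G) : Subgroup G) ↔ _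
    rw [Sylow.coe_subgroup_smul, mem_pointwise_smul_iff_inv_smul_mem]
    simp; rfl
  obtain ⟨_, ⟨_, ⟨t, ht, rfl⟩, rfl⟩, hn⟩ := SetLike.not_le_iff_exists.1 fun h =>
    hne (eq_of_le_of_card_ge h (card_map_of_injective (MulAut.conj g).injective).ge)
  have h2 : g * t * g⁻¹ ∈ P := hng ⟨_, ⟨t, ht, rfl⟩, rfl⟩
  have h3 : ∀ s ∈ k • P, s * (k * t * k⁻¹) = k * t * k⁻¹ * s := fun s hs => by
    have := congrArg Subtype.val (mem_center_iff.1 ht ⟨_, (hk s).1 hs⟩)
    simp only [coe_mul] at this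
    calc _ = k * (k⁻¹ * s * k * t) * k⁻¹ := by group
      _ = _ := by rw [this]; group
  have h4 := cases_x hx (h₁ _ ((hk _).2 (by simp [mul_assoc])) h3) fun h => hn (by
    rw [show t = 1 from Subtype.ext (by simpa using h)]; simp)
  have h5 : ∀ s ∈ k • P, s * x = x * s := fun s hs => by
    rcases h4 with h | h
    · rw [← h, h3 s hs]
    · rw [← inv_inv x, ← h]; exact ((show Commute s _ from h3 s hs).inv_right).eq
  have h6 : k * (g * t * g⁻¹) * k⁻¹ ∈ k • P := (hk _).2 (by simpa [mul_assoc] using h2)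
  have h7 : k * (g * t * g⁻¹) * k⁻¹ ∉ zpowers x := fun ⟨n, h⟩ => hn ⟨⟨_, h2⟩,
    mem_center_iff.2 fun s => Subtype.ext (by
      have := (show Commute (k * s * k⁻¹) x from
        h5 _ ((hk _).2 (by simp [mul_assoc]))).zpow_right n
      simp only at h
      rw [h] at this
      simpa [mul_assoc] using congrArg (fun u => k⁻¹ * u * k) this.eq), rfl⟩
  refine ⟨k * g * k⁻¹, ?_⟩
  rcases h4 with h | h
  · rw [show k * g * k⁻¹ * x * (k * g * k⁻¹)⁻¹ = k * (g * t * g⁻¹) * k⁻¹ by rw [← h]; group]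
    exact ⟨mem_centralizer_singleton_iff.2 (h5 _ h6), h7⟩
  · rw [show k * g * k⁻¹ * x * (k * g * k⁻¹)⁻¹ = (k * (g * t * g⁻¹) * k⁻¹)⁻¹ by
      rw [← inv_inv x, ← h]; group]
    exact ⟨inv_mem (mem_centralizer_singleton_iff.2 (h5 _ h6)), fun h => h7 (inv_mem_iff.1 h)⟩

end Rho

end Cfsg.Agent.J4R
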