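import Cfsg.Agent.J4R.Mod
import Cfsg.Agent.S2036
import Cfsg.Agent.J4R.Rho1

set_option autoImplicit false

namespace Cfsg.Agent.J4R

open Subgroup Cfsg.Agent.H14 Cfsg.Agent.SGJ4 AG Cfsg.Agent.H80.J4 Cfsg.Agent.H70

namespace Rho

/-- extension of `η` to the normaliser of `⟨x⟩` -/
theorem exists_rho {G : Type*} [Group G] [Finite G] {x l : G} (hx : orderOf x = 3)
    (hp : Group.IsPerfect (centralizer ({x} : Set G))) {z : centralizer ({x} : Set G)}
    {η : centralizer ({x} : Set G) →* X0} (hzc : z ∈ center _) (hs : Function.Surjective η)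
    (hk : ∀ c, η c = 1 ↔ c = 1 ∨ c = z)
    (hη : (η ⟨x, mem_centralizer_singleton_iff.2 rfl⟩ : AG) = om) (hl : l * x * l⁻¹ = x⁻¹) :
    ∃ ρ : normalizer (zpowers x : Set G) →* AG, ρ.range = X ∧
      (∀ n, ρ n = 1 → (n : G) ∈ centralizer ({x} : Set G)) ∧
      ∀ (n : normalizer (zpowers x : Set G)) (h : (n : G) ∈ centralizer ({x} : Set G)),
        ρ n = η ⟨n, h⟩ := by
  have hxC : x ∈ centralizer ({x} : Set G) := mem_centralizer_singleton_iff.2 rfl
  have hl' : l⁻¹ * x * l = x⁻¹ := by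
    calc _ = l⁻¹ * (l * x * l⁻¹)⁻¹ * l := by rw [hl, inv_inv]
      _ = _ := by group
  have hlx : ∀ {u : G}, u * x * u⁻¹ = x⁻¹ → u * l⁻¹ ∈ centralizer ({x} : Set G) := fun {u} hu =>
    mem_centralizer_singleton_iff.2 (mul_inv_eq_iff_eq_mul.1 (by
      calc _ = u * (l⁻¹ * x * l) * u⁻¹ := by group
        _ = _ := by rw [hl', ← conj_inv, hu, inv_inv]))
  have hN : l ∈ normalizer (centralizer ({x} : Set G) : Set G) :=
    H42.mem_normalizer_of_conj_mem fun c hc => mem_centralizer_singleton_iff.2 (by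
      have h1 : c * x⁻¹ = x⁻¹ * c :=
        (show Commute c x from mem_centralizer_singleton_iff.1 hc).inv_right.eq
      calc _ = l * (c * (l⁻¹ * x * l)) * l⁻¹ := by group
        _ = l * ((l⁻¹ * x * l) * c) * l⁻¹ := by rw [hl', h1]
        _ = _ := by group)
  let α := (centralizer ({x} : Set G)).normalizerMonoidHom ⟨l, hN⟩
  have hα : ∀ c, (α c : G) = l * c * l⁻¹ := fun c => rfl
  have hτ : Function.Surjective (sg.comp η) := sg_surj.comp hs
  have hker : ∀ c, sg (η c) = 1 ↔ c ∈ center _ := fun c => by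
    refine ⟨fun h => ?_, fun h => center_M22.le (mem_center_iff.2 fun m => ?_)⟩
    · obtain ⟨k, hk'⟩ := mem_ker_sg.1 h
      have hc : (⟨x, hxC⟩ : centralizer ({x} : Set G)) ^ k ∈ center _ := zpow_mem
        (mem_center_iff.2 fun c => Subtype.ext (mem_centralizer_singleton_iff.1 c.2)) k
      rw [← mul_mem_cancel_left (inv_mem hc)]
      rcases (hk ((⟨x, hxC⟩ ^ k)⁻¹ * c)).1 (by
        rw [map_mul, map_inv, inv_mul_eq_one, map_zpow]
        exact Subtype.ext (by rw [coe_zpow, hη]; exact hk')) with h | h <;> rw [h]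
      exacts [one_mem _, hzc]
    · obtain ⟨d, rfl⟩ := hτ m
      rw [MonoidHom.comp_apply, ← map_mul, ← map_mul, ← map_mul, ← map_mul, mem_center_iff.1 h]
  obtain ⟨c0, h0⟩ := ON.exists_ind hτ α fun c hc => (hker _).2 (mem_center_iff.2 fun d => by
    rw [← α.apply_symm_apply d, ← map_mul, mem_center_iff.1 ((hker c).1 hc), map_mul])
  obtain ⟨f, hf⟩ := exists_autM22
  obtain ⟨a, ha, hap⟩ := X49.exists_lift _ (f.symm c0).2
  have han : a ∈ normalizer (X0 : Set AG) := H42.mem_normalizer_of_conj_mem fun b hb =>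
    mem_X0.2 ⟨mul_mem (mul_mem ha hb.1) (inv_mem ha),
      (X49.inner_conj (X_le_Hb ha) (X0_le_Hb hb)).2 (mem_X0.1 hb).2⟩
  have key : ∀ c, (η (α c) : AG) = a * η c * a⁻¹ := fun c => congrArg Subtype.val
    (DFunLike.congr_fun (H81.lift_unique_of_perfect hp ker_sg_le (φ := η.comp α.toMonoidHom)
      (ψ := (X0.normalizerMonoidHom ⟨a, han⟩).toMonoidHom.comp η) (MonoidHom.ext fun c =>
        Subtype.ext (by
          have := hf (f.symm c0) (sg (η c))
          rw [f.apply_symm_apply, ← hap] at this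
          exact (congrArg Subtype.val (h0 c)).symm.trans this))) c)
  have hout : ¬ Inner a := fun hi => om_ne_inv (by
    have := key ⟨x, hxC⟩
    rw [show α ⟨x, hxC⟩ = ⟨x, hxC⟩⁻¹ from Subtype.ext hl, map_inv, coe_inv, hη, inner_comm ha hi,
      mul_inv_cancel_right] at this
    exact this.symm)
  have hll : l * l ∈ centralizer ({x} : Set G) := by
    simpa using inv_mem (hlx (u := l⁻¹) (by rw [inv_inv, hl']))
  have haa : (η ⟨_, hll⟩ : AG) = a * a := by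
    have h1 : ((a * a)⁻¹ * η ⟨_, hll⟩).p = 1 :=
      X49.eq_one_of_cent (X49.p_mem_X _ (mul_mem (inv_mem (mul_mem ha ha)) (η _).2.1)).1
        fun m hm => by
          obtain ⟨c, hc⟩ := hτ ⟨m, hm⟩
          have h2 : (η (α (α c)) : AG) = η ⟨_, hll⟩ * η c * (η ⟨_, hll⟩ : AG)⁻¹ := by
            rw [show α (α c) = ⟨_, hll⟩ * c * ⟨_, hll⟩⁻¹ from Subtype.ext (by
              simp [hα, mul_assoc]), map_mul, map_mul, map_inv]; rfl
          rw [key, key] at h2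
          rw [← show (η c : AG).p = m from congrArg Subtype.val hc, ← mul_p, ← mul_p]
          congr 1
          calc _ = (a * a)⁻¹ * (η ⟨_, hll⟩ * η c * (η ⟨_, hll⟩ : AG)⁻¹) * η ⟨_, hll⟩ := by group
            _ = _ := by rw [← h2]; group
    have h2 := key ⟨_, hll⟩
    rw [show α ⟨_, hll⟩ = ⟨_, hll⟩ from Subtype.ext (by simp [hα, mul_assoc])] at h2
    have h3 : a * ((a * a)⁻¹ * η ⟨_, hll⟩) * a⁻¹ = (a * a)⁻¹ * η ⟨_, hll⟩ := by
      conv_rhs => rw [h2]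
      group
    have h4 : a * om * a⁻¹ = om⁻¹ := by rw [outer_comm ha hout, mul_inv_cancel_right]
    rcases X49.ker_X (mul_mem (inv_mem (mul_mem ha ha)) (η _).2.1) h1 with h | h | h
    · exact (inv_mul_eq_one.1 h).symm
    · exact absurd (by rw [← h4, ← h, h3]) om_ne_inv
    · rw [h, ← om_inv, ← conj_inv, h4, inv_inv] at h3
      exact absurd h3 om_ne_inv
  have hlC : l ∉ centralizer ({x} : Set G) := fun h => by
    rw [mem_centralizer_singleton_iff.1 h, mul_inv_cancel_right, eq_inv_iff_mul_eq_one, ← sq] at hl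
    have := orderOf_dvd_of_pow_eq_one hl
    rw [hx] at this
    omega
  let R : G → AG → Prop := fun n u => ∃ c : centralizer ({x} : Set G),
    (n = c ∧ u = η c) ∨ (n = c * l ∧ u = η c * a)
  have hR1 : ∀ n : normalizer (zpowers x : Set G), ∃ u, R n u := fun n => by
    rcases cases_x hx ((mem_normalizer_iff.1 n.2 x).1 (mem_zpowers x)) (fun h => by
      simp [conj_eq_one_iff.1 h] at hx) with h | h
    · exact ⟨_, ⟨n, mem_centralizer_singleton_iff.2 (mul_inv_eq_iff_eq_mul.1 h)⟩, Or.inl ⟨rfl, rfl⟩⟩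
    · exact ⟨_, ⟨_, hlx h⟩, Or.inr ⟨by simp, rfl⟩⟩
  have hR2 : ∀ n u u', R n u → R n u' → u = u' := by
    rintro _ _ _ ⟨c, ⟨rfl, rfl⟩ | ⟨rfl, rfl⟩⟩ ⟨d, ⟨h, rfl⟩ | ⟨h, rfl⟩⟩
    · rw [Subtype.ext h]
    · exact absurd ((mul_mem_cancel_left d.2).1 (h ▸ c.2)) hlC
    · exact absurd ((mul_mem_cancel_left c.2).1 (h ▸ d.2)) hlC
    · rw [Subtype.ext (mul_right_cancel h)]
  have hR3 : ∀ n u n' u', R n u → R n' u' → R (n * n') (u * u') := by
    rintro _ _ _ _ ⟨c, ⟨rfl, rfl⟩ | ⟨rfl, rfl⟩⟩ ⟨d, ⟨rfl, rfl⟩ | ⟨rfl, rfl⟩⟩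
    · exact ⟨c * d, Or.inl ⟨rfl, by simp⟩⟩
    · exact ⟨c * d, Or.inr ⟨by simp [mul_assoc], by simp [mul_assoc]⟩⟩
    · exact ⟨c * α d, Or.inr ⟨by simp [hα, mul_assoc], by simp [key, mul_assoc]⟩⟩
    · exact ⟨c * α d * ⟨_, hll⟩, Or.inl ⟨by simp [hα, mul_assoc], by simp [key, haa, mul_assoc]⟩⟩
  choose r hr using hR1
  refine ⟨MonoidHom.mk' r fun n n' => hR2 _ _ _ (hr _) (hR3 _ _ _ _ (hr n) (hr n')),
    le_antisymm ?_ fun u hu => ?_, fun n hn => ?_,
    fun n h => hR2 _ _ _ (hr n) ⟨⟨n, h⟩, Or.inl ⟨rfl, rfl⟩⟩⟩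
  · rintro _ ⟨n, rfl⟩
    change r n ∈ X
    obtain ⟨c, ⟨-, h⟩ | ⟨-, h⟩⟩ := hr n <;> rw [h]
    exacts [(η c).2.1, mul_mem (η c).2.1 ha]
  · have hCL : ∀ c : centralizer ({x} : Set G), (c : G) ∈ normalizer (zpowers x : Set G) :=
      fun c => H42.mem_normalizer_of_conj_mem fun _ ⟨k, h⟩ => by
        rw [← h, ((show Commute (c : G) x from mem_centralizer_singleton_iff.1 c.2).zpow_right k).eq,
          mul_inv_cancel_right]
        exact ⟨k, rfl⟩
    have hlL : l ∈ normalizer (zpowers x : Set G) :=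
      H42.mem_normalizer_of_conj_mem fun _ ⟨k, h⟩ => by
        rw [← h, ← conj_zpow, hl]
        exact zpow_mem (inv_mem (mem_zpowers x)) k
    by_cases hi : Inner u
    · obtain ⟨c, hc⟩ := hs ⟨u, mem_X0.2 ⟨hu, hi⟩⟩
      exact ⟨⟨c, hCL c⟩, hR2 _ _ _ (hr _) ⟨c, Or.inl ⟨rfl, by rw [hc]⟩⟩⟩
    · obtain ⟨c, hc⟩ := hs ⟨u * a⁻¹, mem_X0.2 ⟨mul_mem hu (inv_mem ha),
        (inner_mul (X_le_Hb hu) (X_le_Hb (inv_mem ha))).2
          (iff_of_false hi (mt (X49.inner_inv (X_le_Hb ha)).1 hout))⟩⟩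
      exact ⟨⟨c * l, mul_mem (hCL c) hlL⟩, hR2 _ _ _ (hr _) ⟨c, Or.inr ⟨rfl, by simp [hc]⟩⟩⟩
  · obtain ⟨c, ⟨h, -⟩ | ⟨-, h⟩⟩ := hr n
    · exact h ▸ c.2
    · refine absurd (mem_X0.1 ((mul_mem_cancel_left (η c).2).1 ?_)).2 hout
      rw [← h, show r n = 1 from hn]
      exact one_mem _

end Rho

open Rho in
theorem exists_loc {G : Type*} [Group G] [Finite G] (x : G) (hx : orderOf x = 3)
    (hperf : ⁅(⊤ : Subgroup ↥(centralizer ({x} : Set G))),
      (⊤ : Subgroup ↥(centralizer ({x} : Set G)))⁆ = ⊤)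
    (hZ : IsCyclic ↥(center ↥(centralizer ({x} : Set G))))
    (hZc : Nat.card ↥(center ↥(centralizer ({x} : Set G))) = 3 ∨
      Nat.card ↥(center ↥(centralizer ({x} : Set G))) = 6)
    (e : ↥(centralizer ({x} : Set G)) ⧸ center ↥(centralizer ({x} : Set G)) ≃* ↥Spor.M22)
    (P : Sylow 3 G) (g : G)
    (hng : ((center ↥(P : Subgroup G)).map (P : Subgroup G).subtype).map
      (MulAut.conj g).toMonoidHom ≤ (P : Subgroup G))
    (hne : ((center ↥(P : Subgroup G)).map (P : Subgroup G).subtype).map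
      (MulAut.conj g).toMonoidHom ≠ (center ↥(P : Subgroup G)).map (P : Subgroup G).subtype) :
    ∃ S : Loc G, S.x = x ∧ ⁅S.C, S.C⁆ = S.C ∧
      (Nat.card ↥(center ↥(centralizer ({x} : Set G))) = 6 → S.z ≠ 1) := by
  have hp : Group.IsPerfect (centralizer ({x} : Set G)) := ⟨hperf⟩
  have hxC : x ∈ centralizer ({x} : Set G) := mem_centralizer_singleton_iff.2 rfl
  have hxc : (⟨x, hxC⟩ : centralizer ({x} : Set G)) ∈ center _ :=
    mem_center_iff.2 fun c => Subtype.ext (mem_centralizer_singleton_iff.1 c.2)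
  obtain ⟨z, η, hzz, hzc, h6, hs, hk, hη⟩ :=
    exists_eta hp hZ hZc e ((orderOf_mk _ _).trans hx) hxc
  obtain ⟨P₁, h₁⟩ := exists_syl hx hzz hzc hs hk hη
  obtain ⟨h, hh, hh'⟩ := exists_conj hx P₁ h₁ P g hng hne
  have hx3 : x ^ 3 = 1 := hx ▸ pow_orderOf_eq_one x
  have three : ∀ c : centralizer ({x} : Set G), c ^ 3 = 1 → (c : G) ∉ zpowers x →
      ∃ d, (η (d * c * d⁻¹) : AG) = xb := fun c hc hn => by
    rcases three_X0 (η c).2 (show (pr (η c)) ^ 3 = 1 by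
      rw [← map_pow, ← coe_pow, ← map_pow, hc, map_one]; rfl) with h | ⟨b, hb, h⟩
    · exact absurd (mem_x hx hzz hzc hk hη (n := 1) hc h) hn
    · obtain ⟨d, hd⟩ := hs ⟨b, hb⟩
      exact ⟨d, by rw [map_mul, map_mul, map_inv, hd]; exact h⟩
  obtain ⟨d, hd⟩ := three ⟨_, hh⟩ (Subtype.ext (by rw [coe_pow, conj_pow, hx3]; simp)) hh'
  set y := d * ⟨_, hh⟩ * d⁻¹ with hy
  have hy0 : (y : G) = d * h * x * (d * h)⁻¹ := by simp [hy, mul_assoc]
  have hy3 : y ^ 3 = 1 := Subtype.ext (by rw [coe_pow, hy0, conj_pow, hx3]; simp)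
  obtain ⟨c, hc⟩ := three y⁻¹ (by rw [inv_pow, hy3, inv_one]) fun ⟨k, hk'⟩ => by
    have h1 : y⁻¹ = ⟨x, hxC⟩ ^ k := Subtype.ext hk'.symm
    have h2 : xb⁻¹ ∈ zpowers om := ⟨k, by rw [← hd, ← coe_inv, ← map_inv, h1, map_zpow, coe_zpow, hη]⟩
    have h3 : xb.p = 1 := (X_inf_ker.ge (inv_mem_iff.1 h2)).2
    simpa [← xb_p, h3] using orderOf_xt
  have hc' : c * y⁻¹ * c⁻¹ = y := eq_of_odd hzz hzc hk (n := 3) (by decide)
    (by rw [conj_pow, inv_pow, hy3]; simp) hy3 (Subtype.ext (hc.trans hd.symm))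
  obtain ⟨l, hl⟩ : ∃ l : G, l * x * l⁻¹ = x⁻¹ := ⟨(d * h)⁻¹ * c * (d * h), by
    have := congrArg Subtype.val hc'
    rw [coe_mul, coe_mul, coe_inv, coe_inv, hy0] at this
    rw [← inv_inj, inv_inv]
    calc _ = (d * h)⁻¹ * (c * (d * h * x * (d * h)⁻¹)⁻¹ * (c : G)⁻¹) * (d * h) := by group
      _ = _ := by rw [this]; group⟩
  obtain ⟨ρ, h1, h2, h3⟩ := exists_rho hx hp hzc hs hk hη hl
  have hCL : centralizer ({x} : Set G) ≤ normalizer (zpowers x : Set G) :=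
    fun c hc => H42.mem_normalizer_of_conj_mem fun _ ⟨k, h⟩ => by
      rw [← h, ((show Commute c x from mem_centralizer_singleton_iff.1 hc).zpow_right k).eq,
        mul_inv_cancel_right]
      exact ⟨k, rfl⟩
  have hyC : d * h * x * (d * h)⁻¹ ∈ centralizer ({x} : Set G) := hy0 ▸ y.2
  refine ⟨⟨x, z, d * h, ρ, hx, congrArg Subtype.val hzz, hCL z.2, h1, fun n => ⟨fun hn => ?_, ?_⟩,
    (h3 _ hxC).trans hη, hCL hyC, (h3 _ hyC).trans ?_⟩, rfl,
    isPerfect_iff.1 hp, fun h e => h6 h (Subtype.ext e)⟩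
  · have h4 := h3 n (h2 n hn)
    rw [hn] at h4
    exact ((hk _).1 (Subtype.ext h4.symm)).imp (congrArg Subtype.val) (congrArg Subtype.val)
  · rintro (h | h)
    · rw [show n = 1 from Subtype.ext h, map_one]
    · rw [h3 n (h ▸ z.2), (hk _).2 (Or.inr (by exact Subtype.ext h))]; rfl
  · rw [← hd]
    exact congrArg (fun u => (η u : AG)) (Subtype.ext hy0.symm)

end Cfsg.Agent.J4R
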